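import Cfsg.Agent.Mrg.Omega.NO3S.MFive.TSix
import Cfsg.Agent.Mrg.Omega.NSix.CaseJ.Exact
import Cfsg.Agent.Mrg.Omega.NO3S.TwoA.Off
import Cfsg.Agent.Mrg.Omega.Lin.OutDef
import Cfsg.Agent.Mrg.Omega.NO3S.SN.TwoP.NoOver
import Cfsg.Agent.Mrg.Omega.NO3S.SN.TwoP.Five
import Cfsg.Agent.Mrg.Omega.SQ1.Choice
import Cfsg.Agent.Mrg.Omega.NTwo.Core
import Cfsg.Agent.Mrg.Omega.NO3S.LightB.Facts
import Cfsg.Agent.Mrg.Omega.Node.SymG
import Cfsg.Agent.Mrg.Omega.Node.MulG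
import Cfsg.Agent.Mrg.Omega.NO3S.Sym.Light
import Cfsg.Agent.Mrg.Omega.NO3S.SN2.Small.Top
import Cfsg.Agent.Mrg.Omega.LFive.Frame
import Cfsg.Agent.Mrg.Omega.Node.CaseLPEnds
import Cfsg.Agent.Mrg.Omega.Node.ELXUni
import Cfsg.Agent.Mrg.Omega.KL.StarQ.GrpD
import Cfsg.Agent.Mrg.Omega.ML.LieTwF4
import Cfsg.Agent.Mrg.Omega.EK3.Rank
import Cfsg.Agent.Mrg.Omega.NO3b.Exit.BlkBP
import Cfsg.Agent.Omega.NO3S.MFive.Wab
import Cfsg.Agent.ZN.CaseTwo

-- merged: Cfsg.Agent.Mrg.Omega.NO3S.TwoA.Mem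
section

section


/-!
# LightL, `n = 5`: members of `A(O₂(C_G(z_a z_b, z_c z_d)))` acting as `⟨(a b)⟩` (helper411 #25060 (A), helper433 #26100 (0))

* `Lt` : the letters;
* `mem` : if some `A ∈ A(O₂(C_G(z_1 z_2, z_3 z_4)))` moves `V`, then for all distinct `a b c d` there is
  `A' ∈ A(O₂(C_G(z_a z_b, z_c z_d)))` acting on `V` as `⟨(a b)⟩`.
-/

set_option autoImplicit false
set_option linter.unusedSectionVars false

namespace Cfsg.Agent.Omega.NO3S.TwoA

open Subgroup Cfsg Cfsg.Agent.PLocal.ThompsonJ Cfsg.Agent.ZN Cfsg.Agent.ZN.ChoiceBase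
open Cfsg.Agent.ZN.ChoiceSit Cfsg.Agent.PLocal.ElemAbSup
open Cfsg.Agent.Omega.SQ1.Bau (mem_AA_of_comm elem_comm elem_sq mem_sup_comm card_sup_comm)
open Cfsg.Agent.Omega.NSix.CaseJ.Exact (two_mul_card_le card_le_two sup_elem)
open Cfsg.Agent.Omega.NO3S.MFive (perm_four)

universe u

variable {G : Type u} [Group G]

/-- `C_G(z_a z_b, z_c z_d)` -/
def Dd (z : Fin 5 → G) (a b c d : Fin 5) : Subgroup G := centralizer {z a * z b, z c * z d}

theorem Dd_symm (z : Fin 5 → G) (a b c d : Fin 5) : Dd z a b c d = Dd z c d a b := by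
  unfold Dd
  rw [Set.pair_comm]

/-- the letters -/
structure Lt (z : Fin 5 → G) (L : Subgroup G) : Prop where
  sq : ∀ a, z a * z a = 1
  comm : ∀ a b, z a * z b = z b * z a
  prod : z 0 = z 1 * z 2 * z 3 * z 4
  inj : Function.Injective z
  ne1 : ∀ a, z a ≠ 1
  act : ∀ g ∈ L, ∃ σ : Equiv.Perm (Fin 5), ∀ a, g * z a * g⁻¹ = z (σ a)
  full : ∀ σ : Equiv.Perm (Fin 5), ∃ g ∈ L, ∀ a, g * z a * g⁻¹ = z (σ a)
  VO : ∀ a, z a ∈ o2 (Dd z 1 2 3 4)
  OL : o2 (Dd z 1 2 3 4) ≤ L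

namespace Lt

variable {z : Fin 5 → G} {L : Subgroup G} (h : Lt z L)
include h

/-- `z_i z_j = z_p z_q`: `i ∈ {p, q}`. -/
theorem pair {i j p q : Fin 5} (hij : i ≠ j) (hpq : p ≠ q) (e : z i * z j = z p * z q) : i = p ∨ i = q := by
  by_contra hcon
  push Not at hcon
  obtain ⟨hip, hiq⟩ := hcon
  by_cases hjp : j = p
  · subst hjp
    rw [h.comm i j] at e
    exact hiq (h.inj (mul_left_cancel e))
  by_cases hjq : j = q
  · subst hjq
    exact hip (h.inj (mul_right_cancel e))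
  obtain ⟨σ, h0, h1, h2, h3⟩ : ∃ σ : Equiv.Perm (Fin 5), σ 0 = i ∧ σ 1 = j ∧ σ 2 = p ∧ σ 3 = q := by
    have key : ∀ i j p q : Fin 5, i ≠ j → p ≠ q → i ≠ p → i ≠ q → j ≠ p → j ≠ q →
        ∃ k : Fin 5, Function.Bijective ![i, j, p, q, k] := by decide
    obtain ⟨k, hk⟩ := key i j p q hij hpq hip hiq hjp hjq
    exact ⟨Equiv.ofBijective _ hk, rfl, rfl, rfl, rfl⟩
  have hVc : closure (Set.range z) ≤ centralizer (closure (Set.range z) : Set G) := by
    rw [closure_le]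
    rintro _ ⟨a, rfl⟩
    rw [SetLike.mem_coe, centralizer_closure, mem_centralizer_iff]
    rintro _ ⟨b, rfl⟩
    exact h.comm b a
  let _ : CommGroup (closure (Set.range z)) := { (inferInstance : Group (closure (Set.range z))) with
    mul_comm := fun a b => Subtype.ext (mem_centralizer_iff.1 (hVc b.2) a a.2) }
  let w : Fin 5 → closure (Set.range z) := fun a => ⟨z a, subset_closure ⟨a, rfl⟩⟩
  have hw : ∏ a, w a = 1 := by
    rw [Fin.prod_univ_five]
    apply Subtype.ext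
    change z 0 * z 1 * z 2 * z 3 * z 4 = 1
    rw [mul_assoc (z 0), mul_assoc (z 0), mul_assoc (z 0), ← h.prod]
    exact h.sq 0
  have hw2 := Equiv.prod_comp σ w
  rw [hw, Fin.prod_univ_five, h0, h1, h2, h3] at hw2
  have h4 := congrArg (Subtype.val) hw2
  change z i * z j * z p * z q * z (σ 4) = 1 at h4
  rw [mul_assoc (z i * z j), ← e] at h4
  have h5 : z i * z j * (z i * z j) = 1 := by
    calc z i * z j * (z i * z j) = z i * (z j * z i) * z j := by group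
      _ = z i * (z i * z j) * z j := by rw [h.comm i j]
      _ = (z i * z i) * (z j * z j) := by group
      _ = 1 := by rw [h.sq, h.sq, one_mul]
  rw [h5, one_mul] at h4
  exact h.ne1 _ h4

theorem pair_perm {g : G} {σ : Equiv.Perm (Fin 5)} (hσ : ∀ a, g * z a * g⁻¹ = z (σ a)) {a b : Fin 5} (hab : a ≠ b)
    (hg : g * (z a * z b) = z a * z b * g) : σ a = a ∨ σ a = b := by
  refine h.pair (i := σ a) (j := σ b) (fun e => hab (σ.injective e)) hab ?_
  rw [← hσ a, ← hσ b]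
  calc g * z a * g⁻¹ * (g * z b * g⁻¹) = g * (z a * z b) * g⁻¹ := by group
    _ = z a * z b := by rw [hg, mul_inv_cancel_right]

theorem inv (a : Fin 5) : (z a)⁻¹ = z a := inv_eq_of_mul_eq_one_left (h.sq a)

/-- the action of an element of `O₂(C_G(z_1 z_2, z_3 z_4))` -/
theorem two {g : G} (hg : g ∈ Dd z 1 2 3 4) (hL : g ∈ L) : ∃ σ : Equiv.Perm (Fin 5), (∀ a, g * z a * g⁻¹ = z (σ a)) ∧
    σ 0 = 0 ∧ ((σ 1 = 1 ∧ σ 2 = 2) ∨ (σ 1 = 2 ∧ σ 2 = 1)) ∧ ((σ 3 = 3 ∧ σ 4 = 4) ∨ (σ 3 = 4 ∧ σ 4 = 3)) := by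
  obtain ⟨σ, hσ⟩ := h.act g hL
  have e1 : g * (z 1 * z 2) = z 1 * z 2 * g := (mem_centralizer_iff.1 hg _ (by simp)).symm
  have e2 : g * (z 3 * z 4) = z 3 * z 4 * g := (mem_centralizer_iff.1 hg _ (by simp)).symm
  have e1' : g * (z 2 * z 1) = z 2 * z 1 * g := by rw [h.comm 2 1]; exact e1
  have e2' : g * (z 4 * z 3) = z 4 * z 3 * g := by rw [h.comm 4 3]; exact e2
  have p1 := h.pair_perm hσ (by decide) e1
  have p2 := h.pair_perm hσ (by decide) e1'
  have p3 := h.pair_perm hσ (by decide) e2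
  have p4 := h.pair_perm hσ (by decide) e2'
  have i12 : σ 1 ≠ σ 2 := fun e => by simpa using σ.injective e
  have i34 : σ 3 ≠ σ 4 := fun e => by simpa using σ.injective e
  have q1 : (σ 1 = 1 ∧ σ 2 = 2) ∨ (σ 1 = 2 ∧ σ 2 = 1) := by
    rcases p1 with p | p <;> rcases p2 with q | q
    · exact Or.inl ⟨p, q⟩
    · exact absurd (p.trans q.symm) i12
    · exact absurd (p.trans q.symm) i12
    · exact Or.inr ⟨p, q⟩
  have q2 : (σ 3 = 3 ∧ σ 4 = 4) ∨ (σ 3 = 4 ∧ σ 4 = 3) := by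
    rcases p3 with p | p <;> rcases p4 with q | q
    · exact Or.inl ⟨p, q⟩
    · exact absurd (p.trans q.symm) i34
    · exact absurd (p.trans q.symm) i34
    · exact Or.inr ⟨p, q⟩
  refine ⟨σ, hσ, ?_, q1, q2⟩
  have n1 : σ 0 ≠ σ 1 := fun e => by simpa using σ.injective e
  have n2 : σ 0 ≠ σ 2 := fun e => by simpa using σ.injective e
  have n3 : σ 0 ≠ σ 3 := fun e => by simpa using σ.injective e
  have n4 : σ 0 ≠ σ 4 := fun e => by simpa using σ.injective e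
  generalize σ 0 = s at n1 n2 n3 n4 ⊢
  rcases q1 with ⟨a1, a2⟩ | ⟨a1, a2⟩ <;> rcases q2 with ⟨a3, a4⟩ | ⟨a3, a4⟩ <;>
    rw [a1] at n1 <;> rw [a2] at n2 <;> rw [a3] at n3 <;> rw [a4] at n4 <;> clear * - n1 n2 n3 n4 <;>
    revert n1 n2 n3 n4 <;> revert s <;> decide

/-- trivial action -/
theorem triv {g : G} {σ : Equiv.Perm (Fin 5)} (hσ : ∀ a, g * z a * g⁻¹ = z (σ a)) (h0 : σ 0 = 0) (h1 : σ 1 = 1)
    (h2 : σ 2 = 2) (h3 : σ 3 = 3) (h4 : σ 4 = 4) (i : Fin 5) : g * z i = z i * g := by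
  have e : σ i = i := by
    fin_cases i <;> assumption
  have h5 := hσ i
  rw [e] at h5
  rwa [mul_inv_eq_iff_eq_mul] at h5

theorem sw {g : G} {σ : Equiv.Perm (Fin 5)} (hσ : ∀ a, g * z a * g⁻¹ = z (σ a)) (h0 : σ 0 = 0) (h1 : σ 1 = 2)
    (h2 : σ 2 = 1) (h3 : σ 3 = 3) (h4 : σ 4 = 4) (i : Fin 5) : g * z i * g⁻¹ = z (Equiv.swap 1 2 i) := by
  rw [hσ]
  congr 1
  fin_cases i
  · exact h0
  · exact h1
  · exact h2
  · exact h3
  · exact h4

theorem sw' {g : G} {σ : Equiv.Perm (Fin 5)} (hσ : ∀ a, g * z a * g⁻¹ = z (σ a)) (h0 : σ 0 = 0) (h1 : σ 1 = 1)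
    (h2 : σ 2 = 2) (h3 : σ 3 = 4) (h4 : σ 4 = 3) (i : Fin 5) : g * z i * g⁻¹ = z (Equiv.swap 3 4 i) := by
  rw [hσ]
  congr 1
  fin_cases i
  · exact h0
  · exact h1
  · exact h2
  · exact h3
  · exact h4

variable [Finite G]

/-- The shape of the result. -/
def _root_.Cfsg.Agent.Omega.NO3S.TwoA.Sh (z : Fin 5 → G) (a b : Fin 5) (A : Subgroup G) : Prop :=
  (∀ g ∈ A, (∀ i, g * z i = z i * g) ∨ ∀ i, g * z i * g⁻¹ = z (Equiv.swap a b i)) ∧
    ∃ g ∈ A, ∀ i, g * z i * g⁻¹ = z (Equiv.swap a b i)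

/-- the case of an element of `A` acting as `(1 2)` -/
theorem base12 {A : Subgroup G} (hA : A ∈ AA (o2 (Dd z 1 2 3 4))) {g : G} (hg : g ∈ A)
    (hgs : ∀ i, g * z i * g⁻¹ = z (Equiv.swap 1 2 i)) : ∃ A' ∈ AA (o2 (Dd z 1 2 3 4)), Sh z 1 2 A' := by
  have hAD : A ≤ Dd z 1 2 3 4 := hA.2.1.trans (ChoiceSit.o2_le _)
  have hAL : A ≤ L := hA.2.1.trans h.OL
  set A3 := A ⊓ centralizer {z 3} with hA3
  set V12 := closure {z 0, z 3, z 4} with hV12
  have hVO : V12 ≤ o2 (Dd z 1 2 3 4) := by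
    rw [hV12, closure_le]
    rintro _ (rfl | rfl | rfl) <;> exact h.VO _
  have cV : ∀ a b : Fin 5, Commute (z a) (z b) := fun a b => h.comm a b
  have hel : IsElementaryAbelian 2 V12 := by
    rw [isElementaryAbelian_iff]
    have hle : V12 ≤ centralizer (V12 : Set G) := by
      rw [hV12, closure_le]
      rintro _ (rfl | rfl | rfl) <;>
      · rw [SetLike.mem_coe, centralizer_closure, mem_centralizer_iff]
        rintro _ (rfl | rfl | rfl) <;> exact cV _ _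
    refine ⟨fun x hx y hy => mem_centralizer_iff.1 (hle hy) x hx, fun x hx => ?_⟩
    let K : Subgroup G :=
      { carrier := {x | x ∈ V12 ∧ x ^ 2 = 1}
        one_mem' := ⟨one_mem _, one_pow 2⟩
        mul_mem' := by
          rintro x y ⟨hx, hx2⟩ ⟨hy, hy2⟩
          refine ⟨mul_mem hx hy, ?_⟩
          have hc : Commute x y := mem_centralizer_iff.1 (hle hy) x hx
          rw [hc.mul_pow, hx2, hy2, one_mul]
        inv_mem' := by
          rintro x ⟨hx, hx2⟩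
          exact ⟨inv_mem hx, by rw [inv_pow, hx2, inv_one]⟩ }
    have hK : V12 ≤ K := by
      rw [hV12, closure_le]
      rintro _ (rfl | rfl | rfl) <;>
        exact ⟨subset_closure (by simp), by rw [pow_two]; exact h.sq _⟩
    exact (hK hx).2
  -- the elements of `A3`
  have hA3s : ∀ b ∈ A3, (∀ i, b * z i = z i * b) ∨ ∀ i, b * z i * b⁻¹ = z (Equiv.swap 1 2 i) := by
    rintro b ⟨hb, hb3⟩
    obtain ⟨σ, hσ, h0, h12, h34⟩ := h.two (hAD hb) (hAL hb)
    have e3 : b * z 3 = z 3 * b := mem_centralizer_singleton_iff.1 hb3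
    have h34' : σ 3 = 3 ∧ σ 4 = 4 := by
      rcases h34 with h34 | ⟨h3, h4⟩
      · exact h34
      · exfalso
        have h5 := hσ 3
        rw [h3, e3, mul_inv_cancel_right] at h5
        exact absurd (h.inj h5) (by decide)
    rcases h12 with ⟨h1, h2⟩ | ⟨h1, h2⟩
    · left; exact h.triv hσ h0 h1 h2 h34'.1 h34'.2
    · right; exact h.sw hσ h0 h1 h2 h34'.1 h34'.2
  have hc : ∀ b ∈ A3, ∀ v ∈ V12, b * v = v * b := by
    intro b hb v hv
    have h1 : V12 ≤ centralizer ({b} : Set G) := by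
      rw [hV12, closure_le]
      have key : ∀ i : Fin 5, i ≠ 1 → i ≠ 2 → z i ∈ centralizer ({b} : Set G) := by
        intro i h1 h2
        rw [mem_centralizer_singleton_iff]
        rcases hA3s b hb with h3 | h3
        · exact (h3 i).symm
        · have h4 := h3 i
          rw [Equiv.swap_apply_of_ne_of_ne h1 h2, mul_inv_eq_iff_eq_mul] at h4
          exact h4.symm
      rintro _ (rfl | rfl | rfl) <;> exact key _ (by decide) (by decide)
    exact (mem_centralizer_singleton_iff.1 (h1 hv)).symm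
  have hA3el : IsElementaryAbelian 2 A3 := isElementaryAbelian_mono hA.1 inf_le_left
  have hsel : IsElementaryAbelian 2 (A3 ⊔ V12 : Subgroup G) := sup_elem hA3el hel hc
  have hsO : A3 ⊔ V12 ≤ o2 (Dd z 1 2 3 4) := sup_le (inf_le_left.trans hA.2.1) hVO
  have hcard : Nat.card A ≤ Nat.card ↥(A3 ⊔ V12 : Subgroup G) := by
    by_cases hle : A ≤ A3
    · exact Subgroup.card_le_of_le (hle.trans le_sup_left)
    · obtain ⟨c, hc1, hc2⟩ := SetLike.not_le_iff_exists.1 hle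
      have r1 : Nat.card A ≤ 2 * Nat.card A3 := by
        refine card_le_two (c := c) fun y hy hyC => mem_inf.2
          ⟨A.mul_mem (A.inv_mem hc1) hy, mem_centralizer_singleton_iff.2 ?_⟩
        have key : ∀ y ∈ A, y ∉ A3 → y * z 3 * y⁻¹ = z 4 := by
          intro y hy hyC
          obtain ⟨σ, hσ, h0, h12, h34⟩ := h.two (hAD hy) (hAL hy)
          rcases h34 with ⟨h3, h4⟩ | ⟨h3, h4⟩
          · exfalso
            apply hyC
            refine ⟨hy, mem_centralizer_singleton_iff.2 ?_⟩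
            have h5 := hσ 3
            rw [h3, mul_inv_eq_iff_eq_mul] at h5
            exact h5
          · rw [hσ, h3]
        have e1 := key y hy hyC
        have e2 := key c hc1 hc2
        have e3 : c⁻¹ * z 4 * c = z 3 := by rw [← e2]; group
        calc c⁻¹ * y * z 3 = c⁻¹ * (y * z 3 * y⁻¹) * y := by group
          _ = c⁻¹ * z 4 * c * (c⁻¹ * y) := by rw [e1]; group
          _ = z 3 * (c⁻¹ * y) := by rw [e3]
      have r2 : 2 * Nat.card ↥(A3 ⊓ V12) ≤ Nat.card V12 := by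
        refine two_mul_card_le inf_le_right fun hle2 => hc2 ⟨hc1, mem_centralizer_singleton_iff.2 ?_⟩
        have h3 : z 3 ∈ A := (hle2 (subset_closure (by simp) : z 3 ∈ V12)).1.1
        exact elem_comm hA.1 c hc1 _ h3
      have r3 := card_sup_comm hc
      have hp : 0 < Nat.card ↥(A3 ⊓ V12) := Nat.card_pos
      refine Nat.le_of_mul_le_mul_right ?_ hp
      rw [r3]
      calc Nat.card A * Nat.card ↥(A3 ⊓ V12) ≤ 2 * Nat.card A3 * Nat.card ↥(A3 ⊓ V12) := Nat.mul_le_mul_right _ r1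
        _ = Nat.card A3 * (2 * Nat.card ↥(A3 ⊓ V12)) := by ring
        _ ≤ Nat.card A3 * Nat.card V12 := Nat.mul_le_mul_left _ r2
  have hswap : ∀ v ∈ V12, ∀ i, v * z i = z i * v := by
    intro v hv i
    have h1 : V12 ≤ centralizer ({z i} : Set G) := by
      rw [hV12, closure_le]
      rintro _ (rfl | rfl | rfl) <;> exact mem_centralizer_singleton_iff.2 (h.comm _ _)
    exact mem_centralizer_singleton_iff.1 (h1 hv)
  refine ⟨A3 ⊔ V12, ⟨hsel, hsO, fun B hB hBO => (hA.2.2 B hB hBO).trans hcard⟩, fun y hy => ?_, g, ?_, hgs⟩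
  · obtain ⟨b, hb, v, hv, rfl⟩ := mem_sup_comm hc hy
    have hvi := hswap v hv
    rcases hA3s b hb with h1 | h1
    · left
      intro i
      have c1 : Commute b (z i) := h1 i
      have c2 : Commute v (z i) := hvi i
      exact (c1.mul_left c2).eq
    · right
      intro i
      rw [← h1 i]
      calc b * v * z i * (b * v)⁻¹ = b * (v * z i * v⁻¹) * b⁻¹ := by group
        _ = b * z i * b⁻¹ := by rw [hvi, mul_inv_cancel_right]
  · refine mem_sup_left ⟨hg, mem_centralizer_singleton_iff.2 ?_⟩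
    have h1 := hgs 3
    rw [Equiv.swap_apply_of_ne_of_ne (by decide) (by decide), mul_inv_eq_iff_eq_mul] at h1
    exact h1

omit [Finite G] in
theorem cj_Dd {g : G} {τ : Equiv.Perm (Fin 5)} (hτ : ∀ a, g * z a * g⁻¹ = z (τ a)) (a b c d : Fin 5) :
    cj g (Dd z a b c d) = Dd z (τ a) (τ b) (τ c) (τ d) := by
  have e : ∀ a b, g * (z a * z b) * g⁻¹ = z (τ a) * z (τ b) := fun a b => by
    rw [← hτ, ← hτ]; group
  ext x
  rw [mem_cj]
  simp only [Dd, mem_centralizer_iff, Set.mem_insert_iff, Set.mem_singleton_iff, forall_eq_or_imp, forall_eq]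
  have key : ∀ p : G, (p * (g⁻¹ * x * g) = g⁻¹ * x * g * p) ↔ (g * p * g⁻¹ * x = x * (g * p * g⁻¹)) := by
    intro p
    constructor
    · intro h1
      calc g * p * g⁻¹ * x = g * (p * (g⁻¹ * x * g)) * g⁻¹ := by group
        _ = g * (g⁻¹ * x * g * p) * g⁻¹ := by rw [h1]
        _ = x * (g * p * g⁻¹) := by group
    · intro h1
      calc p * (g⁻¹ * x * g) = g⁻¹ * (g * p * g⁻¹ * x) * g := by group
        _ = g⁻¹ * (x * (g * p * g⁻¹)) * g := by rw [h1]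
        _ = g⁻¹ * x * g * p := by group
  rw [key, key, e, e]

theorem cj_mem {g : G} {τ : Equiv.Perm (Fin 5)} (hτ : ∀ a, g * z a * g⁻¹ = z (τ a)) {a b c d : Fin 5} {A : Subgroup G}
    (hA : A ∈ AA (o2 (Dd z a b c d))) : cj g A ∈ AA (o2 (Dd z (τ a) (τ b) (τ c) (τ d))) := by
  have h1 := cj_mem_AA g hA
  rwa [← o2_cj, h.cj_Dd hτ] at h1

omit [Finite G] in
theorem cj_perm {g y : G} {τ ρ : Equiv.Perm (Fin 5)} (hτ : ∀ a, g * z a * g⁻¹ = z (τ a))
    (hρ : ∀ a, y * z a * y⁻¹ = z (ρ a)) (i : Fin 5) : (g * y * g⁻¹) * z i * (g * y * g⁻¹)⁻¹ = z ((τ * ρ * τ⁻¹) i) := by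
  have e1 : g⁻¹ * z i * g = z (τ⁻¹ i) := by
    have := hτ (τ⁻¹ i)
    have e : τ (τ⁻¹ i) = i := by simp
    rw [e] at this
    rw [← this]; group
  calc (g * y * g⁻¹) * z i * (g * y * g⁻¹)⁻¹ = g * (y * (g⁻¹ * z i * g) * y⁻¹) * g⁻¹ := by group
    _ = z (τ (ρ (τ⁻¹ i))) := by rw [e1, hρ, hτ]

omit [Finite G] in
theorem cj_sh {g : G} {τ : Equiv.Perm (Fin 5)} (hτ : ∀ a, g * z a * g⁻¹ = z (τ a)) {a b : Fin 5} {A : Subgroup G}
    (hA : Sh z a b A) : Sh z (τ a) (τ b) (cj g A) := by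
  have key : ∀ y : G, (∀ i, y * z i * y⁻¹ = z (Equiv.swap a b i)) →
      ∀ i, (g * y * g⁻¹) * z i * (g * y * g⁻¹)⁻¹ = z (Equiv.swap (τ a) (τ b) i) := by
    intro y hy i
    rw [h.cj_perm hτ hy, Equiv.swap_apply_apply]
  refine ⟨?_, ?_⟩
  · rintro _ ⟨y, hy, rfl⟩
    rcases hA.1 y hy with h1 | h1
    · left
      intro i
      have e1 : g⁻¹ * z i * g = z (τ⁻¹ i) := by
        have := hτ (τ⁻¹ i)
        have e : τ (τ⁻¹ i) = i := by simp
        rw [e] at this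
        rw [← this]; group
      have h2 := h1 (τ⁻¹ i)
      rw [← e1] at h2
      change g * y * g⁻¹ * z i = z i * (g * y * g⁻¹)
      calc g * y * g⁻¹ * z i = g * (y * (g⁻¹ * z i * g)) * g⁻¹ := by group
        _ = g * ((g⁻¹ * z i * g) * y) * g⁻¹ := by rw [h2]
        _ = z i * (g * y * g⁻¹) := by group
    · right
      exact key y h1
  · obtain ⟨y, hy, h1⟩ := hA.2
    exact ⟨g * y * g⁻¹, ⟨y, hy, rfl⟩, key y h1⟩

/-- the case of an element of `A` acting as `(3 4)` -/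
theorem base34 {A : Subgroup G} (hA : A ∈ AA (o2 (Dd z 1 2 3 4))) {g : G} (hg : g ∈ A)
    (hgs : ∀ i, g * z i * g⁻¹ = z (Equiv.swap 3 4 i)) : ∃ A' ∈ AA (o2 (Dd z 1 2 3 4)), Sh z 1 2 A' := by
  obtain ⟨τ, t1, t2, t3, t4⟩ := perm_four (a := 1) (b := 2) (c := 3) (d := 4) (a' := 3) (b' := 4) (c' := 1) (d' := 2)
    (by decide) (by decide) (by decide) (by decide) (by decide) (by decide) (by decide) (by decide) (by decide)
    (by decide) (by decide) (by decide)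
  obtain ⟨k, -, hk⟩ := h.full τ
  have h1 := h.cj_mem hk hA
  rw [t1, t2, t3, t4, Dd_symm] at h1
  refine h.base12 h1 (g := k * g * k⁻¹) ⟨g, hg, rfl⟩ fun i => ?_
  rw [h.cj_perm hk hgs]
  have e : Equiv.swap (1 : Fin 5) 2 = Equiv.swap (τ 3) (τ 4) := by rw [t3, t4]
  rw [e, Equiv.swap_apply_apply]

/-- **The base.** -/
theorem base {A : Subgroup G} (hA : A ∈ AA (o2 (Dd z 1 2 3 4))) (hm : ¬ A ≤ centralizer (Set.range z)) :
    ∃ A' ∈ AA (o2 (Dd z 1 2 3 4)), Sh z 1 2 A' := by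
  have hAD : A ≤ Dd z 1 2 3 4 := hA.2.1.trans (ChoiceSit.o2_le _)
  have hAL : A ≤ L := hA.2.1.trans h.OL
  by_cases H1 : ∃ g ∈ A, ∀ i, g * z i * g⁻¹ = z (Equiv.swap 1 2 i)
  · obtain ⟨g, hg, hgs⟩ := H1
    exact h.base12 hA hg hgs
  by_cases H2 : ∃ g ∈ A, ∀ i, g * z i * g⁻¹ = z (Equiv.swap 3 4 i)
  · obtain ⟨g, hg, hgs⟩ := H2
    exact h.base34 hA hg hgs
  exfalso
  push Not at H1 H2
  -- every element acts trivially or as `(1 2)(3 4)`
  have key : ∀ b ∈ A, (∀ i, b * z i = z i * b) ∨ (b * z 1 * b⁻¹ = z 2 ∧ b * z 2 * b⁻¹ = z 1 ∧ b * z 3 * b⁻¹ = z 4 ∧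
      b * z 4 * b⁻¹ = z 3) := by
    intro b hb
    obtain ⟨σ, hσ, h0, ⟨h1, h2⟩ | ⟨h1, h2⟩, ⟨h3, h4⟩ | ⟨h3, h4⟩⟩ := h.two (hAD hb) (hAL hb)
    · exact Or.inl (h.triv hσ h0 h1 h2 h3 h4)
    · obtain ⟨i, hi⟩ := H2 b hb
      exact absurd (h.sw' hσ h0 h1 h2 h3 h4 i) hi
    · obtain ⟨i, hi⟩ := H1 b hb
      exact absurd (h.sw hσ h0 h1 h2 h3 h4 i) hi
    · right
      exact ⟨by rw [hσ, h1], by rw [hσ, h2], by rw [hσ, h3], by rw [hσ, h4]⟩
  obtain ⟨c, hc1, hc2⟩ := SetLike.not_le_iff_exists.1 hm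
  have hc2' : ¬ ∀ i, c * z i = z i * c := fun h0 => hc2 (mem_centralizer_iff.2 (by
    rintro _ ⟨i, rfl⟩
    exact (h0 i).symm))
  obtain ⟨d1, d2, d3, d4⟩ := (key c hc1).resolve_left hc2'
  set V := closure (Set.range z) with hV
  have hVO : V ≤ o2 (Dd z 1 2 3 4) := by
    rw [hV, closure_le]
    rintro _ ⟨i, rfl⟩
    exact h.VO i
  have hVc : V ≤ centralizer (V : Set G) := by
    rw [hV, closure_le]
    rintro _ ⟨a, rfl⟩
    rw [SetLike.mem_coe, centralizer_closure, mem_centralizer_iff]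
    rintro _ ⟨b, rfl⟩
    exact h.comm b a
  have hVel : IsElementaryAbelian 2 V := by
    rw [isElementaryAbelian_iff]
    refine ⟨fun x hx y hy => mem_centralizer_iff.1 (hVc hy) x hx, fun x hx => ?_⟩
    let K : Subgroup G :=
      { carrier := {x | x ∈ V ∧ x ^ 2 = 1}
        one_mem' := ⟨one_mem _, one_pow 2⟩
        mul_mem' := by
          rintro x y ⟨hx, hx2⟩ ⟨hy, hy2⟩
          refine ⟨mul_mem hx hy, ?_⟩
          have hc : Commute x y := mem_centralizer_iff.1 (hVc hy) x hx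
          rw [hc.mul_pow, hx2, hy2, one_mul]
        inv_mem' := by
          rintro x ⟨hx, hx2⟩
          exact ⟨inv_mem hx, by rw [inv_pow, hx2, inv_one]⟩ }
    have hK : V ≤ K := by
      rw [hV, closure_le]
      rintro _ ⟨i, rfl⟩
      exact ⟨subset_closure ⟨i, rfl⟩, by rw [pow_two]; exact h.sq _⟩
    exact (hK hx).2
  set A0 := A ⊓ centralizer (Set.range z) with hA0
  have hc : ∀ b ∈ A0, ∀ v ∈ V, b * v = v * b := by
    intro b hb v hv
    have h1 : V ≤ centralizer ({b} : Set G) := by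
      rw [hV, closure_le]
      rintro _ ⟨i, rfl⟩
      exact mem_centralizer_singleton_iff.2 (mem_centralizer_iff.1 hb.2 _ ⟨i, rfl⟩)
    exact (mem_centralizer_singleton_iff.1 (h1 hv)).symm
  have r1 : Nat.card A ≤ 2 * Nat.card A0 := by
    refine card_le_two (c := c) fun y hy hyC => mem_inf.2 ⟨A.mul_mem (A.inv_mem hc1) hy, mem_centralizer_iff.2 ?_⟩
    have hy' : ¬ ∀ i, y * z i = z i * y := fun h0 => hyC ⟨hy, mem_centralizer_iff.2 (by
      rintro _ ⟨i, rfl⟩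
      exact (h0 i).symm)⟩
    obtain ⟨e1, e2, e3, e4⟩ := (key y hy).resolve_left hy'
    rcases key (c⁻¹ * y) (A.mul_mem (A.inv_mem hc1) hy) with h5 | ⟨h5, -⟩
    · rintro _ ⟨i, rfl⟩
      exact (h5 i).symm
    · exfalso
      have h6 : c⁻¹ * y * z 1 * (c⁻¹ * y)⁻¹ = z 1 := by
        calc c⁻¹ * y * z 1 * (c⁻¹ * y)⁻¹ = c⁻¹ * (y * z 1 * y⁻¹) * c := by group
          _ = c⁻¹ * (c * z 1 * c⁻¹) * c := by rw [e1, d1]
          _ = z 1 := by group
      exact absurd (h.inj (h6.symm.trans h5)) (by decide)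
  -- `4 |A₀ ∩ V| ≤ |V|`
  set X := A0 ⊓ V with hX
  have hXc : ∀ x ∈ X, c * x = x * c := fun x hx => elem_comm hA.1 c hc1 x hx.1.1
  have r2 : 2 * Nat.card X ≤ Nat.card ↥(X ⊔ zpowers (z 1)) := by
    refine two_mul_card_le le_sup_left fun hle => ?_
    have h3 := hXc _ (hle (mem_sup_right (mem_zpowers _)))
    rw [← mul_inv_eq_iff_eq_mul, d1] at h3
    exact absurd (h.inj h3) (by decide)
  have hXz : ∀ x ∈ X, ∀ y ∈ zpowers (z 1), x * y = y * x := by
    rintro x hx y ⟨k, rfl⟩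
    have h1 : Commute x (z 1) := hc x hx.1 (z 1) (subset_closure ⟨1, rfl⟩)
    exact (h1.zpow_right k).eq
  have r3 : 2 * Nat.card ↥(X ⊔ zpowers (z 1)) ≤ Nat.card V := by
    refine two_mul_card_le (sup_le inf_le_right (zpowers_le.2 (subset_closure ⟨1, rfl⟩))) fun hle => ?_
    have h3 : z 3 ∈ X ⊔ zpowers (z 1) := hle (subset_closure ⟨3, rfl⟩)
    obtain ⟨x, hx, y, ⟨k, rfl⟩, e⟩ := mem_sup_comm hXz h3
    change z 3 = x * z 1 ^ k at e
    have hxc := hXc x hx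
    have hk : z 1 ^ k = 1 ∨ z 1 ^ k = z 1 := NSix.CaseJ.Exact.sq_zpow (h.sq 1) k
    rcases hk with hk | hk
    · rw [hk, mul_one] at e
      rw [← e, ← mul_inv_eq_iff_eq_mul, d3] at hxc
      exact absurd (h.inj hxc) (by decide)
    · rw [hk] at e
      have h5 : x = z 3 * z 1 := by rw [e, mul_assoc, h.sq, mul_one]
      have h6 : c * x * c⁻¹ = z 4 * z 2 := by
        rw [h5, ← d3, ← d1]; group
      rw [mul_inv_eq_iff_eq_mul.2 hxc, h5] at h6
      rcases h.pair (by decide) (by decide) h6 with h7 | h7 <;> exact absurd h7 (by decide)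
  have hAV : IsElementaryAbelian 2 (A0 ⊔ V : Subgroup G) :=
    sup_elem (isElementaryAbelian_mono hA.1 inf_le_left) hVel hc
  have r4 := hA.2.2 _ hAV (sup_le (inf_le_left.trans hA.2.1) hVO)
  have r5 := card_sup_comm hc
  have hXp : 0 < Nat.card X := Nat.card_pos
  have hAp : 0 < Nat.card A0 := Nat.card_pos
  have r6 : Nat.card A0 * Nat.card V ≤ (2 * Nat.card A0) * Nat.card X := by
    rw [← r5]
    exact Nat.mul_le_mul_right _ (r4.trans r1)
  have r7 : Nat.card A0 * (4 * Nat.card X) ≤ (2 * Nat.card A0) * Nat.card X := by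
    refine le_trans (Nat.mul_le_mul_left _ ?_) r6
    omega
  nlinarith [Nat.mul_pos hAp hXp]

/-- **LEMMA MEM.** -/
theorem mem {A : Subgroup G} (hA : A ∈ AA (o2 (Dd z 1 2 3 4))) (hm : ¬ A ≤ centralizer (Set.range z))
    {a b c d : Fin 5} (hab : a ≠ b) (hac : a ≠ c) (hbc : b ≠ c) (had : a ≠ d) (hbd : b ≠ d) (hcd : c ≠ d) :
    ∃ A' ∈ AA (o2 (Dd z a b c d)), Sh z a b A' := by
  obtain ⟨A', hA', hs⟩ := h.base hA hm
  obtain ⟨τ, t1, t2, t3, t4⟩ := perm_four (a := 1) (b := 2) (c := 3) (d := 4) (a' := a) (b' := b) (c' := c) (d' := d)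
    (by decide) (by decide) (by decide) (by decide) (by decide) (by decide) hab hac hbc had hbd hcd
  obtain ⟨k, -, hk⟩ := h.full τ
  have h1 := h.cj_mem hk hA'
  have h2 := h.cj_sh hk hs
  rw [t1, t2, t3, t4] at h1
  rw [t1, t2] at h2
  exact ⟨_, h1, h2⟩

end Lt

end Cfsg.Agent.Omega.NO3S.TwoA

end

section


/-!
# LightL, `n = 5`: the members of LEMMA (1'U) (helper433 #26100 (1) (i), (ii))

* `Mb z Q W i j F a` : `F ≤ Q` elementary abelian, `a` normalises `Q` and induces `(i j)` on `V`,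
  `[C_W(F), a] ≤ ⟨z_i z_j⟩`, `|M : C_M(F)| ≤ |F : C_F(M)|` for `M ≤ W`;
* `Mb.exists_of` : from a member `A'` of `A(O')` acting as `⟨(i j)⟩` on `V`, `V ≤ W ≤ O'`.
-/

set_option autoImplicit false
set_option linter.unusedSectionVars false

namespace Cfsg.Agent.Omega.NO3S.TwoA

open Subgroup Cfsg Cfsg.Agent.PLocal.ThompsonJ Cfsg.Agent.ZN Cfsg.Agent.ZN.ChoiceBase
open Cfsg.Agent.ZN.ChoiceSit Cfsg.Agent.PLocal.ElemAbSup
open Cfsg.Agent.Omega.SQ1.Bau (mem_AA_of_comm elem_comm elem_sq mem_sup_comm card_sup_comm)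
open Cfsg.Agent.Omega.NSix.CaseJ.Exact (two_mul_card_le card_le_two sup_elem)

universe u

variable {G : Type u} [Group G]

/-- the situation of (i), (ii) -/
structure Mb (z : Fin 5 → G) (Q W : Subgroup G) (i j : Fin 5) (F : Subgroup G) (a : G) : Prop where
  FQ : F ≤ Q
  el : IsElementaryAbelian 2 F
  aQ : ∀ q ∈ Q, a * q * a⁻¹ ∈ Q
  act : ∀ k, a * z k * a⁻¹ = z (Equiv.swap i j k)
  sep : ∀ u ∈ W, (∀ b ∈ F, b * u = u * b) → a * u * a⁻¹ = u ∨ a * u * a⁻¹ = u * (z i * z j)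
  off : ∀ M : Subgroup G, M ≤ W → (centralizer (F : Set G)).relIndex M ≤ (centralizer (M : Set G)).relIndex F

theorem card_mul_relIndex [Finite G] (M K : Subgroup G) : Nat.card M = K.relIndex M * Nat.card ↥(M ⊓ K) := by
  have h1 := Subgroup.card_mul_index (K.subgroupOf M)
  have h2 : Nat.card (K.subgroupOf M) = Nat.card ↥(M ⊓ K) := by
    rw [← inf_subgroupOf_right, inf_comm]
    exact Nat.card_congr (subgroupOfEquivOfLe inf_le_left).toEquiv
  rw [h2] at h1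
  rw [← h1, mul_comm]
  rfl

/-- `|M : C_M(F)| ≤ |F : C_F(M)|` in terms of orders. -/
theorem relIndex_le_of [Finite G] {M F : Subgroup G}
    (h : Nat.card M * Nat.card ↥(F ⊓ centralizer (M : Set G)) ≤ Nat.card F * Nat.card ↥(M ⊓ centralizer (F : Set G))) :
    (centralizer (F : Set G)).relIndex M ≤ (centralizer (M : Set G)).relIndex F := by
  rw [card_mul_relIndex M (centralizer (F : Set G)), card_mul_relIndex F (centralizer (M : Set G))] at h
  have h1 : 0 < Nat.card ↥(F ⊓ centralizer (M : Set G)) := Nat.card_pos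
  have h2 : 0 < Nat.card ↥(M ⊓ centralizer (F : Set G)) := Nat.card_pos
  refine Nat.le_of_mul_le_mul_right ?_ (Nat.mul_pos h1 h2)
  calc _ = (centralizer (F : Set G)).relIndex M * Nat.card ↥(M ⊓ centralizer (F : Set G)) *
        Nat.card ↥(F ⊓ centralizer (M : Set G)) := by ring
    _ ≤ _ := h
    _ = _ := by ring

/-- `[u, C_A(V)] = 1` etc. for `M V` -/
theorem Of.off [Finite G] {V O' A : Subgroup G} {a p : G} (h : Of V O' A a p) {W M : Subgroup G}
    (hW : IsElementaryAbelian 2 W) (hVW : V ≤ W) (hWO : W ≤ O') (hM : M ≤ W) :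
    (centralizer ((A ⊓ centralizer (V : Set G) : Subgroup G) : Set G)).relIndex M ≤
      (centralizer (M : Set G)).relIndex (A ⊓ centralizer (V : Set G)) := by
  apply relIndex_le_of
  have Wc := elem_comm hW
  have h0 := h.A0_comm
  set F := A ⊓ centralizer (V : Set G) with hF
  have hXW : M ⊔ V ≤ W := sup_le hM hVW
  have h1 := h.count0 (isElementaryAbelian_mono hW hXW) le_sup_right (hXW.trans hWO)
  rw [← hF] at h1
  have hVF : V ≤ centralizer (F : Set G) := fun v hv => mem_centralizer_iff.2 fun b hb => h0 b hb v hv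
  have e1 : F ⊓ centralizer ((M ⊔ V : Subgroup G) : Set G) = F ⊓ centralizer (M : Set G) := by
    apply le_antisymm
    · exact inf_le_inf_left _ (centralizer_le (SetLike.coe_subset_coe.2 le_sup_left))
    · rintro b ⟨hb, hbM⟩
      refine ⟨hb, ?_⟩
      have h2 : M ⊔ V ≤ centralizer ({b} : Set G) := sup_le
        (fun m hm => mem_centralizer_singleton_iff.2 (mem_centralizer_iff.1 hbM m hm))
        (fun v hv => mem_centralizer_singleton_iff.2 (h0 b hb v hv).symm)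
      exact mem_centralizer_iff.2 fun y hy => mem_centralizer_singleton_iff.1 (h2 hy)
  have e2 : (M ⊔ V) ⊓ centralizer (F : Set G) = (M ⊓ centralizer (F : Set G)) ⊔ V := by
    apply le_antisymm
    · rintro y ⟨hy, hyF⟩
      obtain ⟨m, hm, v, hv, rfl⟩ := mem_sup_comm (fun x hx y hy => Wc x (hM hx) y (hVW hy)) hy
      refine mul_mem_sup ⟨hm, ?_⟩ hv
      have hyF' : m * v ∈ centralizer (F : Set G) := hyF
      have h2 := (centralizer (F : Set G)).mul_mem hyF' ((centralizer (F : Set G)).inv_mem (hVF hv))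
      rwa [mul_inv_cancel_right] at h2
    · exact sup_le (inf_le_inf_right _ le_sup_left) (le_inf le_sup_right hVF)
  rw [e1, e2] at h1
  have c1 := card_sup_comm (A := M) (B := V) fun x hx y hy => Wc x (hM hx) y (hVW hy)
  have c2 := card_sup_comm (A := M ⊓ centralizer (F : Set G)) (B := V) fun x hx y hy => Wc x (hM hx.1) y (hVW hy)
  have e3 : M ⊓ centralizer (F : Set G) ⊓ V = M ⊓ V := by
    apply le_antisymm
    · exact fun x hx => ⟨hx.1.1, hx.2⟩
    · exact fun x hx => ⟨⟨hx.1, hVF hx.2⟩, hx.2⟩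
  rw [e3] at c2
  have hp : 0 < Nat.card V := Nat.card_pos
  have hq : 0 < Nat.card ↥(M ⊓ V) := Nat.card_pos
  refine Nat.le_of_mul_le_mul_right ?_ hp
  calc Nat.card M * Nat.card ↥(F ⊓ centralizer (M : Set G)) * Nat.card V
      = (Nat.card ↥(M ⊔ V) * Nat.card ↥(F ⊓ centralizer (M : Set G))) * Nat.card ↥(M ⊓ V) := by
        rw [mul_right_comm, ← c1]; ring
    _ ≤ (Nat.card F * Nat.card ↥((M ⊓ centralizer (F : Set G)) ⊔ V)) * Nat.card ↥(M ⊓ V) :=
        Nat.mul_le_mul_right _ h1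
    _ = Nat.card F * Nat.card ↥(M ⊓ centralizer (F : Set G)) * Nat.card V := by
        rw [mul_assoc, c2]; ring

/-- **(1) (i), (ii).** -/
theorem Mb.exists_of [Finite G] {z : Fin 5 → G} (inj : Function.Injective z) (sq : ∀ a, z a * z a = 1)
    (comm : ∀ a b, z a * z b = z b * z a) {i j : Fin 5} (hij : i ≠ j)
    {V O' Q W A : Subgroup G} (hV : V = closure (Set.range z)) (hA : A ∈ AA O') (hs : Sh z i j A)
    (hW : IsElementaryAbelian 2 W) (hVW : V ≤ W) (hWO : W ≤ O') (hOQ : O' ⊓ centralizer (V : Set G) ≤ Q)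
    (hOn : O' ≤ normalizer (Q : Set G)) : ∃ F a, Mb z Q W i j F a := by
  obtain ⟨a, haA, hact⟩ := hs.2
  have hVel : IsElementaryAbelian 2 V := isElementaryAbelian_mono hW hVW
  have zV : ∀ k, z k ∈ V := fun k => hV ▸ subset_closure ⟨k, rfl⟩
  have key : ∀ b : G, (∀ k, b * z k = z k * b) → b ∈ centralizer (V : Set G) := by
    intro b hb
    have h1 : V ≤ centralizer ({b} : Set G) := by
      rw [hV, closure_le]
      rintro _ ⟨k, rfl⟩
      exact mem_centralizer_singleton_iff.2 (hb k).symm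
    exact mem_centralizer_iff.2 fun v hv => mem_centralizer_singleton_iff.1 (h1 hv)
  have hp2 : z i * z j * (z i * z j) = 1 := by
    have := elem_sq hVel _ (mul_mem (zV i) (zV j))
    rwa [pow_two] at this
  have cV : ∀ v ∈ V, a * v * a⁻¹ = v ∨ a * v * a⁻¹ = v * (z i * z j) := by
    let K : Subgroup G :=
      { carrier := {v | v ∈ V ∧ (a * v * a⁻¹ = v ∨ a * v * a⁻¹ = v * (z i * z j))}
        one_mem' := ⟨one_mem _, Or.inl (by group)⟩
        mul_mem' := by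
          rintro v w ⟨hv, h1⟩ ⟨hw, h2⟩
          refine ⟨mul_mem hv hw, ?_⟩
          have e1 : a * (v * w) * a⁻¹ = (a * v * a⁻¹) * (a * w * a⁻¹) := by group
          have e2 : (z i * z j) * w = w * (z i * z j) := elem_comm hVel _ (mul_mem (zV i) (zV j)) w hw
          rw [e1]
          rcases h1 with h1 | h1 <;> rcases h2 with h2 | h2 <;> rw [h1, h2]
          · left; rfl
          · right; rw [mul_assoc]
          · right
            rw [mul_assoc, e2, ← mul_assoc]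
          · left
            calc v * (z i * z j) * (w * (z i * z j)) = v * ((z i * z j) * w) * (z i * z j) := by group
              _ = v * w * ((z i * z j) * (z i * z j)) := by rw [e2]; group
              _ = v * w := by rw [hp2, mul_one]
        inv_mem' := by
          rintro v ⟨hv, h1⟩
          have hvi : v⁻¹ = v := by
            have := elem_sq hVel _ hv
            rw [pow_two] at this
            exact inv_eq_of_mul_eq_one_left this
          exact ⟨inv_mem hv, by rw [hvi]; exact h1⟩ }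
    have hK : V ≤ K := by
      rw [hV, closure_le]
      rintro _ ⟨k, rfl⟩
      refine ⟨zV k, ?_⟩
      rw [hact]
      by_cases hk : k = i
      · right
        rw [hk, Equiv.swap_apply_left, ← mul_assoc, sq, one_mul]
      · by_cases hk' : k = j
        · right
          rw [hk', Equiv.swap_apply_right, comm i j, ← mul_assoc, sq, one_mul]
        · left
          rw [Equiv.swap_apply_of_ne_of_ne hk hk']
    exact fun v hv => (hK hv).2
  have hof : Of V O' A a (z i * z j) :=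
    { elem := hA.1
      le := hA.2.1
      max := hA.2.2
      Vel := hVel
      VO := hVW.trans hWO
      aA := haA
      nV := ⟨z i, zV i, fun e => by
        have h1 := hact i
        rw [e, mul_inv_cancel_right, Equiv.swap_apply_left] at h1
        exact hij (inj h1)⟩
      pV := mul_mem (zV i) (zV j)
      cV := cV
      two := fun b hb hbn => by
        have hb' : ∀ k, b * z k * b⁻¹ = z (Equiv.swap i j k) := by
          rcases hs.1 b hb with h1 | h1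
          · exact absurd (key b h1) hbn
          · exact h1
        refine key _ fun k => ?_
        have e1 := hb' k
        have e2 := hact k
        have e3 : b * z k * b⁻¹ = a * z k * a⁻¹ := e1.trans e2.symm
        calc a⁻¹ * b * z k = a⁻¹ * (b * z k * b⁻¹) * b := by group
          _ = a⁻¹ * (a * z k * a⁻¹) * b := by rw [e3]
          _ = z k * (a⁻¹ * b) := by group }
  refine ⟨A ⊓ centralizer (V : Set G), a, ?_, isElementaryAbelian_mono hA.1 inf_le_left, fun q hq =>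
    (mem_normalizer_iff.1 (hOn (hA.2.1 haA)) q).1 hq, hact, fun u hu hc => hof.act hW hVW hWO hu hc, fun M hM =>
    hof.off hW hVW hWO hM⟩
  exact (inf_le_inf_right _ hA.2.1).trans hOQ

end Cfsg.Agent.Omega.NO3S.TwoA

end

end

-- merged: Cfsg.Agent.Mrg.Omega.NO3S.TwoJ.Core
section

/-!
# LightL, `n = 5`: TWO PAIRS (helper586 #20800), the abstract core (helper411 #25060 (A), helper604 #25153 (J1))

* `Dat` : the data.  `R` is a minimal parabolic over `T`, `V ≤ U` elementary abelian, `U` is invariant under `R` and `a`,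
  `[w₁, T] ≤ ⟨x⟩`, `[w₂, T] ≤ ⟨y⟩`, `R` centralises `x`, `y`, `A ≤ T` centralises `V` and commutes with `a`, ...
* `Dat.false`.
-/

set_option autoImplicit false
set_option linter.unusedSectionVars false

namespace Cfsg.Agent.Omega.NO3S.TwoJ

open Subgroup Cfsg Cfsg.Agent.ZN Cfsg.Agent.ZN.ChoiceBase
open Cfsg.Agent.ZN.ChoiceSit
open Cfsg.Agent.Omega.SQ1.Bau (mem_sup_comm card_sup_comm)
open Cfsg.Agent.MinSimple.MinParabolic (IsMinPar)
open Cfsg.Agent.MinSimple.VModule (oddGen oddGen_le mem_oddGen le_normalizer_oddGen)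
open Cfsg.Agent.Omega.NO3S.SN.TwoP (Mod Mod_le Mod_conj D_le_Mod conj_mem_Mod mem_Mod comm_prod comm_iff count2 split2
  noOver qf qf_mul qf_eq_zero)

universe u

variable {G : Type u} [Group G]

/-- `⟨V^R⟩` -/
def UR (R V : Subgroup G) : Subgroup G := closure {g | ∃ r ∈ R, ∃ v ∈ V, g = r * v * r⁻¹}

/-- The data of the count. -/
structure Dat [Finite G] (T R U V D A : Subgroup G) (a x y w₁ w₂ : G) : Prop where
  syl : Syl T R
  min : IsMinPar T R
  Uab : ∀ u ∈ U, ∀ v ∈ U, u * v = v * u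
  Usq : ∀ u ∈ U, u * u = 1
  RU : ∀ r ∈ R, ∀ u ∈ U, r * u * r⁻¹ ∈ U
  aU : ∀ u ∈ U, a * u * a⁻¹ ∈ U
  VU : V ≤ U
  DV : D ≤ V
  xD : x ∈ D
  yD : y ∈ D
  Dm : ∀ d ∈ D, d = 1 ∨ d = x ∨ d = y ∨ d = x * y
  RD : ∀ r ∈ R, ∀ d ∈ D, r * d = d * r
  w1 : w₁ ∈ V
  w2 : w₂ ∈ V
  x1 : x ≠ 1
  y1 : y ≠ 1
  xy : x ≠ y
  tw1 : ∀ t ∈ T, t * w₁ * t⁻¹ * w₁⁻¹ = 1 ∨ t * w₁ * t⁻¹ * w₁⁻¹ = x
  tw2 : ∀ t ∈ T, t * w₂ * t⁻¹ * w₂⁻¹ = 1 ∨ t * w₂ * t⁻¹ * w₂⁻¹ = y
  TV : ∀ t ∈ T, ∀ v ∈ V, t * v * t⁻¹ * v⁻¹ ∈ D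
  AT : A ≤ T
  AV : ∀ b ∈ A, ∀ v ∈ V, b * v = v * b
  Aab : ∀ b ∈ A, ∀ c ∈ A, b * c = c * b
  Asq : ∀ b ∈ A, b * b = 1
  aA : ∀ b ∈ A, a * b = b * a
  /-- `a` normalises `C_T(V)` -/
  aQ : ∀ q ∈ T, (∀ v ∈ V, q * v = v * q) →
    a * q * a⁻¹ ∈ T ∧ ∀ v ∈ V, (a * q * a⁻¹) * v = v * (a * q * a⁻¹)
  ax : a * x * a⁻¹ ∉ D
  ay : a * y * a⁻¹ ∉ D
  axy : a * (x * y) * a⁻¹ = x * y
  axw : ∃ d ∈ D, a * x * a⁻¹ = w₁ * w₂ * d
  /-- (1') -/
  one : ∀ M : Subgroup G, M ≤ UR R V → (∀ m ∈ M, ∀ k ∈ o2 R, k * m = m * k) → (∀ r ∈ R, ∀ m ∈ M, r * m * r⁻¹ ∈ M) →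
    ∀ r ∈ oddGen R, ∀ m ∈ M, r * m = m * r
  mv1 : ∃ r ∈ oddGen R, r * w₁ ≠ w₁ * r
  mv2 : ∃ r ∈ oddGen R, r * w₂ ≠ w₂ * r
  /-- `A V` is an elementary abelian subgroup of maximal order -/
  cnt : ∀ X : Subgroup G, V ≤ X → X ≤ U →
    Nat.card X * Nat.card ↥(A ⊓ centralizer (X : Set G)) ≤ Nat.card A * Nat.card ↥(X ⊓ centralizer (A : Set G))
  act : ∀ u ∈ U, (∀ b ∈ A, b * u = u * b) → ∃ v ∈ V, a * u * a⁻¹ = u * v

/-- `⟨M^R⟩ = M` and the powers of an element of odd order -/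
theorem comm_of_odd {r w i : G} (ho : Odd (orderOf r)) (hi : i * i = 1) (hc : r * i = i * r)
    (h : r * w * r⁻¹ = w * i) : r * w = w * r := by
  have h1 : ∀ n : ℕ, r ^ n * w * (r ^ n)⁻¹ = w * i ^ n := by
    intro n
    induction n with
    | zero => simp
    | succ n ih =>
      have e1 : r ^ (n + 1) * w * (r ^ (n + 1))⁻¹ = r * (r ^ n * w * (r ^ n)⁻¹) * r⁻¹ := by
        rw [pow_succ']; group
      have hcn : r * i ^ n * r⁻¹ = i ^ n := by
        have h2 : Commute r i := hc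
        have h3 : Commute r (i ^ n) := h2.pow_right n
        rw [h3.eq, mul_inv_cancel_right]
      rw [e1, ih]
      calc r * (w * i ^ n) * r⁻¹ = (r * w * r⁻¹) * (r * i ^ n * r⁻¹) := by group
        _ = w * i * i ^ n := by rw [h, hcn]
        _ = w * i ^ (n + 1) := by rw [mul_assoc, pow_succ']
  have h2 := h1 (orderOf r)
  rw [pow_orderOf_eq_one] at h2
  obtain ⟨k, hk⟩ := ho
  have h3 : i ^ orderOf r = i := by
    rw [hk, pow_succ, pow_mul, pow_two, hi, one_pow, one_mul]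
  rw [h3] at h2
  have h4 : i = 1 := by
    have : w = w * i := by simpa using h2
    exact left_eq_mul.1 this
  rw [h4, mul_one] at h
  exact mul_inv_eq_iff_eq_mul.1 h

variable [Finite G]

namespace Dat

variable {T R U V D A : Subgroup G} {a x y w₁ w₂ : G} (f : Dat T R U V D A a x y w₁ w₂)
include f

theorem TR : T ≤ R := f.syl.1

theorem T2 : IsPGroup 2 T := f.syl.2.1

theorem OT : o2 R ≤ T := ChoiceSit.o2_le_syl f.syl

theorem OR : o2 R ≤ R := f.OT.trans f.TR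

theorem DU : D ≤ U := f.DV.trans f.VU

theorem xx : x * x = 1 := f.Usq x (f.DU f.xD)

theorem yy : y * y = 1 := f.Usq y (f.DU f.yD)

theorem xyc : x * y = y * x := f.Uab x (f.DU f.xD) y (f.DU f.yD)

theorem conj_D {r d : G} (hr : r ∈ R) (hd : d ∈ D) : r * d * r⁻¹ = d := by
  rw [f.RD r hr d hd, mul_inv_cancel_right]

theorem Mod_norm {w r e : G} (hr : r ∈ R) (he : e ∈ Mod D R w) : r * e * r⁻¹ ∈ Mod D R w :=
  Mod_conj (fun _ hr _ hd => by rw [f.conj_D hr hd]; exact hd) hr he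

theorem Mod_U {w : G} (hw : w ∈ U) : Mod D R w ≤ U :=
  Mod_le f.DU fun r hr => f.RU r hr w hw

theorem UR_U : UR R V ≤ U := by
  rw [UR, closure_le]
  rintro _ ⟨r, hr, v, hv, rfl⟩
  exact f.RU r hr v (f.VU hv)

theorem Mod_UR {w : G} (hw : w ∈ V) : Mod D R w ≤ UR R V :=
  Mod_le (fun d hd => subset_closure ⟨1, R.one_mem, d, f.DV hd, by group⟩) fun r hr =>
    subset_closure ⟨r, hr, w, hw, rfl⟩

theorem O_norm {r b : G} (hr : r ∈ R) (hb : b ∈ o2 R) : r⁻¹ * b * r⁻¹⁻¹ ∈ o2 R :=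
  (mem_normalizer_iff.1 (MinSimple.VModule.le_normalizer_o2 R (inv_mem hr)) b).1 hb

/-- the commutators with `O₂(R)` -/
theorem comm_Mod {w x' : G} (hw : w ∈ U) (hx : x' ∈ D)
    (hc : ∀ t ∈ T, t * w * t⁻¹ * w⁻¹ = 1 ∨ t * w * t⁻¹ * w⁻¹ = x')
    {b e : G} (hb : b ∈ o2 R) (he : e ∈ Mod D R w) : b * e * b⁻¹ * e⁻¹ = 1 ∨ b * e * b⁻¹ * e⁻¹ = x' := by
  have hxx : x' * x' = 1 := f.Usq x' (f.DU hx)
  let K : Subgroup G :=
    { carrier := {e | e ∈ U ∧ ∀ b ∈ o2 R, b * e * b⁻¹ * e⁻¹ = 1 ∨ b * e * b⁻¹ * e⁻¹ = x'}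
      one_mem' := ⟨one_mem _, fun b _ => Or.inl (by group)⟩
      mul_mem' := by
        rintro e e' ⟨he, h2⟩ ⟨he', h3⟩
        refine ⟨mul_mem he he', fun b hb => ?_⟩
        have h4 : b * e' * b⁻¹ * e'⁻¹ ∈ U :=
          mul_mem (f.RU b (f.OR hb) e' he') (inv_mem he')
        have h5 : b * (e * e') * b⁻¹ * (e * e')⁻¹ = (b * e * b⁻¹ * e⁻¹) * (b * e' * b⁻¹ * e'⁻¹) :=
          comm_prod (f.Uab e he _ h4)
        rw [h5]
        rcases h2 b hb with h6 | h6 <;> rcases h3 b hb with h7 | h7 <;> rw [h6, h7]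
        · left; rw [one_mul]
        · right; rw [one_mul]
        · right; rw [mul_one]
        · left; exact hxx
      inv_mem' := by
        rintro e ⟨he, h2⟩
        refine ⟨inv_mem he, fun b hb => ?_⟩
        have hei : e⁻¹ = e := inv_eq_of_mul_eq_one_left (f.Usq e he)
        rw [hei]
        exact h2 b hb }
  have h1 : Mod D R w ≤ K := by
    refine Mod_le (fun d hd => ⟨f.DU hd, fun b hb => Or.inl ?_⟩) fun r hr => ?_
    · rw [f.conj_D (f.OR hb) hd, mul_inv_cancel]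
    · refine ⟨f.RU r hr w hw, fun b hb => ?_⟩
      have hb' := f.O_norm hr hb
      have e1 : b * (r * w * r⁻¹) * b⁻¹ * (r * w * r⁻¹)⁻¹ =
          r * ((r⁻¹ * b * r⁻¹⁻¹) * w * (r⁻¹ * b * r⁻¹⁻¹)⁻¹ * w⁻¹) * r⁻¹ := by group
      rw [e1]
      rcases hc _ (f.OT hb') with h2 | h2
      · left; rw [h2]; group
      · right; rw [h2, f.conj_D hr hx]
  exact (h1 he).2 b hb

/-- the kernel of `R` on `M / I` -/
theorem mem_O' {M I : Subgroup G} (hM : ∀ r ∈ R, ∀ e ∈ M, r * e * r⁻¹ ∈ M) (hI : ∀ r ∈ R, ∀ e ∈ I, r * e * r⁻¹ ∈ I)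
    {w : G} (hw : w ∈ M) (hwT : ∀ t ∈ T, t * w * t⁻¹ * w⁻¹ ∈ I) (hwR : ∃ r ∈ R, r * w * r⁻¹ * w⁻¹ ∉ I) {b : G}
    (hb : b ∈ T) (hc : ∀ e ∈ M, b * e * b⁻¹ * e⁻¹ ∈ I) : b ∈ o2 R := by
  have hfact : Fact (Nat.Prime 2) := ⟨Nat.prime_two⟩
  let N : Subgroup G :=
    { carrier := {r | r ∈ R ∧ ∀ e ∈ M, r * e * r⁻¹ * e⁻¹ ∈ I}
      one_mem' := ⟨one_mem _, fun e _ => by
        have : (1 : G) * e * 1⁻¹ * e⁻¹ = 1 := by group
        rw [this]; exact one_mem _⟩
      mul_mem' := by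
        rintro r s ⟨hr, h2⟩ ⟨hs, h3⟩
        refine ⟨mul_mem hr hs, fun e he => ?_⟩
        have h4 : (r * s) * e * (r * s)⁻¹ * e⁻¹ = r * (s * e * s⁻¹ * e⁻¹) * r⁻¹ * (r * e * r⁻¹ * e⁻¹) := by group
        rw [h4]
        exact mul_mem (hI r hr _ (h3 e he)) (h2 e he)
      inv_mem' := by
        rintro r ⟨hr, h2⟩
        refine ⟨inv_mem hr, fun e he => ?_⟩
        have h3 : r⁻¹ * e * r⁻¹⁻¹ ∈ M := hM _ (inv_mem hr) e he
        have h4 := h2 _ h3
        have h5 : r * (r⁻¹ * e * r⁻¹⁻¹) * r⁻¹ * (r⁻¹ * e * r⁻¹⁻¹)⁻¹ = (r⁻¹ * e * r⁻¹⁻¹ * e⁻¹)⁻¹ := by group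
        rw [h5] at h4
        have := inv_mem h4
        rwa [inv_inv] at this }
  have hNR : N ≤ R := fun r hr => hr.1
  have hNn : R ≤ normalizer (N : Set G) := by
    intro r hr
    refine mem_normalizer_of_cj_le ?_
    rintro _ ⟨s, hs, rfl⟩
    change r * s * r⁻¹ ∈ N
    refine ⟨R.mul_mem (R.mul_mem hr hs.1) (R.inv_mem hr), fun e he => ?_⟩
    have h3 : r⁻¹ * e * r⁻¹⁻¹ ∈ M := hM _ (inv_mem hr) e he
    have h4 := hs.2 _ h3
    have h5 : r * s * r⁻¹ * e * (r * s * r⁻¹)⁻¹ * e⁻¹ =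
        r * (s * (r⁻¹ * e * r⁻¹⁻¹) * s⁻¹ * (r⁻¹ * e * r⁻¹⁻¹)⁻¹) * r⁻¹ := by group
    rw [h5]
    exact hI r hr _ h4
  refine ((f.min.sup_eq_or_inf_le f.T2 (syl_not_dvd f.syl) hNR hNn).resolve_left fun h0 => ?_) ⟨hb, f.TR hb, hc⟩
  obtain ⟨r, hr, hrw⟩ := hwR
  apply hrw
  have hTN : T ≤ normalizer (N : Set G) := f.TR.trans hNn
  rw [← h0, sup_comm] at hr
  obtain ⟨t, ht, n, hn, rfl⟩ : ∃ t ∈ T, ∃ n ∈ N, r = t * n := SQ1.Bau.mem_sup_norm hTN hr
  have e1 : (t * n) * w * (t * n)⁻¹ * w⁻¹ = t * (n * w * n⁻¹ * w⁻¹) * t⁻¹ * (t * w * t⁻¹ * w⁻¹) := by group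
  rw [e1]
  exact mul_mem (hI t (f.TR ht) _ (hn.2 w hw)) (hwT t ht)

/-- **(3)** -/
theorem three {w : G} (hw : w ∈ U) (hmv : ∃ r ∈ oddGen R, r * w ≠ w * r) {I : Subgroup G} (hI' : I ≤ UR R V)
    (hIR : ∀ r ∈ R, ∀ e ∈ I, r * e * r⁻¹ ∈ I) (hIO : ∀ e ∈ I, ∀ b ∈ o2 R, b * e = e * b) :
    ∃ r ∈ R, r * w * r⁻¹ * w⁻¹ ∉ I := by
  by_contra hcon
  push Not at hcon
  have hIU : I ≤ U := hI'.trans f.UR_U
  have h1 := f.one I hI' hIO hIR
  obtain ⟨r, hr, hrw⟩ := hmv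
  apply hrw
  have h2 : oddGen R ≤ centralizer ({w} : Set G) := by
    rw [MinSimple.VModule.oddGen_def, closure_le]
    rintro s ⟨hs, hso⟩
    have h3 := hcon s hs
    have h4 := h1 s (mem_oddGen hs hso) _ h3
    refine mem_centralizer_singleton_iff.2 (comm_of_odd (i := s * w * s⁻¹ * w⁻¹) hso (f.Usq _ (hIU h3)) h4 ?_)
    rw [f.Uab w hw _ (hIU h3)]
    group
  exact mem_centralizer_singleton_iff.1 (h2 hr)

/-- `C_{O₂(R)}(V)` does not centralise `E₁`. -/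
theorem mv {w x' : G} (hw : w ∈ V) (hx : x' ∈ D) (hmv : ∃ r ∈ oddGen R, r * w ≠ w * r)
    (hc : ∀ t ∈ T, t * w * t⁻¹ * w⁻¹ = 1 ∨ t * w * t⁻¹ * w⁻¹ = x') :
    ∃ e ∈ Mod D R w, ∃ q ∈ o2 R, (∀ v ∈ V, q * v = v * q) ∧ q * e ≠ e * q := by
  by_contra hcon
  push Not at hcon
  have hwU := f.VU hw
  set M := Mod D R w with hM
  have hRM : ∀ r ∈ R, ∀ e ∈ M, r * e * r⁻¹ ∈ M := fun r hr e he => f.Mod_norm hr he
  have hMU : M ≤ U := f.Mod_U hwU
  have hI : ∀ r ∈ R, ∀ e ∈ M ⊓ centralizer (o2 R : Set G), r * e * r⁻¹ ∈ M ⊓ centralizer (o2 R : Set G) := by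
    rintro r hr e ⟨he, hec⟩
    refine ⟨hRM r hr e he, mem_centralizer_iff.2 fun b hb => ?_⟩
    have h2 := mem_centralizer_iff.1 hec _ (f.O_norm hr hb)
    calc b * (r * e * r⁻¹) = r * ((r⁻¹ * b * r⁻¹⁻¹) * e) * r⁻¹ := by group
      _ = r * (e * (r⁻¹ * b * r⁻¹⁻¹)) * r⁻¹ := by rw [h2]
      _ = r * e * r⁻¹ * b := by group
  have h3 := f.three hwU hmv (I := M ⊓ centralizer (o2 R : Set G)) (inf_le_left.trans (f.Mod_UR hw)) hI
    fun e he b hb => mem_centralizer_iff.1 he.2 b hb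
  have hcE := fun (b : G) (hb : b ∈ o2 R) (e : G) (he : e ∈ M) => f.comm_Mod hwU hx hc hb he
  -- `T` acts trivially on `M / C_M(O)`
  have hT : ∀ t ∈ T, ∀ e ∈ M, t * e * t⁻¹ * e⁻¹ ∈ M ⊓ centralizer (o2 R : Set G) := by
    intro t ht e he
    have htR := f.TR ht
    have het := hRM t htR e he
    refine ⟨M.mul_mem het (M.inv_mem he), mem_centralizer_iff.2 fun b hb => ?_⟩
    set b' := t⁻¹ * b * t⁻¹⁻¹ with hb'
    have hb'O : b' ∈ o2 R := f.O_norm htR hb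
    have hbT := f.OT hb
    have hcO : b⁻¹ * b' ∈ o2 R := mul_mem (inv_mem hb) hb'O
    have hcV : ∀ v ∈ V, (b⁻¹ * b') * v * (b⁻¹ * b')⁻¹ = v := by
      intro v hv
      have g1 := f.TV t ht v hv
      have g2 : ∀ s ∈ T, ∀ d ∈ D, s * d * s⁻¹ = d := fun s hs d hd => f.conj_D (f.TR hs) hd
      have g3 := f.TV b hbT v hv
      have g6 : b' * v * b'⁻¹ = b * v * b⁻¹ := by
        have e1 : b' * v * b'⁻¹ = t⁻¹ * (b * (t * v * t⁻¹) * b⁻¹) * t := by rw [hb']; group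
        have e2 : b * (t * v * t⁻¹) * b⁻¹ = (t * v * t⁻¹ * v⁻¹) * (b * v * b⁻¹) := by
          calc b * (t * v * t⁻¹) * b⁻¹ = (b * (t * v * t⁻¹ * v⁻¹) * b⁻¹) * (b * v * b⁻¹) := by group
            _ = _ := by rw [g2 b hbT _ g1]
        have e3 : t⁻¹ * ((t * v * t⁻¹ * v⁻¹) * (b * v * b⁻¹)) * t =
            (t⁻¹ * (t * v * t⁻¹ * v⁻¹) * t⁻¹⁻¹) * (t⁻¹ * (b * v * b⁻¹ * v⁻¹) * t⁻¹⁻¹) * (t⁻¹ * v * t) := by group
        rw [e1, e2, e3, g2 _ (inv_mem ht) _ g1, g2 _ (inv_mem ht) _ g3]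
        have e4 : t⁻¹ * v * t = t⁻¹ * (t * v * t⁻¹ * v⁻¹)⁻¹ * t⁻¹⁻¹ * v := by group
        rw [e4, g2 _ (inv_mem ht) _ (inv_mem g1)]
        have e5 : (t * v * t⁻¹ * v⁻¹) * (b * v * b⁻¹ * v⁻¹) = (b * v * b⁻¹ * v⁻¹) * (t * v * t⁻¹ * v⁻¹) :=
          f.Uab _ (f.DU g1) _ (f.DU g3)
        rw [e5]
        group
      calc (b⁻¹ * b') * v * (b⁻¹ * b')⁻¹ = b⁻¹ * (b' * v * b'⁻¹) * b := by group
        _ = b⁻¹ * (b * v * b⁻¹) * b := by rw [g6]
        _ = v := by group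
    have hcc : ∀ e ∈ M, (b⁻¹ * b') * e * (b⁻¹ * b')⁻¹ = e := fun e he => by
      rw [hcon e he _ hcO fun v hv => mul_inv_eq_iff_eq_mul.1 (hcV v hv), mul_inv_cancel_right]
    have h4 : b' * e * b'⁻¹ = b * e * b⁻¹ := by
      calc b' * e * b'⁻¹ = b * ((b⁻¹ * b') * e * (b⁻¹ * b')⁻¹) * b⁻¹ := by group
        _ = b * e * b⁻¹ := by rw [hcc e he]
    have h5 : b * e * b⁻¹ * e⁻¹ ∈ D := by
      rcases hcE b hb e he with h6 | h6 <;> rw [h6]
      · exact one_mem _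
      · exact hx
    have h6 : b * (t * e * t⁻¹) * b⁻¹ = (b * e * b⁻¹ * e⁻¹) * (t * e * t⁻¹) := by
      calc b * (t * e * t⁻¹) * b⁻¹ = t * (b' * e * b'⁻¹) * t⁻¹ := by rw [hb']; group
        _ = t * (b * e * b⁻¹ * e⁻¹) * t⁻¹ * (t * e * t⁻¹) := by rw [h4]; group
        _ = _ := by rw [f.conj_D htR h5]
    refine mul_inv_eq_iff_eq_mul.1 ?_
    have h7 : b * (t * e * t⁻¹ * e⁻¹) * b⁻¹ = b * (t * e * t⁻¹) * b⁻¹ * (b * e * b⁻¹)⁻¹ := by group
    rw [h7, h6]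
    have h8 : (b * e * b⁻¹ * e⁻¹) * (t * e * t⁻¹) = (t * e * t⁻¹) * (b * e * b⁻¹ * e⁻¹) :=
      f.Uab _ (f.DU h5) _ (hMU het)
    rw [h8]
    have h9 : (b * e * b⁻¹ * e⁻¹) * (b * e * b⁻¹)⁻¹ = e⁻¹ := by
      have h10 : (b * e * b⁻¹) * e⁻¹ = e⁻¹ * (b * e * b⁻¹) :=
        f.Uab _ (hMU (hRM b (f.OR hb) e he)) _ (inv_mem (hMU he))
      rw [h10]; group
    rw [mul_assoc, h9]
  -- so `T ≤ O`
  have hTO : T ≤ o2 R := fun t ht => f.mem_O' hRM hI (mem_Mod _ _ _) (fun t ht => hT t ht _ (mem_Mod _ _ _)) h3 ht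
    (hT t ht)
  have hTe : o2 R = T := le_antisymm f.OT hTO
  exact f.min.not_le (by rw [← hTe]; exact MinSimple.VModule.le_normalizer_o2 R)

/-- the fixed points of `A` on `M / I` -/
theorem exists_fixed {M I : Subgroup G} (hMU : M ≤ U) :
    ∃ F₁ : Subgroup G, ∀ e, e ∈ F₁ ↔ e ∈ M ∧ ∀ b ∈ A, b * e * b⁻¹ * e⁻¹ ∈ I := by
  refine ⟨{ carrier := {e | e ∈ M ∧ ∀ b ∈ A, b * e * b⁻¹ * e⁻¹ ∈ I}
            one_mem' := ⟨one_mem _, fun b _ => by
              have : b * 1 * b⁻¹ * (1 : G)⁻¹ = 1 := by group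
              rw [this]; exact one_mem _⟩
            mul_mem' := ?_
            inv_mem' := ?_ }, fun e => Iff.rfl⟩
  · rintro e e' ⟨he, h1⟩ ⟨he', h2⟩
    refine ⟨mul_mem he he', fun b hb => ?_⟩
    have h3 : b * e' * b⁻¹ * e'⁻¹ ∈ U := mul_mem (f.RU b (f.TR (f.AT hb)) e' (hMU he')) (inv_mem (hMU he'))
    rw [comm_prod (f.Uab e (hMU he) _ h3)]
    exact mul_mem (h1 b hb) (h2 b hb)
  · rintro e ⟨he, h1⟩
    have hei : e⁻¹ = e := inv_eq_of_mul_eq_one_left (f.Usq e (hMU he))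
    rw [hei]
    exact ⟨he, h1⟩

/-- **The core of (A) of #25060.** -/
theorem false : False := by
  classical
  have hUab : ∀ u ∈ U, ∀ v ∈ U, u * v = v * u := f.Uab
  set E₁ := Mod D R w₁ with hE₁
  set E₂ := Mod D R w₂ with hE₂
  have hE1U : E₁ ≤ U := f.Mod_U (f.VU f.w1)
  have hE2U : E₂ ≤ U := f.Mod_U (f.VU f.w2)
  set I := E₁ ⊓ E₂ with hI
  have hIU : I ≤ U := inf_le_left.trans hE1U
  have hI' : I ≤ UR R V := inf_le_left.trans (f.Mod_UR f.w1)
  have hIR : ∀ r ∈ R, ∀ e ∈ I, r * e * r⁻¹ ∈ I := fun r hr e he => ⟨f.Mod_norm hr he.1, f.Mod_norm hr he.2⟩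
  have hDI : D ≤ I := le_inf (D_le_Mod _ _ _) (D_le_Mod _ _ _)
  have cE1 : ∀ b ∈ o2 R, ∀ e ∈ E₁, b * e * b⁻¹ * e⁻¹ = 1 ∨ b * e * b⁻¹ * e⁻¹ = x := fun b hb e he =>
    f.comm_Mod (f.VU f.w1) f.xD f.tw1 hb he
  have cE2 : ∀ b ∈ o2 R, ∀ e ∈ E₂, b * e * b⁻¹ * e⁻¹ = 1 ∨ b * e * b⁻¹ * e⁻¹ = y := fun b hb e he =>
    f.comm_Mod (f.VU f.w2) f.yD f.tw2 hb he
  have hIO : ∀ e ∈ I, ∀ b ∈ o2 R, b * e = e * b := by
    intro e he b hb
    rw [← comm_iff]
    rcases cE1 b hb e he.1 with h1 | h1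
    · exact h1
    · rcases cE2 b hb e he.2 with h2 | h2
      · exact h2
      · exact absurd (h1.symm.trans h2) f.xy
  have hAR : A ≤ R := f.AT.trans f.TR
  obtain ⟨F₁, hF₁⟩ := f.exists_fixed (I := I) hE1U
  obtain ⟨F₂, hF₂⟩ := f.exists_fixed (I := I) hE2U
  -- no over-offender
  have hAO : ∀ {M : Subgroup G} {w : G}, M = Mod D R w → (∀ t ∈ T, t * w * t⁻¹ * w⁻¹ ∈ I) →
      (∃ r ∈ R, r * w * r⁻¹ * w⁻¹ ∉ I) → ∀ b ∈ A, (∀ e ∈ M, b * e * b⁻¹ * e⁻¹ ∈ I) → b ∈ o2 R := by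
    rintro M w rfl hT hR b hb hc
    exact f.mem_O' (fun r hr e he => f.Mod_norm hr he) hIR (mem_Mod _ _ _) hT hR (f.AT hb) hc
  have key : ∀ {w x' : G} {F₀ : Subgroup G}, w ∈ V → x' ∈ D →
      (∀ t ∈ T, t * w * t⁻¹ * w⁻¹ = 1 ∨ t * w * t⁻¹ * w⁻¹ = x') → (∃ r ∈ oddGen R, r * w ≠ w * r) →
      I ≤ Mod D R w → (∀ e, e ∈ F₀ ↔ e ∈ Mod D R w ∧ ∀ b ∈ A, b * e * b⁻¹ * e⁻¹ ∈ I) →
      (o2 R).relIndex A * Nat.card F₀ ≤ Nat.card (Mod D R w) := by
    intro w x' F₀ hw hx' hc hmv hle hF₀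
    have hMU : Mod D R w ≤ U := f.Mod_U (f.VU hw)
    have hT : ∀ t ∈ T, t * w * t⁻¹ * w⁻¹ ∈ I := by
      intro t ht
      apply hDI
      rcases hc t ht with h1 | h1 <;> rw [h1]
      · exact one_mem _
      · exact hx'
    have hR := f.three (f.VU hw) hmv hI' hIR hIO
    exact noOver f.syl f.min hle (fun v hv w hw => f.Uab v (hMU hv) w (hMU hw)) (fun v hv => f.Usq v (hMU hv))
      hIR (fun r hr e he => f.Mod_norm hr he) (mem_Mod _ _ _) hT hR (fun K hK1 hK2 => Mod_le (hDI.trans hK1) hK2) hAR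
      f.Aab f.Asq (fun a ha hc => hAO rfl hT hR a ha hc) hF₀
  have k1 := key f.w1 f.xD f.tw1 f.mv1 inf_le_left hF₁
  have k2 := key f.w2 f.yD f.tw2 f.mv2 inf_le_right hF₂
  -- the product
  set B₁ := A ⊓ o2 R with hB₁
  set κ := (o2 R).relIndex A with hκd
  have hκ : κ * Nat.card B₁ = Nat.card A := SN.TwoP.relIndex_mul
  set E := V ⊔ (E₁ ⊔ E₂) with hE
  have hEU : E ≤ U := sup_le f.VU (sup_le hE1U hE2U)
  have hmE : ∀ e ∈ E, ∃ v ∈ V, ∃ e₁ ∈ E₁, ∃ e₂ ∈ E₂, e = v * (e₁ * e₂) := by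
    intro e he
    obtain ⟨v, hv, w, hw, rfl⟩ := mem_sup_comm
      (fun x hx y hy => f.Uab x (f.VU hx) y (sup_le hE1U hE2U hy)) he
    obtain ⟨e₁, he₁, e₂, he₂, rfl⟩ := mem_sup_comm (fun x hx y hy => f.Uab x (hE1U hx) y (hE2U hy)) hw
    exact ⟨v, hv, e₁, he₁, e₂, he₂, rfl⟩
  have cprod : ∀ b ∈ R, ∀ e ∈ U, ∀ e' ∈ U,
      b * (e * e') * b⁻¹ * (e * e')⁻¹ = (b * e * b⁻¹ * e⁻¹) * (b * e' * b⁻¹ * e'⁻¹) := by
    intro b hb e he e' he'
    exact comm_prod (f.Uab e he _ (mul_mem (f.RU b hb e' he') (inv_mem he')))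
  have cE : ∀ b ∈ B₁, ∀ e ∈ E, b * e * b⁻¹ * e⁻¹ = 1 ∨ b * e * b⁻¹ * e⁻¹ = x ∨ b * e * b⁻¹ * e⁻¹ = y ∨
      b * e * b⁻¹ * e⁻¹ = x * y := by
    intro b hb e he
    obtain ⟨v, hv, e₁, he₁, e₂, he₂, rfl⟩ := hmE e he
    have hbR := hAR hb.1
    rw [cprod b hbR v (f.VU hv) _ (mul_mem (hE1U he₁) (hE2U he₂)), cprod b hbR e₁ (hE1U he₁) e₂ (hE2U he₂),
      comm_iff.2 (f.AV b hb.1 v hv), one_mul]
    rcases cE1 b hb.2 e₁ he₁ with h4 | h4 <;> rcases cE2 b hb.2 e₂ he₂ with h5 | h5 <;> rw [h4, h5]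
    · left; rw [one_mul]
    · right; right; left; rw [one_mul]
    · right; left; rw [mul_one]
    · right; right; right; rfl
  have hcD : ∀ b ∈ B₁, ∀ e ∈ E, b * e * b⁻¹ * e⁻¹ ∈ D := by
    intro b hb e he
    rcases cE b hb e he with h4 | h4 | h4 | h4 <;> rw [h4]
    · exact one_mem _
    · exact f.xD
    · exact f.yD
    · exact mul_mem f.xD f.yD
  have nE1 : ∀ b ∈ A, ∀ e ∈ E₁, b * e * b⁻¹ ∈ E₁ := fun b hb e he => f.Mod_norm (hAR hb) he
  have nE2 : ∀ b ∈ A, ∀ e ∈ E₂, b * e * b⁻¹ ∈ E₂ := fun b hb e he => f.Mod_norm (hAR hb) he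
  have hE1E : E₁ ≤ E := le_sup_left.trans le_sup_right
  have hE2E : E₂ ≤ E := le_sup_right.trans le_sup_right
  have hVE : V ≤ E := le_sup_left
  -- centralisers lie in `O`
  have hcO : ∀ b ∈ A, (∀ e ∈ E, b * e = e * b) → b ∈ B₁ := by
    intro b hb hbe
    refine ⟨hb, hAO (M := E₁) hE₁ ?_ (f.three (f.VU f.w1) f.mv1 hI' hIR hIO) b hb ?_⟩
    · intro t ht
      apply hDI
      rcases f.tw1 t ht with h1 | h1 <;> rw [h1]
      · exact one_mem _
      · exact f.xD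
    · intro e he
      rw [comm_iff.2 (hbe e (hE1E he))]
      exact one_mem _
  have hxx := f.xx
  have hyy := f.yy
  have hxy := f.xyc
  have hx1 := f.x1
  have hy1 := f.y1
  have hne := f.xy
  have hEaU : cj a E ≤ U := by
    rintro _ ⟨e, he, rfl⟩
    exact f.aU e (hEU he)
  have hcount := count2 (B := A) (B₁ := B₁) (E := E) (U := U) (a := a) hEU
    (fun e he => f.aU e (hEU he)) hUab f.aA inf_le_left hcO
    (fun e b => qf x y (b * e * b⁻¹ * e⁻¹))
    (by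
      intro e he e' he' b hb
      rw [cprod b (hAR hb.1) e (hEU he) e' (hEU he')]
      exact qf_mul hxx hyy hxy hx1 hy1 hne (cE b hb e he) (cE b hb e' he'))
    (by
      intro e he b hb b' hb'
      have e1 : (b * b') * e * (b * b')⁻¹ * e⁻¹ = b * (b' * e * b'⁻¹ * e⁻¹) * b⁻¹ * (b * e * b⁻¹ * e⁻¹) := by group
      rw [e1, f.conj_D (hAR hb.1) (hcD b' hb' e he), add_comm]
      exact qf_mul hxx hyy hxy hx1 hy1 hne (cE b' hb' e he) (cE b hb e he))
    (by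
      intro b hb h4
      have h5 : ∀ e ∈ E₁, b * e = e * b := by
        intro e he
        have h6 := qf_eq_zero.1 (h4 e (hE1E he))
        rw [← comm_iff]
        rcases cE1 b hb.2 e he with h7 | h7
        · exact h7
        · exfalso
          rw [h7] at h6
          rcases h6 with h6 | h6
          · exact hx1 h6
          · exact hy1 (left_eq_mul.1 h6)
      have h6 : ∀ e ∈ E₂, b * e = e * b := by
        intro e he
        have h6 := qf_eq_zero.1 (h4 e (hE2E he))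
        rw [← comm_iff]
        rcases cE2 b hb.2 e he with h7 | h7
        · exact h7
        · exfalso
          rw [h7] at h6
          rcases h6 with h6 | h6
          · exact hy1 h6
          · exact hx1 (right_eq_mul.1 h6)
      intro e he
      obtain ⟨v, hv, e₁, he₁, e₂, he₂, rfl⟩ := hmE e he
      have c1 : Commute b v := f.AV b hb.1 v hv
      have c2 : Commute b e₁ := h5 e₁ he₁
      have c3 : Commute b e₂ := h6 e₂ he₂
      exact (c1.mul_right (c2.mul_right c3)).eq)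
    (by
      intro e he e' he' b hb h4
      rw [qf_eq_zero]
      have hbe := hcD b hb e he
      rcases cE b hb e' he' with h6 | h6 | h6 | h6 <;> rw [h6] at h4
      · left; rw [h4]; group
      · exact absurd (h4 ▸ hbe) f.ax
      · exact absurd (h4 ▸ hbe) f.ay
      · right; rw [h4, f.axy])
    (f.cnt _ (hVE.trans le_sup_left) (sup_le hEU hEaU))
  -- the lower bound
  have hlow := split2 (B := A) (E₁ := E₁) (E₂ := E₂) (V := V) (U := U) (k := κ)
    hUab f.VU hE1U hE2U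
    (fun v hv => mem_centralizer_iff.2 fun b hb => f.AV b hb v hv) nE1 nE2 hF₁ hF₂ k1 k2
  rw [← hE] at hlow
  have hB1p : 0 < Nat.card B₁ := Nat.card_pos
  have hCp : 0 < Nat.card ↥(E ⊓ centralizer (A : Set G)) := Nat.card_pos
  have hA0p : 0 < Nat.card A := Nat.card_pos
  have hκ0 : 0 < κ := by
    rcases Nat.eq_zero_or_pos κ with h4 | h4
    · rw [h4, zero_mul] at hκ
      omega
    · exact h4
  have r1 : Nat.card E ≤ κ * Nat.card ↥(E ⊓ centralizer (A : Set G)) := by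
    have h4 : Nat.card E * Nat.card B₁ ≤ (κ * Nat.card ↥(E ⊓ centralizer (A : Set G))) * Nat.card B₁ := by
      calc Nat.card E * Nat.card B₁ ≤ Nat.card A * Nat.card ↥(E ⊓ centralizer (A : Set G)) := hcount
        _ = (κ * Nat.card B₁) * Nat.card ↥(E ⊓ centralizer (A : Set G)) := by rw [hκ]
        _ = _ := by ring
    exact Nat.le_of_mul_le_mul_right h4 hB1p
  have hκ1 : κ = 1 := by
    have h4 : κ * κ * Nat.card ↥(E ⊓ centralizer (A : Set G)) ≤ κ * Nat.card ↥(E ⊓ centralizer (A : Set G)) :=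
      hlow.trans r1
    have h5 : κ * κ ≤ κ := Nat.le_of_mul_le_mul_right h4 hCp
    nlinarith
  rw [hκ1, one_mul] at r1
  have hEc : E ≤ centralizer (A : Set G) := by
    have h4 : E ⊓ centralizer (A : Set G) = E := Subgroup.eq_of_le_of_card_ge inf_le_left r1
    rw [← h4]
    exact inf_le_right
  -- the end
  obtain ⟨e, he, q, hq, hqV, hqe⟩ := f.mv f.w1 f.xD f.mv1 f.tw1
  have hqx : q * e * q⁻¹ * e⁻¹ = x := (cE1 q hq e he).resolve_left fun h4 => hqe (comm_iff.1 h4)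
  have heE : e ∈ E := hE1E he
  obtain ⟨v, hv, hev⟩ := f.act e (hEU heE) fun b hb => mem_centralizer_iff.1 (hEc heE) b hb
  obtain ⟨hq'T, hq'V⟩ := f.aQ q (f.OT hq) hqV
  obtain ⟨q', hq'⟩ : ∃ q', q' = a * q * a⁻¹ := ⟨_, rfl⟩
  rw [← hq'] at hq'T hq'V
  have h5 : q' * (e * v) * q'⁻¹ * (e * v)⁻¹ = a * x * a⁻¹ := by
    rw [← hqx, ← hev, hq']
    group
  have h6 : q' * e * q'⁻¹ * e⁻¹ = a * x * a⁻¹ := by
    rw [← h5]
    have h7 : q' * v * q'⁻¹ = v := by rw [hq'V v hv, mul_inv_cancel_right]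
    calc q' * e * q'⁻¹ * e⁻¹ = q' * e * q'⁻¹ * v * v⁻¹ * e⁻¹ := by group
      _ = q' * e * q'⁻¹ * (q' * v * q'⁻¹) * v⁻¹ * e⁻¹ := by rw [h7]
      _ = _ := by group
  have hrE : a * x * a⁻¹ ∈ E₁ := by
    rw [← h6]
    exact mul_mem (f.Mod_norm (f.TR hq'T) he) (inv_mem he)
  -- `O₂(R)` centralises `w₂`
  have hw2 : ∀ c ∈ o2 R, c * w₂ = w₂ * c := by
    intro c hc
    obtain ⟨d, hd, hxd⟩ := f.axw
    have hcT := f.OT hc
    have hcR := f.OR hc
    have hw1U := f.VU f.w1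
    have hw2U := f.VU f.w2
    have h8 := cE1 c hc _ hrE
    rw [hxd, cprod c hcR _ (mul_mem hw1U hw2U) d (f.DU hd), cprod c hcR _ hw1U _ hw2U, comm_iff.2 (f.RD c hcR d hd),
      mul_one] at h8
    rw [← comm_iff]
    rcases f.tw2 c hcT with h9 | h9
    · exact h9
    · exfalso
      rw [h9] at h8
      rcases f.tw1 c hcT with h10 | h10 <;> rw [h10] at h8
      · rw [one_mul] at h8
        rcases h8 with h8 | h8
        · exact hy1 h8
        · exact hne h8.symm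
      · rcases h8 with h8 | h8
        · apply hne
          calc x = x * (y * y) := by rw [hyy, mul_one]
            _ = y := by rw [← mul_assoc, h8, one_mul]
        · exact hy1 (mul_eq_left.1 h8)
  -- so does `O²(R)`
  set M := closure {g | ∃ r ∈ R, g = r * w₂ * r⁻¹} with hM
  have hMm : ∀ r ∈ R, r * w₂ * r⁻¹ ∈ M := fun r hr => subset_closure ⟨r, hr, rfl⟩
  have hMU : M ≤ UR R V := by
    rw [hM, closure_le]
    rintro _ ⟨r, hr, rfl⟩
    exact subset_closure ⟨r, hr, w₂, f.w2, rfl⟩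
  have hMO : ∀ m ∈ M, ∀ k ∈ o2 R, k * m = m * k := by
    intro m hm k hk
    have h7 : M ≤ centralizer ({k} : Set G) := by
      rw [hM, closure_le]
      rintro _ ⟨r, hr, rfl⟩
      refine mem_centralizer_singleton_iff.2 ?_
      have h8 := hw2 _ (f.O_norm hr hk)
      calc r * w₂ * r⁻¹ * k = r * (w₂ * (r⁻¹ * k * r⁻¹⁻¹)) * r⁻¹ := by group
        _ = r * ((r⁻¹ * k * r⁻¹⁻¹) * w₂) * r⁻¹ := by rw [h8]
        _ = k * (r * w₂ * r⁻¹) := by group
    exact (mem_centralizer_singleton_iff.1 (h7 hm)).symm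
  have hMR : ∀ r ∈ R, ∀ m ∈ M, r * m * r⁻¹ ∈ M := by
    intro r hr m hm
    have h7 : M ≤ M.comap (MulAut.conj r).toMonoidHom := by
      rw [hM, closure_le, ← hM]
      rintro _ ⟨s, hs, rfl⟩
      change r * (s * w₂ * s⁻¹) * r⁻¹ ∈ M
      have e1 : r * (s * w₂ * s⁻¹) * r⁻¹ = (r * s) * w₂ * (r * s)⁻¹ := by group
      rw [e1]
      exact hMm _ (R.mul_mem hr hs)
    exact h7 hm
  obtain ⟨r, hr, hrw⟩ := f.mv2
  apply hrw
  refine f.one M hMU hMO hMR r hr w₂ ?_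
  have := hMm 1 R.one_mem
  rwa [one_mul, inv_one, mul_one] at this

end Dat

end Cfsg.Agent.Omega.NO3S.TwoJ

end

-- merged: Cfsg.Agent.Mrg.Omega.NO3S.LightFive.TwoA
section

section


/-!
# LightL (E), `n = 5`: TWO PAIRS at every stage (helper411 #25060 (A), helper586 #20800), the letter-free core

`V` of order 16 with the basis `x = 12`, `y = 34`, `w₁ = z₁`, `w₂ = z₃`; `Z = ⟨x, y⟩`; `R` a `T`-minimal subgroup of
`C_G(Z)`, minimal with `R ≰ Ls`; `U ≥ V` elementary abelian and `R`-invariant; `A` elementary abelian, best on the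
subgroups of `U`, `A = A₀⟨a⟩`, `A₀ = C_A(V) ≤ T`, `A₀ V` is best, too, `a` acts on `V` as `(1 3)`.
Input `one` : every `R`-invariant `M ≤ U` centralised by `O₂(R)` is centralised by `O²(R)`.

* `Pr` : the situation; **`Pr.false_of : Pr → False`**.
-/

set_option autoImplicit false
set_option linter.unusedSectionVars false

namespace Cfsg.Agent.Omega.NO3S.LightFive.TwoA

open Subgroup Cfsg Cfsg.Agent.ZN Cfsg.Agent.ZN.ChoiceBase
open Cfsg.Agent.ZN.ChoiceSit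
open Cfsg.Agent.Omega.SQ1.Bau (mem_sup_comm card_sup_comm)
open Cfsg.Agent.MinSimple.MinParabolic (IsMinPar)
open Cfsg.Agent.MinSimple.VModule (oddGen oddGen_le mem_oddGen le_normalizer_oddGen)
open Cfsg.Agent.Omega.NO3S.SN.TwoP (Mod D_le_Mod mem_Mod Mod_le Mod_conj conj_mem_Mod comm_iff comm_prod count2
  split2 qf qf_mul qf_eq_zero noOver oddGen_sup norm_of)

universe u

variable {G : Type u} [Group G]

theorem two_card_le [Finite G] {Y Z : Subgroup G} (h : Z ≤ Y) {v : G} (hv : v ∈ Y) (hvZ : v ∉ Z) :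
    2 * Nat.card Z ≤ Nat.card Y := by
  obtain ⟨k, hk⟩ := Subgroup.card_dvd_of_le h
  have h0 : 0 < Nat.card Y := Nat.card_pos
  rw [hk, mul_comm]
  apply Nat.mul_le_mul_left
  by_contra hk2
  have hk1 : k = 1 := by
    rcases Nat.eq_zero_or_pos k with h1 | h1
    · rw [h1, mul_zero] at hk; omega
    · omega
  rw [hk1, mul_one] at hk
  have := Subgroup.eq_of_le_of_card_ge h hk.le
  rw [this] at hvZ
  exact hvZ hv

/-- `⟨x, y⟩` -/
def Zx (x y : G) : Subgroup G := closure {x, y}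

/-- **The situation of TWO PAIRS** (#25060 (A)). -/
structure Pr [Finite G] (Ls T R U V A : Subgroup G) (x y w₁ w₂ a : G) : Prop where
  T2 : IsPGroup 2 T
  syl : Syl T R
  par : IsMinPar T R
  TLs : T ≤ Ls
  nR : ¬ R ≤ Ls
  min : ∀ K : Subgroup G, T ≤ K → K < R → K ≤ Ls
  nrm : ∀ r ∈ R, r ∈ normalizer (T : Set G) → r ∈ Ls
  Uc : ∀ u ∈ U, ∀ v ∈ U, u * v = v * u
  Us : ∀ u ∈ U, u * u = 1
  RU : ∀ r ∈ R, ∀ u ∈ U, r * u * r⁻¹ ∈ U
  VU : V ≤ U
  xV : x ∈ V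
  yV : y ∈ V
  w₁V : w₁ ∈ V
  w₂V : w₂ ∈ V
  gen : V ≤ closure {x, y, w₁, w₂}
  x1 : x ≠ 1
  y1 : y ≠ 1
  xy : x ≠ y
  w₁Z : w₁ ∉ Zx x y
  w₂Z : w₂ ∉ Zx x y
  wZ : w₁ * w₂ ∉ Zx x y
  Rx : ∀ r ∈ R, r * x = x * r
  Ry : ∀ r ∈ R, r * y = y * r
  Tw₁ : ∀ t ∈ T, t * w₁ * t⁻¹ * w₁⁻¹ = 1 ∨ t * w₁ * t⁻¹ * w₁⁻¹ = x
  Tw₂ : ∀ t ∈ T, t * w₂ * t⁻¹ * w₂⁻¹ = 1 ∨ t * w₂ * t⁻¹ * w₂⁻¹ = y
  mx : ∀ v, (v = w₁ ∨ v = w₂) → ∀ g ∈ R, g * v = v * g → g ∈ Ls
  /-- (1') -/
  one : ∀ M : Subgroup G, M ≤ U → (∀ X : Subgroup G, V ≤ X → R ≤ normalizer (X : Set G) → M ≤ X) →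
    R ≤ normalizer (M : Set G) → M ≤ centralizer (o2 R : Set G) → oddGen R ≤ centralizer (M : Set G)
  aA : a ∈ A
  Ac : ∀ b ∈ A, ∀ c ∈ A, b * c = c * b
  As : ∀ b ∈ A, b * b = 1
  A0T : A ⊓ centralizer (V : Set G) ≤ T
  idx : ∀ b ∈ A, b ∈ centralizer (V : Set G) ∨ b * a ∈ centralizer (V : Set G)
  aU : ∀ u ∈ U, a * u * a⁻¹ ∈ U
  aT : ∀ t ∈ T, t ∈ centralizer (V : Set G) → a * t * a⁻¹ ∈ T
  aw₁ : a * w₁ * a⁻¹ = w₂
  aw₂ : a * w₂ * a⁻¹ = w₁
  ax : a * x * a⁻¹ = w₁ * w₂ * x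
  ay : a * y * a⁻¹ = w₁ * w₂ * y
  best : ∀ X : Subgroup G, X ≤ U → V ≤ X →
    Nat.card X * Nat.card ↥(A ⊓ centralizer (X : Set G)) ≤ Nat.card A * Nat.card ↥(X ⊓ centralizer (A : Set G))
  best₀ : ∀ X : Subgroup G, X ≤ U → V ≤ X →
    Nat.card X * Nat.card ↥((A ⊓ centralizer (V : Set G)) ⊓ centralizer (X : Set G)) ≤
      Nat.card ↥(A ⊓ centralizer (V : Set G)) *
        Nat.card ↥(X ⊓ centralizer ((A ⊓ centralizer (V : Set G) : Subgroup G) : Set G))

theorem comm_of_conj' {a b : G} (h : a * b * a⁻¹ = b) : a * b = b * a := mul_inv_eq_iff_eq_mul.1 h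

theorem conj_of_comm {a b : G} (h : a * b = b * a) : a * b * a⁻¹ = b := by rw [h]; group

namespace Pr

variable [Finite G] {Ls T R U V A : Subgroup G} {x y w₁ w₂ a : G} (f : Pr Ls T R U V A x y w₁ w₂ a)
include f

theorem TR : T ≤ R := f.par.le

theorem xU : x ∈ U := f.VU f.xV

theorem yU : y ∈ U := f.VU f.yV

theorem w₁U : w₁ ∈ U := f.VU f.w₁V

theorem w₂U : w₂ ∈ U := f.VU f.w₂V

theorem xx : x * x = 1 := f.Us x f.xU

theorem yy : y * y = 1 := f.Us y f.yU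

theorem xyc : x * y = y * x := f.Uc x f.xU y f.yU

/-- the elements of `Z` -/
theorem mem_Z {z : G} (hz : z ∈ Zx x y) : z = 1 ∨ z = x ∨ z = y ∨ z = x * y := by
  have h1 : Zx x y ≤
      { carrier := {z | z = 1 ∨ z = x ∨ z = y ∨ z = x * y}
        one_mem' := Or.inl rfl
        mul_mem' := by
          have hx := f.xx
          have hy := f.yy
          have hc := f.xyc
          have m1 : x * (x * y) = y := by rw [← mul_assoc, hx, one_mul]
          have m3 : y * (x * y) = x := by rw [hc, ← mul_assoc, hy, one_mul]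
          have m4 : x * y * x = y := by rw [hc, mul_assoc, hx, mul_one]
          have m5 : x * y * y = x := by rw [mul_assoc, hy, mul_one]
          have m6 : x * y * (x * y) = 1 := by rw [mul_assoc, m3, hx]
          rintro g h (rfl | rfl | rfl | rfl) (rfl | rfl | rfl | rfl)
          · left; rw [mul_one]
          · right; left; rw [one_mul]
          · right; right; left; rw [one_mul]
          · right; right; right; rw [one_mul]
          · right; left; rw [mul_one]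
          · left; exact hx
          · right; right; right; rfl
          · right; right; left; exact m1
          · right; right; left; rw [mul_one]
          · right; right; right; exact hc.symm
          · left; exact hy
          · right; left; exact m3
          · right; right; right; rw [mul_one]
          · right; right; left; exact m4
          · right; left; exact m5
          · left; exact m6
        inv_mem' := by
          have hx : x⁻¹ = x := inv_eq_of_mul_eq_one_left f.xx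
          have hy : y⁻¹ = y := inv_eq_of_mul_eq_one_left f.yy
          rintro g (rfl | rfl | rfl | rfl)
          · left; exact inv_one
          · right; left; exact hx
          · right; right; left; exact hy
          · right; right; right; rw [mul_inv_rev, hx, hy, f.xyc] : Subgroup G } := by
    rw [Zx, closure_le]
    rintro z (rfl | rfl)
    · exact Or.inr (Or.inl rfl)
    · exact Or.inr (Or.inr (Or.inl rfl))
  exact h1 hz

omit f in
theorem x_mem_Z : x ∈ Zx x y := subset_closure (Or.inl rfl)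

omit f in
theorem y_mem_Z : y ∈ Zx x y := subset_closure (Or.inr rfl)

theorem ZV : Zx x y ≤ V := by
  rw [Zx, closure_le]
  rintro z (rfl | rfl)
  · exact f.xV
  · exact f.yV

theorem ZU : Zx x y ≤ U := f.ZV.trans f.VU

theorem RZ : R ≤ centralizer (Zx x y : Set G) := by
  intro r hr
  rw [mem_centralizer_iff]
  intro z hz
  have hx := f.Rx r hr
  have hy := f.Ry r hr
  rcases f.mem_Z hz with rfl | rfl | rfl | rfl
  · rw [one_mul, mul_one]
  · exact hx.symm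
  · exact hy.symm
  · rw [mul_assoc, ← hy, ← mul_assoc, ← hx, mul_assoc]

theorem conj_Z {r z : G} (hr : r ∈ R) (hz : z ∈ Zx x y) : r * z * r⁻¹ = z := by
  rw [← mem_centralizer_iff.1 (f.RZ hr) z hz, mul_inv_cancel_right]

theorem OT : o2 R ≤ T := ChoiceSit.o2_le_syl f.syl

theorem OR : o2 R ≤ R := f.OT.trans f.TR

theorem conj_O {r b : G} (hr : r ∈ R) (hb : b ∈ o2 R) : r * b * r⁻¹ ∈ o2 R :=
  (mem_normalizer_iff.1 (MinSimple.VModule.le_normalizer_o2 R hr) b).1 hb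

/-- A normal subgroup of `R` which does not supplement `T` is contained in `O₂(R)` up to odd elements. -/
theorem of_ne {N₀ : Subgroup G} (hN₀ : N₀ ≤ R) (hn : R ≤ normalizer (N₀ : Set G)) (hne : N₀ ⊔ T ≠ R) :
    T ⊓ N₀ ≤ o2 R := by
  have hfact : Fact (Nat.Prime 2) := ⟨Nat.prime_two⟩
  exact (f.par.sup_eq_or_inf_le f.T2 (syl_not_dvd f.syl) hN₀ hn).resolve_left hne

theorem Mod_norm {w r e : G} (hr : r ∈ R) (he : e ∈ Mod (Zx x y) R w) : r * e * r⁻¹ ∈ Mod (Zx x y) R w :=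
  Mod_conj (fun _ hr _ hd => by rw [f.conj_Z hr hd]; exact hd) hr he

theorem Mod_U {w : G} (hw : w ∈ U) : Mod (Zx x y) R w ≤ U :=
  Mod_le f.ZU fun r hr => f.RU r hr w hw

/-- `Z ⟨w ^ R⟩ ≤ ⟨V ^ R⟩` -/
theorem Mod_gen {w : G} (hw : w ∈ V) {X : Subgroup G} (hX : V ≤ X) (hR : R ≤ normalizer (X : Set G)) :
    Mod (Zx x y) R w ≤ X := by
  refine Mod_le ?_ fun r hr => (mem_normalizer_iff.1 (hR hr) w).1 (hX hw)
  rw [Zx, closure_le]
  rintro _ (rfl | rfl)
  · exact hX f.xV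
  · exact hX f.yV

/-- `O²(R)` moves `w₁` and `w₂`. -/
theorem mem_of_odd {v : G} (hv : v = w₁ ∨ v = w₂) (hc : ∀ g ∈ oddGen R, g * v = v * g) : v ∈ Zx x y := by
  exfalso
  have h1 : oddGen R ≤ Ls := fun g hg => f.mx v hv g (oddGen_le R hg) (hc g hg)
  have h2 : oddGen R ⊔ T = R := oddGen_sup f.syl
  exact f.nR (by rw [← h2]; exact sup_le h1 f.TLs)

/-- **(2)** `O₂(R)` moves `w₁` and `w₂`. -/
theorem mem_of_O {v : G} (hv' : v = w₁ ∨ v = w₂) (hv : v ∈ V) (hvO : ∀ b ∈ o2 R, b * v = v * b) : v ∈ Zx x y := by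
  have hM : R ≤ normalizer (Mod (Zx x y) R v : Set G) := norm_of fun r hr e he => f.Mod_norm hr he
  have h1 : Mod (Zx x y) R v ≤ centralizer (o2 R : Set G) := by
    refine Mod_le (fun d hd => mem_centralizer_iff.2 fun b hb => ?_) fun r hr => mem_centralizer_iff.2 fun b hb => ?_
    · exact comm_of_conj' (f.conj_Z (f.OR hb) hd)
    · have hb' := f.conj_O (inv_mem hr) hb
      have h2 := hvO _ hb'
      calc b * (r * v * r⁻¹) = r * ((r⁻¹ * b * r⁻¹⁻¹) * v) * r⁻¹ := by group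
        _ = r * (v * (r⁻¹ * b * r⁻¹⁻¹)) * r⁻¹ := by rw [h2]
        _ = r * v * r⁻¹ * b := by group
  have h2 := f.one _ (f.Mod_U (f.VU hv)) (fun X hX hR => f.Mod_gen hv hX hR) hM h1
  refine f.mem_of_odd hv' fun g hg => ?_
  exact (mem_centralizer_iff.1 (h2 hg) v (mem_Mod _ _ _)).symm

/-- an element of odd order which acts on `w` modulo its centraliser in `U` centralises `w` -/
theorem comm_of_odd {g w i : G} (ho : Odd (orderOf g)) (hi : i * i = 1) (hgi : g * i = i * g)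
    (h : g * w * g⁻¹ = i * w) : g * w = w * g := by
  have key : ∀ n : ℕ, g ^ n * w * (g ^ n)⁻¹ = i ^ n * w := by
    intro n
    induction n with
    | zero => simp
    | succ n ih =>
      have hc : g * i ^ n = i ^ n * g := ((show Commute g i from hgi).pow_right n).eq
      calc g ^ (n + 1) * w * (g ^ (n + 1))⁻¹ = g * (g ^ n * w * (g ^ n)⁻¹) * g⁻¹ := by rw [pow_succ']; group
        _ = g * i ^ n * w * g⁻¹ := by rw [ih]; group
        _ = i ^ n * (g * w * g⁻¹) := by rw [hc]; group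
        _ = i ^ n * i * w := by rw [h]; group
        _ = i ^ (n + 1) * w := by rw [pow_succ]
  have h1 := key (orderOf g)
  rw [pow_orderOf_eq_one] at h1
  obtain ⟨k, hk⟩ := ho
  have h2 : i ^ orderOf g = i := by
    rw [hk, pow_succ, pow_mul, pow_two, hi, one_pow, one_mul]
  rw [h2] at h1
  have h3 : i = 1 := by
    have : w = i * w := by simpa using h1
    exact (right_eq_mul.1 this : i = 1)
  rw [h3, one_mul] at h
  exact comm_of_conj' h

/-- **(3)** -/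
theorem three {w : G} (hw : w = w₁ ∨ w = w₂) (hwZ : w ∉ Zx x y) {I : Subgroup G} (hIU : I ≤ U)
    (hIg : ∀ X : Subgroup G, V ≤ X → R ≤ normalizer (X : Set G) → I ≤ X)
    (hI : ∀ r ∈ R, ∀ e ∈ I, r * e * r⁻¹ ∈ I) (hIO : ∀ e ∈ I, ∀ b ∈ o2 R, b * e = e * b) :
    ∃ r ∈ R, r * w * r⁻¹ * w⁻¹ ∉ I := by
  by_contra hcon
  push Not at hcon
  have h1 := f.one I hIU hIg (norm_of hI) fun e he => mem_centralizer_iff.2 fun b hb => hIO e he b hb
  apply hwZ
  refine f.mem_of_odd hw ?_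
  have h2 : oddGen R ≤ centralizer ({w} : Set G) := by
    rw [MinSimple.VModule.oddGen_def, closure_le]
    rintro g ⟨hg, ho⟩
    have hgO : g ∈ oddGen R := mem_oddGen hg ho
    have hi := hcon g hg
    have hiU := hIU hi
    refine mem_centralizer_singleton_iff.2 ?_
    refine f.comm_of_odd ho (f.Us _ hiU) ?_ (i := g * w * g⁻¹ * w⁻¹) (by group)
    exact (mem_centralizer_iff.1 (h1 hgO) _ hi).symm
  exact fun g hg => mem_centralizer_singleton_iff.1 (h2 hg)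

/-- the kernel of `R` on `M / I` -/
theorem mem_O' {M I : Subgroup G} (hM : ∀ r ∈ R, ∀ e ∈ M, r * e * r⁻¹ ∈ M) (hI : ∀ r ∈ R, ∀ e ∈ I, r * e * r⁻¹ ∈ I)
    {w : G} (hw : w ∈ M) (hwT : ∀ t ∈ T, t * w * t⁻¹ * w⁻¹ ∈ I) (hwR : ∃ r ∈ R, r * w * r⁻¹ * w⁻¹ ∉ I) {b : G}
    (hb : b ∈ T) (hc : ∀ e ∈ M, b * e * b⁻¹ * e⁻¹ ∈ I) : b ∈ o2 R := by
  let N : Subgroup G :=
    { carrier := {r | r ∈ R ∧ ∀ e ∈ M, r * e * r⁻¹ * e⁻¹ ∈ I}
      one_mem' := ⟨one_mem _, fun e _ => by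
        have : (1 : G) * e * 1⁻¹ * e⁻¹ = 1 := by group
        rw [this]; exact one_mem _⟩
      mul_mem' := by
        rintro r s ⟨hr, h2⟩ ⟨hs, h3⟩
        refine ⟨mul_mem hr hs, fun e he => ?_⟩
        have h4 : (r * s) * e * (r * s)⁻¹ * e⁻¹ = r * (s * e * s⁻¹ * e⁻¹) * r⁻¹ * (r * e * r⁻¹ * e⁻¹) := by group
        rw [h4]
        exact mul_mem (hI r hr _ (h3 e he)) (h2 e he)
      inv_mem' := by
        rintro r ⟨hr, h2⟩
        refine ⟨inv_mem hr, fun e he => ?_⟩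
        have h3 : r⁻¹ * e * r⁻¹⁻¹ ∈ M := hM _ (inv_mem hr) e he
        have h4 := h2 _ h3
        have h5 : r * (r⁻¹ * e * r⁻¹⁻¹) * r⁻¹ * (r⁻¹ * e * r⁻¹⁻¹)⁻¹ = (r⁻¹ * e * r⁻¹⁻¹ * e⁻¹)⁻¹ := by group
        rw [h5] at h4
        have := inv_mem h4
        rwa [inv_inv] at this }
  have hNR : N ≤ R := fun r hr => hr.1
  have hNn : R ≤ normalizer (N : Set G) := by
    refine norm_of fun r hr s hs => ?_
    refine ⟨R.mul_mem (R.mul_mem hr hs.1) (R.inv_mem hr), fun e he => ?_⟩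
    have h3 : r⁻¹ * e * r⁻¹⁻¹ ∈ M := hM _ (inv_mem hr) e he
    have h4 := hs.2 _ h3
    have h5 : r * s * r⁻¹ * e * (r * s * r⁻¹)⁻¹ * e⁻¹ =
        r * (s * (r⁻¹ * e * r⁻¹⁻¹) * s⁻¹ * (r⁻¹ * e * r⁻¹⁻¹)⁻¹) * r⁻¹ := by group
    rw [h5]
    exact hI r hr _ h4
  refine (f.of_ne hNR hNn fun h0 => ?_) ⟨hb, f.TR hb, hc⟩
  obtain ⟨r, hr, hrw⟩ := hwR
  apply hrw
  have hTN : T ≤ normalizer (N : Set G) := f.TR.trans hNn
  rw [← h0, sup_comm] at hr
  obtain ⟨t, ht, n, hn, rfl⟩ : ∃ t ∈ T, ∃ n ∈ N, r = t * n := SQ1.Bau.mem_sup_norm hTN hr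
  have e1 : (t * n) * w * (t * n)⁻¹ * w⁻¹ = t * (n * w * n⁻¹ * w⁻¹) * t⁻¹ * (t * w * t⁻¹ * w⁻¹) := by group
  rw [e1]
  exact mul_mem (hI t (f.TR ht) _ (hn.2 w hw)) (hwT t ht)

theorem cprod {b e e' : G} (hb : b ∈ R) (he : e ∈ U) (he' : e' ∈ U) :
    b * (e * e') * b⁻¹ * (e * e')⁻¹ = (b * e * b⁻¹ * e⁻¹) * (b * e' * b⁻¹ * e'⁻¹) :=
  comm_prod (f.Uc _ he _ (mul_mem (f.RU b hb e' he') (inv_mem he')))

/-- the commutators with `O₂(R)` -/
theorem comm_Mod {w z : G} (hw : w ∈ U) (hz : z ∈ Zx x y)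
    (hc : ∀ t ∈ T, t * w * t⁻¹ * w⁻¹ = 1 ∨ t * w * t⁻¹ * w⁻¹ = z)
    {b e : G} (hb : b ∈ o2 R) (he : e ∈ Mod (Zx x y) R w) : b * e * b⁻¹ * e⁻¹ = 1 ∨ b * e * b⁻¹ * e⁻¹ = z := by
  have hzz : z * z = 1 := f.Us _ (f.ZU hz)
  have hOR : o2 R ≤ R := f.OR
  let K : Subgroup G :=
    { carrier := {e | e ∈ U ∧ ∀ b ∈ o2 R, b * e * b⁻¹ * e⁻¹ = 1 ∨ b * e * b⁻¹ * e⁻¹ = z}
      one_mem' := ⟨one_mem _, fun b _ => Or.inl (by group)⟩
      mul_mem' := by
        rintro e e' ⟨he, h2⟩ ⟨he', h3⟩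
        refine ⟨mul_mem he he', fun b hb => ?_⟩
        rw [f.cprod (hOR hb) he he']
        rcases h2 b hb with h6 | h6 <;> rcases h3 b hb with h7 | h7 <;> rw [h6, h7]
        · left; rw [one_mul]
        · right; rw [one_mul]
        · right; rw [mul_one]
        · left; exact hzz
      inv_mem' := by
        rintro e ⟨he, h2⟩
        refine ⟨inv_mem he, fun b hb => ?_⟩
        have hei : e⁻¹ = e := inv_eq_of_mul_eq_one_left (f.Us e he)
        rw [hei]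
        exact h2 b hb }
  have h1 : Mod (Zx x y) R w ≤ K := by
    refine Mod_le (fun d hd => ⟨f.ZU hd, fun b hb => Or.inl ?_⟩) fun r hr => ?_
    · rw [f.conj_Z (hOR hb) hd, mul_inv_cancel]
    · refine ⟨f.RU r hr w hw, fun b hb => ?_⟩
      have hb' : r⁻¹ * b * r⁻¹⁻¹ ∈ o2 R := f.conj_O (inv_mem hr) hb
      have e1 : b * (r * w * r⁻¹) * b⁻¹ * (r * w * r⁻¹)⁻¹ =
          r * ((r⁻¹ * b * r⁻¹⁻¹) * w * (r⁻¹ * b * r⁻¹⁻¹)⁻¹ * w⁻¹) * r⁻¹ := by group
      rw [e1]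
      rcases hc _ (f.OT hb') with h2 | h2
      · left; rw [h2]; group
      · right; rw [h2, f.conj_Z hr hz]
  exact (h1 he).2 b hb

/-- `[V, T] ≤ Z` -/
theorem TV {t v : G} (ht : t ∈ T) (hv : v ∈ V) : t * v * t⁻¹ * v⁻¹ ∈ Zx x y := by
  have htR := f.TR ht
  let K : Subgroup G :=
    { carrier := {e | e ∈ U ∧ t * e * t⁻¹ * e⁻¹ ∈ Zx x y}
      one_mem' := ⟨one_mem _, by
        have : t * 1 * t⁻¹ * (1 : G)⁻¹ = 1 := by group
        rw [this]; exact one_mem _⟩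
      mul_mem' := by
        rintro e e' ⟨he, h2⟩ ⟨he', h3⟩
        refine ⟨mul_mem he he', ?_⟩
        rw [f.cprod htR he he']
        exact mul_mem h2 h3
      inv_mem' := by
        rintro e ⟨he, h2⟩
        have hei : e⁻¹ = e := inv_eq_of_mul_eq_one_left (f.Us e he)
        rw [hei]
        exact ⟨he, h2⟩ }
  have h1 : closure {x, y, w₁, w₂} ≤ K := by
    rw [closure_le]
    rintro z (rfl | rfl | rfl | rfl)
    · refine ⟨f.xU, ?_⟩
      rw [f.conj_Z htR x_mem_Z, mul_inv_cancel]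
      exact one_mem _
    · refine ⟨f.yU, ?_⟩
      rw [f.conj_Z htR y_mem_Z, mul_inv_cancel]
      exact one_mem _
    · refine ⟨f.w₁U, ?_⟩
      rcases f.Tw₁ t ht with h | h <;> rw [h]
      · exact one_mem _
      · exact x_mem_Z
    · refine ⟨f.w₂U, ?_⟩
      rcases f.Tw₂ t ht with h | h <;> rw [h]
      · exact one_mem _
      · exact y_mem_Z
  exact (h1 (f.gen hv)).2

/-- `C_{O₂(R)}(V)` does not centralise `E₁`. -/
theorem mv {w z : G} (hw' : w = w₁ ∨ w = w₂) (hw : w ∈ V) (hwZ : w ∉ Zx x y) (hz : z ∈ Zx x y)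
    (hTw : ∀ t ∈ T, t * w * t⁻¹ * w⁻¹ = 1 ∨ t * w * t⁻¹ * w⁻¹ = z) :
    ∃ e ∈ Mod (Zx x y) R w, ∃ q ∈ centralizer (V : Set G) ⊓ o2 R, q * e ≠ e * q := by
  by_contra hcon
  push Not at hcon
  set M := Mod (Zx x y) R w with hM
  have hRM : ∀ r ∈ R, ∀ e ∈ M, r * e * r⁻¹ ∈ M := fun r hr e he => f.Mod_norm hr he
  have hMU : M ≤ U := f.Mod_U (f.VU hw)
  have hI : ∀ r ∈ R, ∀ e ∈ M ⊓ centralizer (o2 R : Set G), r * e * r⁻¹ ∈ M ⊓ centralizer (o2 R : Set G) := by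
    rintro r hr e ⟨he, hec⟩
    refine ⟨hRM r hr e he, mem_centralizer_iff.2 fun b hb => ?_⟩
    have h2 := mem_centralizer_iff.1 hec _ (f.conj_O (inv_mem hr) hb)
    calc b * (r * e * r⁻¹) = r * ((r⁻¹ * b * r⁻¹⁻¹) * e) * r⁻¹ := by group
      _ = r * (e * (r⁻¹ * b * r⁻¹⁻¹)) * r⁻¹ := by rw [h2]
      _ = r * e * r⁻¹ * b := by group
  have h3 := f.three hw' hwZ (I := M ⊓ centralizer (o2 R : Set G)) (inf_le_left.trans hMU)
    (fun X hX hR => inf_le_left.trans (f.Mod_gen hw hX hR)) hI fun e he b hb => mem_centralizer_iff.1 he.2 b hb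
  have hcE := fun (b : G) (hb : b ∈ o2 R) (e : G) (he : e ∈ M) => f.comm_Mod (f.VU hw) hz hTw hb he
  -- `T` acts trivially on `M / C_M(O)`
  have hT : ∀ t ∈ T, ∀ e ∈ M, t * e * t⁻¹ * e⁻¹ ∈ M ⊓ centralizer (o2 R : Set G) := by
    intro t ht e he
    have htR := f.TR ht
    have het := hRM t htR e he
    refine ⟨M.mul_mem het (M.inv_mem he), mem_centralizer_iff.2 fun b hb => ?_⟩
    set b' := t⁻¹ * b * t⁻¹⁻¹ with hb'
    have hb'O : b' ∈ o2 R := f.conj_O (inv_mem htR) hb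
    have hbT := f.OT hb
    have hcO : b⁻¹ * b' ∈ o2 R := mul_mem (inv_mem hb) hb'O
    have hcV : ∀ v ∈ V, (b⁻¹ * b') * v * (b⁻¹ * b')⁻¹ = v := by
      intro v hv
      have g1 := f.TV ht hv
      have g2 : ∀ s ∈ T, ∀ d ∈ Zx x y, s * d * s⁻¹ = d := fun s hs d hd => f.conj_Z (f.TR hs) hd
      have g3 := f.TV hbT hv
      have g4 : t * v * t⁻¹ = (t * v * t⁻¹ * v⁻¹) * v := by group
      have g5 : b * v * b⁻¹ = (b * v * b⁻¹ * v⁻¹) * v := by group
      have g6 : b' * v * b'⁻¹ = b * v * b⁻¹ := by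
        have e1 : b' * v * b'⁻¹ = t⁻¹ * (b * (t * v * t⁻¹) * b⁻¹) * t := by rw [hb']; group
        have e2 : b * (t * v * t⁻¹) * b⁻¹ = (t * v * t⁻¹ * v⁻¹) * (b * v * b⁻¹) := by
          calc b * (t * v * t⁻¹) * b⁻¹ = (b * (t * v * t⁻¹ * v⁻¹) * b⁻¹) * (b * v * b⁻¹) := by group
            _ = _ := by rw [g2 b hbT _ g1]
        have e3 : t⁻¹ * ((t * v * t⁻¹ * v⁻¹) * (b * v * b⁻¹)) * t =
            (t⁻¹ * (t * v * t⁻¹ * v⁻¹) * t⁻¹⁻¹) * (t⁻¹ * (b * v * b⁻¹ * v⁻¹) * t⁻¹⁻¹) * (t⁻¹ * v * t) := by group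
        rw [e1, e2, e3, g2 _ (inv_mem ht) _ g1, g2 _ (inv_mem ht) _ g3]
        have e4 : t⁻¹ * v * t = t⁻¹ * (t * v * t⁻¹ * v⁻¹)⁻¹ * t⁻¹⁻¹ * v := by group
        rw [e4, g2 _ (inv_mem ht) _ (inv_mem g1)]
        have e5 : (t * v * t⁻¹ * v⁻¹) * (b * v * b⁻¹ * v⁻¹) = (b * v * b⁻¹ * v⁻¹) * (t * v * t⁻¹ * v⁻¹) :=
          f.Uc _ (f.ZU g1) _ (f.ZU g3)
        rw [e5]
        group
      calc (b⁻¹ * b') * v * (b⁻¹ * b')⁻¹ = b⁻¹ * (b' * v * b'⁻¹) * b := by group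
        _ = b⁻¹ * (b * v * b⁻¹) * b := by rw [g6]
        _ = v := by group
    have hcc : ∀ e ∈ M, (b⁻¹ * b') * e * (b⁻¹ * b')⁻¹ = e := fun e he => by
      rw [hcon e he _ ⟨mem_centralizer_iff.2 fun v hv => (comm_of_conj' (hcV v hv)).symm, hcO⟩,
        mul_inv_cancel_right]
    have h4 : b' * e * b'⁻¹ = b * e * b⁻¹ := by
      calc b' * e * b'⁻¹ = b * ((b⁻¹ * b') * e * (b⁻¹ * b')⁻¹) * b⁻¹ := by group
        _ = b * e * b⁻¹ := by rw [hcc e he]
    have h5 : b * e * b⁻¹ * e⁻¹ ∈ Zx x y := by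
      rcases hcE b hb e he with h6 | h6 <;> rw [h6]
      · exact one_mem _
      · exact hz
    have h6 : b * (t * e * t⁻¹) * b⁻¹ = (b * e * b⁻¹ * e⁻¹) * (t * e * t⁻¹) := by
      calc b * (t * e * t⁻¹) * b⁻¹ = t * (b' * e * b'⁻¹) * t⁻¹ := by rw [hb']; group
        _ = t * (b * e * b⁻¹ * e⁻¹) * t⁻¹ * (t * e * t⁻¹) := by rw [h4]; group
        _ = _ := by rw [f.conj_Z htR h5]
    refine comm_of_conj' ?_
    have h7 : b * (t * e * t⁻¹ * e⁻¹) * b⁻¹ = b * (t * e * t⁻¹) * b⁻¹ * (b * e * b⁻¹)⁻¹ := by group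
    rw [h7, h6]
    have h8 : (b * e * b⁻¹ * e⁻¹) * (t * e * t⁻¹) = (t * e * t⁻¹) * (b * e * b⁻¹ * e⁻¹) :=
      f.Uc _ (f.ZU h5) _ (hMU het)
    rw [h8]
    have h9 : (b * e * b⁻¹ * e⁻¹) * (b * e * b⁻¹)⁻¹ = e⁻¹ := by
      have h10 : (b * e * b⁻¹) * e⁻¹ = e⁻¹ * (b * e * b⁻¹) :=
        f.Uc _ (hMU (hRM b (f.OR hb) e he)) _ (inv_mem (hMU he))
      rw [h10]; group
    rw [mul_assoc, h9]
  -- so `T ≤ O`
  have hTO : T ≤ o2 R := fun t ht => f.mem_O' hRM hI (mem_Mod _ _ _) (fun t ht => hT t ht _ (mem_Mod _ _ _)) h3 ht (hT t ht)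
  have hTe : o2 R = T := le_antisymm f.OT hTO
  exact f.nR fun r hr => f.nrm r hr (by rw [← hTe]; exact MinSimple.VModule.le_normalizer_o2 R hr)




/-- the fixed points of `A₀` on `M / I` -/
theorem exists_fixed {A₀ M I : Subgroup G} (hA : A₀ ≤ R) (hMU : M ≤ U) :
    ∃ F₁ : Subgroup G, ∀ e, e ∈ F₁ ↔ e ∈ M ∧ ∀ b ∈ A₀, b * e * b⁻¹ * e⁻¹ ∈ I := by
  refine ⟨{ carrier := {e | e ∈ M ∧ ∀ b ∈ A₀, b * e * b⁻¹ * e⁻¹ ∈ I}
            one_mem' := ⟨one_mem _, fun b _ => by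
              have : b * 1 * b⁻¹ * (1 : G)⁻¹ = 1 := by group
              rw [this]; exact one_mem _⟩
            mul_mem' := ?_
            inv_mem' := ?_ }, fun e => Iff.rfl⟩
  · rintro e e' ⟨he, h1⟩ ⟨he', h2⟩
    refine ⟨mul_mem he he', fun b hb => ?_⟩
    rw [f.cprod (hA hb) (hMU he) (hMU he')]
    exact mul_mem (h1 b hb) (h2 b hb)
  · rintro e ⟨he, h1⟩
    have hei : e⁻¹ = e := inv_eq_of_mul_eq_one_left (f.Us e (hMU he))
    rw [hei]
    exact ⟨he, h1⟩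

theorem a_inv : a⁻¹ = a := inv_eq_of_mul_eq_one_left (f.As a f.aA)

/-- `a` normalises `V` -/
theorem a_V {v : G} (hv : v ∈ V) : a * v * a⁻¹ ∈ V := by
  have h1 : V ≤ V.comap (MulAut.conj a).toMonoidHom := by
    refine f.gen.trans ?_
    rw [closure_le]
    rintro z (rfl | rfl | rfl | rfl)
    · change a * z * a⁻¹ ∈ V
      rw [f.ax]
      exact mul_mem (mul_mem f.w₁V f.w₂V) f.xV
    · change a * z * a⁻¹ ∈ V
      rw [f.ay]
      exact mul_mem (mul_mem f.w₁V f.w₂V) f.yV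
    · change a * z * a⁻¹ ∈ V
      rw [f.aw₁]
      exact f.w₂V
    · change a * z * a⁻¹ ∈ V
      rw [f.aw₂]
      exact f.w₁V
  exact h1 hv

/-- `|A| ≤ 2 |A₀|` -/
theorem card_A : Nat.card A ≤ 2 * Nat.card ↥(A ⊓ centralizer (V : Set G)) := by
  set A0 := A ⊓ centralizer (V : Set G) with hA0
  have h1 : A ≤ A0 ⊔ zpowers a := by
    intro b hb
    rcases f.idx b hb with h | h
    · exact mem_sup_left ⟨hb, h⟩
    · have h2 : b = b * a * a := by rw [mul_assoc, f.As a f.aA, mul_one]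
      rw [h2]
      exact mul_mem (mem_sup_left ⟨mul_mem hb f.aA, h⟩) (mem_sup_right (mem_zpowers a))
  have hc : ∀ b ∈ A0, ∀ c ∈ zpowers a, b * c = c * b := by
    intro b hb c hc
    obtain ⟨n, rfl⟩ := mem_zpowers_iff.1 hc
    exact ((show Commute b a from f.Ac b hb.1 a f.aA).zpow_right n).eq
  have h2 := card_sup_comm hc
  have h3 : Nat.card (zpowers a) ≤ 2 := by
    rw [Nat.card_zpowers]
    exact Nat.le_of_dvd (by norm_num) (orderOf_dvd_of_pow_eq_one (by rw [pow_two, f.As a f.aA]))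
  have h4 := Subgroup.card_le_of_le h1
  have h5 : 1 ≤ Nat.card ↥(A0 ⊓ zpowers a) := Nat.card_pos
  calc Nat.card A ≤ Nat.card ↥(A0 ⊔ zpowers a) := h4
    _ ≤ Nat.card ↥(A0 ⊔ zpowers a) * Nat.card ↥(A0 ⊓ zpowers a) := Nat.le_mul_of_pos_right _ h5
    _ = Nat.card A0 * Nat.card (zpowers a) := h2
    _ ≤ Nat.card A0 * 2 := Nat.mul_le_mul_left _ h3
    _ = 2 * Nat.card A0 := mul_comm _ _

/-- `X = V C_X(A)` if `A₀` centralises `X`. -/
theorem act {X : Subgroup G} (hXU : X ≤ U) (hVX : V ≤ X)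
    (hc : ∀ b ∈ A ⊓ centralizer (V : Set G), ∀ e ∈ X, b * e = e * b) {e : G} (he : e ∈ X) :
    ∃ v ∈ V, a * e * a⁻¹ = e * v := by
  set A0 := A ⊓ centralizer (V : Set G) with hA0
  set C := X ⊓ centralizer (A : Set G) with hC
  have h1 := f.best X hXU hVX
  have h2 : A0 ≤ A ⊓ centralizer (X : Set G) := fun b hb =>
    ⟨hb.1, mem_centralizer_iff.2 fun e he => (hc b hb e he).symm⟩
  have hA0p : 0 < Nat.card A0 := Nat.card_pos
  have h3 : Nat.card X ≤ 2 * Nat.card C := by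
    have h4 : Nat.card A0 * Nat.card X ≤ Nat.card A0 * (2 * Nat.card C) := by
      calc Nat.card A0 * Nat.card X ≤ Nat.card ↥(A ⊓ centralizer (X : Set G)) * Nat.card X :=
            Nat.mul_le_mul_right _ (Subgroup.card_le_of_le h2)
        _ = Nat.card X * Nat.card ↥(A ⊓ centralizer (X : Set G)) := mul_comm _ _
        _ ≤ Nat.card A * Nat.card C := h1
        _ ≤ 2 * Nat.card A0 * Nat.card C := Nat.mul_le_mul_right _ f.card_A
        _ = Nat.card A0 * (2 * Nat.card C) := by ring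
    exact Nat.le_of_mul_le_mul_left h4 hA0p
  have hcm : ∀ v ∈ V, ∀ c ∈ C, v * c = c * v := fun v hv c hc' => f.Uc v (f.VU hv) c (hXU hc'.1)
  have h6 : ¬ V ⊔ C ≤ C := fun hle => by
    have h7 := mem_centralizer_iff.1 (hle (mem_sup_left f.w₁V)).2 a f.aA
    have h8 := f.aw₁
    rw [conj_of_comm h7] at h8
    apply f.wZ
    rw [← h8, f.Us _ f.w₁U]
    exact one_mem _
  obtain ⟨g, hg, hgC⟩ := SetLike.not_le_iff_exists.1 h6
  have h7 := two_card_le (Z := C) (Y := V ⊔ C) le_sup_right hg hgC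
  have h8 : V ⊔ C = X := Subgroup.eq_of_le_of_card_ge (sup_le hVX inf_le_left) (h3.trans h7)
  rw [← h8] at he
  obtain ⟨v, hv, c, hc', rfl⟩ := mem_sup_comm hcm he
  have hca : a * c * a⁻¹ = c := by
    rw [mem_centralizer_iff.1 hc'.2 a f.aA, mul_inv_cancel_right]
  refine ⟨v⁻¹ * (a * v * a⁻¹), mul_mem (inv_mem hv) (f.a_V hv), ?_⟩
  have e1 : a * (v * c) * a⁻¹ = a * v * a⁻¹ * (a * c * a⁻¹) := by group
  rw [e1, hca]
  have e2 : v * c * (v⁻¹ * (a * v * a⁻¹)) = c * (a * v * a⁻¹) := by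
    rw [hcm v hv c hc']; group
  rw [e2]
  exact f.Uc _ (f.VU (f.a_V hv)) _ (hXU hc'.1)

/-- **TWO PAIRS, (A) of #25060.** -/
theorem false_of : False := by
  classical
  set A0 := A ⊓ centralizer (V : Set G) with hA0
  have hA0T : A0 ≤ T := f.A0T
  have hA0R : A0 ≤ R := hA0T.trans f.TR
  set E₁ := Mod (Zx x y) R w₁ with hE₁
  set E₂ := Mod (Zx x y) R w₂ with hE₂
  have hE1U : E₁ ≤ U := f.Mod_U f.w₁U
  have hE2U : E₂ ≤ U := f.Mod_U f.w₂U
  set I := E₁ ⊓ E₂ with hI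
  have hIR : ∀ r ∈ R, ∀ e ∈ I, r * e * r⁻¹ ∈ I := fun r hr e he => ⟨f.Mod_norm hr he.1, f.Mod_norm hr he.2⟩
  have hDI : Zx x y ≤ I := le_inf (D_le_Mod _ _ _) (D_le_Mod _ _ _)
  have hxx := f.xx
  have hyy := f.yy
  have hxy := f.xyc
  have hx1 := f.x1
  have hy1 := f.y1
  have hne := f.xy
  -- commutators
  have cE1 : ∀ b ∈ o2 R, ∀ e ∈ E₁, b * e * b⁻¹ * e⁻¹ = 1 ∨ b * e * b⁻¹ * e⁻¹ = x := fun b hb e he =>
    f.comm_Mod f.w₁U x_mem_Z f.Tw₁ hb he
  have cE2 : ∀ b ∈ o2 R, ∀ e ∈ E₂, b * e * b⁻¹ * e⁻¹ = 1 ∨ b * e * b⁻¹ * e⁻¹ = y := fun b hb e he =>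
    f.comm_Mod f.w₂U y_mem_Z f.Tw₂ hb he
  have hIO : ∀ e ∈ I, ∀ b ∈ o2 R, b * e = e * b := by
    intro e he b hb
    rw [← comm_iff]
    rcases cE1 b hb e he.1 with h1 | h1
    · exact h1
    · rcases cE2 b hb e he.2 with h2 | h2
      · exact h2
      · exfalso
        rw [h1] at h2
        exact hne h2
  obtain ⟨F₁, hF₁⟩ := f.exists_fixed (I := I) hA0R hE1U
  obtain ⟨F₂, hF₂⟩ := f.exists_fixed (I := I) hA0R hE2U
  -- no over-offender
  have key : ∀ {w z : G} {F₀ : Subgroup G}, (w = w₁ ∨ w = w₂) → w ∈ V → w ∉ Zx x y → z ∈ Zx x y →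
      (∀ t ∈ T, t * w * t⁻¹ * w⁻¹ = 1 ∨ t * w * t⁻¹ * w⁻¹ = z) →
      I ≤ Mod (Zx x y) R w → (∀ e, e ∈ F₀ ↔ e ∈ Mod (Zx x y) R w ∧ ∀ b ∈ A0, b * e * b⁻¹ * e⁻¹ ∈ I) →
      (o2 R).relIndex A0 * Nat.card F₀ ≤ Nat.card (Mod (Zx x y) R w) := by
    intro w z F₀ hw' hw hwZ hz hTw hle hF₀
    have hMU : Mod (Zx x y) R w ≤ U := f.Mod_U (f.VU hw)
    have hT : ∀ t ∈ T, t * w * t⁻¹ * w⁻¹ ∈ I := by
      intro t ht
      apply hDI
      rcases hTw t ht with h1 | h1 <;> rw [h1]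
      · exact one_mem _
      · exact hz
    have hR := f.three hw' hwZ (hle.trans hMU) (fun X hX hR => hle.trans (f.Mod_gen hw hX hR)) hIR hIO
    refine noOver f.syl f.par hle (fun v hv w hw => f.Uc _ (hMU hv) _ (hMU hw)) (fun v hv => f.Us _ (hMU hv))
      hIR (fun r hr e he => f.Mod_norm hr he) (mem_Mod _ _ _) hT hR (fun K hK1 hK2 => Mod_le (hDI.trans hK1) hK2) hA0R
      (fun a ha b hb => f.Ac a ha.1 b hb.1) (fun a ha => f.As a ha.1) (fun a ha hc => ?_) hF₀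
    exact f.mem_O' (fun r hr e he => f.Mod_norm hr he) hIR (mem_Mod _ _ _) hT hR (hA0T ha) hc
  have k1 := key (Or.inl rfl) f.w₁V f.w₁Z x_mem_Z f.Tw₁ inf_le_left hF₁
  have k2 := key (Or.inr rfl) f.w₂V f.w₂Z y_mem_Z f.Tw₂ inf_le_right hF₂
  set B₁ := A0 ⊓ o2 R with hB₁
  obtain ⟨κ, hκd⟩ : ∃ κ, κ = (o2 R).relIndex A0 := ⟨_, rfl⟩
  rw [← hκd] at k1 k2
  have hκ : κ * Nat.card B₁ = Nat.card A0 := by
    rw [hκd, hB₁]
    have h1 : Nat.card ↥(A0 ⊓ o2 R) * (A0 ⊓ o2 R).relIndex A0 = Nat.card A0 := by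
      have := Subgroup.relIndex_mul_relIndex ⊥ (A0 ⊓ o2 R) A0 bot_le inf_le_left
      rwa [relIndex_bot_left, relIndex_bot_left] at this
    rw [← h1, inf_relIndex_left, mul_comm]
  -- `E`
  set E := V ⊔ (E₁ ⊔ E₂) with hE
  have hEU : E ≤ U := sup_le f.VU (sup_le hE1U hE2U)
  have hA0V : ∀ b ∈ A0, ∀ v ∈ V, b * v = v * b := fun b hb v hv => (mem_centralizer_iff.1 hb.2 v hv).symm
  have hmE : ∀ e ∈ E, ∃ v ∈ V, ∃ e₁ ∈ E₁, ∃ e₂ ∈ E₂, e = v * (e₁ * e₂) := by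
    intro e he
    obtain ⟨v, hv, w, hw, rfl⟩ := mem_sup_comm (fun x hx y hy => f.Uc _ (f.VU hx) _ (sup_le hE1U hE2U hy)) he
    obtain ⟨e₁, he₁, e₂, he₂, rfl⟩ := mem_sup_comm (fun x hx y hy => f.Uc _ (hE1U hx) _ (hE2U hy)) hw
    exact ⟨v, hv, e₁, he₁, e₂, he₂, rfl⟩
  have cE : ∀ b ∈ B₁, ∀ e ∈ E, b * e * b⁻¹ * e⁻¹ = 1 ∨ b * e * b⁻¹ * e⁻¹ = x ∨ b * e * b⁻¹ * e⁻¹ = y ∨
      b * e * b⁻¹ * e⁻¹ = x * y := by
    intro b hb e he
    obtain ⟨v, hv, e₁, he₁, e₂, he₂, rfl⟩ := hmE e he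
    have hbR := hA0R hb.1
    rw [f.cprod hbR (f.VU hv) (mul_mem (hE1U he₁) (hE2U he₂)), f.cprod hbR (hE1U he₁) (hE2U he₂),
      comm_iff.2 (hA0V b hb.1 v hv), one_mul]
    rcases cE1 b hb.2 e₁ he₁ with h4 | h4 <;> rcases cE2 b hb.2 e₂ he₂ with h5 | h5 <;> rw [h4, h5]
    · left; rw [one_mul]
    · right; right; left; rw [one_mul]
    · right; left; rw [mul_one]
    · right; right; right; rfl
  have hcZ : ∀ b ∈ B₁, ∀ e ∈ E, b * e * b⁻¹ * e⁻¹ ∈ Zx x y := by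
    intro b hb e he
    rcases cE b hb e he with h4 | h4 | h4 | h4 <;> rw [h4]
    · exact one_mem _
    · exact x_mem_Z
    · exact y_mem_Z
    · exact mul_mem x_mem_Z y_mem_Z
  have nE1 : ∀ b ∈ A0, ∀ e ∈ E₁, b * e * b⁻¹ ∈ E₁ := fun b hb e he => f.Mod_norm (hA0R hb) he
  have nE2 : ∀ b ∈ A0, ∀ e ∈ E₂, b * e * b⁻¹ ∈ E₂ := fun b hb e he => f.Mod_norm (hA0R hb) he
  have hE1E : E₁ ≤ E := le_sup_left.trans le_sup_right
  have hE2E : E₂ ≤ E := le_sup_right.trans le_sup_right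
  have hVE : V ≤ E := le_sup_left
  -- centralisers lie in `O`
  have hcO : ∀ b ∈ A0, (∀ e ∈ E, b * e = e * b) → b ∈ B₁ := by
    intro b hb hbe
    refine ⟨hb, ?_⟩
    have hT : ∀ t ∈ T, t * w₁ * t⁻¹ * w₁⁻¹ ∈ I := by
      intro t ht
      apply hDI
      rcases f.Tw₁ t ht with h1 | h1 <;> rw [h1]
      · exact one_mem _
      · exact x_mem_Z
    refine f.mem_O' (M := E₁) (I := I) (fun r hr e he => f.Mod_norm hr he) hIR (mem_Mod _ _ _) hT
      (f.three (Or.inl rfl) f.w₁Z (inf_le_left.trans hE1U) (fun X hX hR => inf_le_left.trans (f.Mod_gen f.w₁V hX hR))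
        hIR hIO) (hA0T hb) fun e he => ?_
    rw [comm_iff.2 (hbe e (hE1E he))]
    exact one_mem _
  have hEaU : cj a E ≤ U := by
    rintro _ ⟨e, he, rfl⟩
    exact f.aU e (hEU he)
  -- inequalities in `V`
  have hq : w₁ * w₂ * x ≠ 1 := fun h => f.wZ (by
    have : w₁ * w₂ = x⁻¹ := eq_inv_of_mul_eq_one_left h
    rw [this]; exact inv_mem x_mem_Z)
  have hw12 : ∀ {d e : G}, d ∈ Zx x y → e ∈ Zx x y → e ≠ w₁ * w₂ * d := fun {d e} hd he h => f.wZ (by
    have : w₁ * w₂ = e * d⁻¹ := by rw [h]; group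
    rw [this]; exact mul_mem he (inv_mem hd))
  have haxy : a * (x * y) * a⁻¹ = x * y := by
    have e1 : a * (x * y) * a⁻¹ = (a * x * a⁻¹) * (a * y * a⁻¹) := by group
    have c1 : x * (w₁ * w₂ * y) = w₁ * w₂ * y * x := f.Uc _ f.xU _ (mul_mem (mul_mem f.w₁U f.w₂U) f.yU)
    have c2 : y * (w₁ * w₂) = w₁ * w₂ * y := f.Uc _ f.yU _ (mul_mem f.w₁U f.w₂U)
    have c3 : w₁ * w₂ * (w₁ * w₂) = 1 := f.Us _ (mul_mem f.w₁U f.w₂U)
    rw [e1, f.ax, f.ay, mul_assoc (w₁ * w₂) x, c1]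
    calc w₁ * w₂ * (w₁ * w₂ * y * x) = (w₁ * w₂ * (w₁ * w₂)) * (y * x) := by group
      _ = x * y := by rw [c3, one_mul, hxy]
  -- the count
  have hcount := count2 (B := A0) (B₁ := B₁) (E := E) (U := U) (a := a) hEU
    (fun e he => f.aU e (hEU he)) f.Uc
    (fun b hb => f.Ac a f.aA b hb.1) inf_le_left hcO
    (fun e b => qf x y (b * e * b⁻¹ * e⁻¹))
    (by
      intro e he e' he' b hb
      rw [f.cprod (hA0R hb.1) (hEU he) (hEU he')]
      exact qf_mul hxx hyy hxy hx1 hy1 hne (cE b hb e he) (cE b hb e' he'))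
    (by
      intro e he b hb b' hb'
      have e1 : (b * b') * e * (b * b')⁻¹ * e⁻¹ = b * (b' * e * b'⁻¹ * e⁻¹) * b⁻¹ * (b * e * b⁻¹ * e⁻¹) := by group
      rw [e1, f.conj_Z (hA0R hb.1) (hcZ b' hb' e he), add_comm]
      exact qf_mul hxx hyy hxy hx1 hy1 hne (cE b' hb' e he) (cE b hb e he))
    (by
      intro b hb h4
      have h5 : ∀ e ∈ E₁, b * e = e * b := by
        intro e he
        have h6 := qf_eq_zero.1 (h4 e (hE1E he))
        rw [← comm_iff]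
        rcases cE1 b hb.2 e he with h7 | h7
        · exact h7
        · exfalso
          rw [h7] at h6
          rcases h6 with h6 | h6
          · exact hx1 h6
          · exact hy1 (left_eq_mul.1 h6)
      have h6 : ∀ e ∈ E₂, b * e = e * b := by
        intro e he
        have h6 := qf_eq_zero.1 (h4 e (hE2E he))
        rw [← comm_iff]
        rcases cE2 b hb.2 e he with h7 | h7
        · exact h7
        · exfalso
          rw [h7] at h6
          rcases h6 with h6 | h6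
          · exact hy1 h6
          · exact hx1 (right_eq_mul.1 h6)
      intro e he
      obtain ⟨v, hv, e₁, he₁, e₂, he₂, rfl⟩ := hmE e he
      have c1 : Commute b v := hA0V b hb.1 v hv
      have c2 : Commute b e₁ := h5 e₁ he₁
      have c3 : Commute b e₂ := h6 e₂ he₂
      exact (c1.mul_right (c2.mul_right c3)).eq)
    (by
      intro e he e' he' b hb h4
      rw [qf_eq_zero]
      have h5 : b * e * b⁻¹ * e⁻¹ = 1 ∨ b * e * b⁻¹ * e⁻¹ = w₁ * w₂ * x ∨ b * e * b⁻¹ * e⁻¹ = w₁ * w₂ * y ∨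
          b * e * b⁻¹ * e⁻¹ = x * y := by
        rw [h4]
        rcases cE b hb e' he' with h6 | h6 | h6 | h6 <;> rw [h6]
        · left; group
        · right; left; exact f.ax
        · right; right; left; exact f.ay
        · right; right; right; exact haxy
      rcases h5 with h7 | h7 | h7 | h7
      · exact Or.inl h7
      · exact absurd h7 (hw12 x_mem_Z (hcZ b hb e he))
      · exact absurd h7 (hw12 y_mem_Z (hcZ b hb e he))
      · exact Or.inr h7)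
    (f.best₀ _ (sup_le hEU hEaU) (hVE.trans le_sup_left))
  -- the lower bound
  have hlow := split2 (B := A0) (E₁ := E₁) (E₂ := E₂) (V := V) (U := U) (k := κ)
    f.Uc f.VU hE1U hE2U
    (fun v hv => mem_centralizer_iff.2 fun b hb => hA0V b hb v hv) nE1 nE2 hF₁ hF₂ k1 k2
  rw [← hE] at hlow
  have hB1p : 0 < Nat.card B₁ := Nat.card_pos
  have hCp : 0 < Nat.card ↥(E ⊓ centralizer (A0 : Set G)) := Nat.card_pos
  have hA0p : 0 < Nat.card A0 := Nat.card_pos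
  have hκ0 : 0 < κ := by
    rcases Nat.eq_zero_or_pos κ with h4 | h4
    · rw [h4, zero_mul] at hκ
      omega
    · exact h4
  have r1 : Nat.card E ≤ κ * Nat.card ↥(E ⊓ centralizer (A0 : Set G)) := by
    have h4 : Nat.card E * Nat.card B₁ ≤ (κ * Nat.card ↥(E ⊓ centralizer (A0 : Set G))) * Nat.card B₁ := by
      calc Nat.card E * Nat.card B₁ ≤ Nat.card A0 * Nat.card ↥(E ⊓ centralizer (A0 : Set G)) := hcount
        _ = (κ * Nat.card B₁) * Nat.card ↥(E ⊓ centralizer (A0 : Set G)) := by rw [hκ]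
        _ = _ := by ring
    exact Nat.le_of_mul_le_mul_right h4 hB1p
  have hκ1 : κ = 1 := by
    have h4 : κ * κ * Nat.card ↥(E ⊓ centralizer (A0 : Set G)) ≤ κ * Nat.card ↥(E ⊓ centralizer (A0 : Set G)) :=
      hlow.trans r1
    have h5 : κ * κ ≤ κ := Nat.le_of_mul_le_mul_right h4 hCp
    nlinarith
  rw [hκ1, one_mul] at r1 hκ
  have hEc : E ≤ centralizer (A0 : Set G) := by
    have h4 : E ⊓ centralizer (A0 : Set G) = E := Subgroup.eq_of_le_of_card_ge inf_le_left r1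
    rw [← h4]
    exact inf_le_right
  -- the end
  obtain ⟨e, he, q, hq', hqe⟩ := f.mv (Or.inl rfl) f.w₁V f.w₁Z x_mem_Z f.Tw₁
  have hqx : q * e * q⁻¹ * e⁻¹ = x := (cE1 q hq'.2 e he).resolve_left fun h4 => hqe (comm_iff.1 h4)
  obtain ⟨v, hv, hev⟩ := f.act (X := E ⊔ cj a E) (sup_le hEU hEaU) (hVE.trans le_sup_left) (by
    intro b hb e he
    have h5 : E ⊔ cj a E ≤ centralizer ({b} : Set G) := by
      refine sup_le (fun e he => mem_centralizer_singleton_iff.2 (mem_centralizer_iff.1 (hEc he) b hb).symm) ?_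
      rintro _ ⟨e, he, rfl⟩
      refine mem_centralizer_singleton_iff.2 ?_
      change a * e * a⁻¹ * b = b * (a * e * a⁻¹)
      have c1 : Commute b a := f.Ac b hb.1 a f.aA
      have c2 : Commute b e := mem_centralizer_iff.1 (hEc he) b hb
      exact ((c1.mul_right c2).mul_right c1.inv_right).symm.eq
    exact (mem_centralizer_singleton_iff.1 (h5 he)).symm) (mem_sup_left (hE1E he))
  have hqT : q ∈ T := f.OT hq'.2
  have hqV : ∀ v ∈ V, q * v = v * q := fun v hv => (mem_centralizer_iff.1 hq'.1 v hv).symm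
  obtain ⟨q', hqd⟩ : ∃ q', q' = a * q * a⁻¹ := ⟨_, rfl⟩
  have hq'T : q' ∈ T := hqd ▸ f.aT q hqT hq'.1
  have hq'V : ∀ v ∈ V, q' * v * q'⁻¹ = v := by
    intro v hv
    have h5 : a * v * a⁻¹ ∈ V := f.a_V hv
    have h6 := hqV _ h5
    have h7 : a⁻¹ * v * a = a * v * a⁻¹ := by rw [f.a_inv]
    have e1 : q' * v * q'⁻¹ = a * (q * (a⁻¹ * v * a) * q⁻¹) * a⁻¹ := by rw [hqd]; group
    rw [e1, h7, h6]
    have e2 : a * (a * v * a⁻¹ * q * q⁻¹) * a⁻¹ = (a * a) * v * (a * a)⁻¹ := by group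
    rw [e2, f.As a f.aA]
    group
  have h5 : q' * (e * v) * q'⁻¹ * (e * v)⁻¹ = w₁ * w₂ * x := by
    rw [← f.ax, ← hqx, ← hev, hqd]
    group
  have h6 : q' * e * q'⁻¹ * e⁻¹ = w₁ * w₂ * x := by
    rw [← h5]
    calc q' * e * q'⁻¹ * e⁻¹ = q' * e * q'⁻¹ * v * v⁻¹ * e⁻¹ := by group
      _ = q' * e * q'⁻¹ * (q' * v * q'⁻¹) * v⁻¹ * e⁻¹ := by rw [hq'V v hv]
      _ = _ := by group
  have hrE : w₁ * w₂ * x ∈ E₁ := by
    rw [← h6]
    exact mul_mem (f.Mod_norm (f.TR hq'T) he) (inv_mem he)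
  refine f.w₂Z (f.mem_of_O (Or.inr rfl) f.w₂V fun c hc => ?_)
  have hcR := f.OR hc
  rw [← comm_iff]
  rcases f.Tw₂ c (f.OT hc) with h7 | h7
  · exact h7
  · exfalso
    have h8 := cE1 c hc _ hrE
    rw [f.cprod hcR (mul_mem f.w₁U f.w₂U) f.xU, f.cprod hcR f.w₁U f.w₂U, h7, f.conj_Z hcR x_mem_Z,
      mul_inv_cancel, mul_one] at h8
    rcases f.Tw₁ c (f.OT hc) with h9 | h9 <;> rw [h9] at h8
    · rw [one_mul] at h8
      rcases h8 with h8 | h8
      · exact hy1 h8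
      · exact hne h8.symm
    · rcases h8 with h8 | h8
      · apply hne
        calc x = x * (y * y) := by rw [hyy, mul_one]
          _ = y := by rw [← mul_assoc, h8, one_mul]
      · exact hy1 (mul_eq_left.1 h8)

end Pr

end Cfsg.Agent.Omega.NO3S.LightFive.TwoA

end

section


/-!
# LightL, `n = 5`, (A) of #25060: the choice of the offender (helper649's `swap`)

`O` acts on `V = ⟨p 0, ..., p 4⟩` as a subgroup of `⟨(0 2), (1 3)⟩`, `A` is elementary abelian of maximal order in `O ≥ V`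
and moves `V`: there is `A₁` of the same order which acts as `⟨(0 2)⟩` or as `⟨(1 3)⟩`.
-/

set_option autoImplicit false
set_option linter.unusedSectionVars false

namespace Cfsg.Agent.Omega.NO3S.LightFive.TwoA

open Subgroup Cfsg Cfsg.Agent.PLocal.ThompsonJ Cfsg.Agent.PLocal.ElemAbSup
open Cfsg.Agent.Omega.SQ1.Bau (elem_comm elem_sq mem_sup_comm card_sup_comm)

universe u

variable {G : Type u} [Group G] [Finite G]

/-- two cosets -/
theorem card_le_two_mul {H K : Subgroup G} (hHK : H ≤ K) (h : ∀ a ∈ K, ∀ b ∈ K, a ∉ H → b ∉ H → a * b ∈ H) :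
    Nat.card K ≤ 2 * Nat.card H := by
  by_cases hKH : K ≤ H
  · rw [le_antisymm hHK hKH]
    omega
  obtain ⟨a, haK, haH⟩ := SetLike.not_le_iff_exists.1 hKH
  have h1 : (H.subgroupOf K).index = 2 := by
    rw [index_eq_two_iff_exists_notMem_and]
    refine ⟨⟨a, haK⟩, fun h0 => haH (mem_subgroupOf.1 h0), fun b => ?_⟩
    by_cases hb : (b : G) ∈ H
    · right
      exact mem_subgroupOf.2 hb
    · left
      exact mem_subgroupOf.2 (h b b.2 a haK hb haH)
  have h2 := (H.subgroupOf K).card_mul_index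
  rw [h1, Nat.card_congr (subgroupOfEquivOfLe hHK).toEquiv] at h2
  omega

/-- a proper subgroup has at most half of the elements -/
theorem two_mul_card_le {H K : Subgroup G} (hHK : H ≤ K) {v : G} (hv : v ∈ K) (hvH : v ∉ H) :
    2 * Nat.card H ≤ Nat.card K := by
  have h1 : Nat.card H * H.relIndex K = Nat.card K := by
    have h2 := (H.subgroupOf K).card_mul_index
    rwa [Nat.card_congr (subgroupOfEquivOfLe hHK).toEquiv] at h2
  have h2 : H.relIndex K ≠ 1 := fun h0 => hvH (relIndex_eq_one.1 h0 hv)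
  have h3 : H.relIndex K ≠ 0 := by
    intro h0
    have h5 : 0 < Nat.card K := Nat.card_pos
    rw [← h1, h0] at h5
    omega
  have h4 : 2 ≤ H.relIndex K := by omega
  calc 2 * Nat.card H ≤ H.relIndex K * Nat.card H := Nat.mul_le_mul_right _ h4
    _ = Nat.card K := by rw [mul_comm]; exact h1

/-- the replacement `C_A(c) ⟨c⟩` -/
theorem repl {O A : Subgroup G} {a c : G} (hcO : c ∈ O) (hcc : c * c = 1) (hA : IsElementaryAbelian 2 A) (hAO : A ≤ O)
    (hmax : ∀ B : Subgroup G, IsElementaryAbelian 2 B → B ≤ O → Nat.card B ≤ Nat.card A) (ha : a ∈ A)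
    (hac : a * c = c * a)
    (h2 : ∀ b ∈ A, ∀ b' ∈ A, b * c ≠ c * b → b' * c ≠ c * b' → (b * b') * c = c * (b * b')) :
    ∃ A₁ : Subgroup G, a ∈ A₁ ∧ IsElementaryAbelian 2 A₁ ∧ A₁ ≤ O ∧ Nat.card A₁ = Nat.card A ∧
      ∀ b ∈ A₁, ∃ b₀ ∈ A, b₀ * c = c * b₀ ∧ ∃ k ∈ zpowers c, b = b₀ * k := by
  set A₀ := A ⊓ centralizer ({c} : Set G) with hA₀
  have hA₀m : ∀ b, b ∈ A₀ ↔ b ∈ A ∧ b * c = c * b := fun b => by
    rw [hA₀, mem_inf, mem_centralizer_singleton_iff]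
  have hc2 : c ^ 2 = 1 := by rw [pow_two]; exact hcc
  have hel : IsElementaryAbelian 2 (A₀ ⊔ zpowers c) := by
    refine isElementaryAbelian_sup (isElementaryAbelian_mono hA inf_le_left) (isElementaryAbelian_zpowers hc2) ?_
    rw [zpowers_le, mem_centralizer_iff]
    exact fun b hb => ((hA₀m b).1 hb).2
  by_cases hall : ∀ b ∈ A, b * c = c * b
  · exact ⟨A, ha, hA, hAO, rfl, fun b hb => ⟨b, hb, hall b hb, 1, one_mem _, (mul_one b).symm⟩⟩
  push Not at hall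
  obtain ⟨b₁, hb₁, hb₁c⟩ := hall
  refine ⟨A₀ ⊔ zpowers c, mem_sup_left ((hA₀m a).2 ⟨ha, hac⟩), hel, sup_le (inf_le_left.trans hAO) (zpowers_le.2 hcO),
    ?_, ?_⟩
  · apply le_antisymm
    · exact hmax _ hel (sup_le (inf_le_left.trans hAO) (zpowers_le.2 hcO))
    · have hcA : c ∉ A₀ := fun h0 => hb₁c (elem_comm hA b₁ hb₁ c ((hA₀m c).1 h0).1)
      have h3 : Nat.card A ≤ 2 * Nat.card A₀ := card_le_two_mul inf_le_left fun b hb b' hb' hn hn' =>
        (hA₀m _).2 ⟨mul_mem hb hb', h2 b hb b' hb' (fun h0 => hn ((hA₀m b).2 ⟨hb, h0⟩))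
          fun h0 => hn' ((hA₀m b').2 ⟨hb', h0⟩)⟩
      exact h3.trans (two_mul_card_le le_sup_left (mem_sup_right (mem_zpowers c)) hcA)
  · intro b hb
    obtain ⟨b₀, hb₀, k, hk, e⟩ := mem_sup_comm (A := A₀) (B := zpowers c) (by
      intro x hx y hy
      obtain ⟨n, rfl⟩ := mem_zpowers_iff.1 hy
      have h3 : Commute x c := ((hA₀m x).1 hx).2
      exact (h3.zpow_right n).eq) hb
    exact ⟨b₀, ((hA₀m b₀).1 hb₀).1, ((hA₀m b₀).1 hb₀).2, k, hk, e⟩

section letters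

variable {p : Fin 5 → G}

/-- `g` acts on the letters as `f` -/
def Acts (p : Fin 5 → G) (g : G) (f : Fin 5 → Fin 5) : Prop := ∀ i, g * p i * g⁻¹ = p (f i)

theorem Acts.mul {g g' : G} {f f' : Fin 5 → Fin 5} (h : Acts p g f) (h' : Acts p g' f') :
    Acts p (g * g') (fun i => f (f' i)) := by
  intro i
  have e : g * g' * p i * (g * g')⁻¹ = g * (g' * p i * g'⁻¹) * g⁻¹ := by group
  rw [e, h' i, h (f' i)]

theorem Acts.comm {g : G} {f : Fin 5 → Fin 5} (h : Acts p g f) {i : Fin 5} (hi : f i = i) : g * p i = p i * g := by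
  have h1 := h i
  rw [hi] at h1
  exact mul_inv_eq_iff_eq_mul.1 h1

theorem Acts.ne (inj : Function.Injective p) {g : G} {f : Fin 5 → Fin 5} (h : Acts p g f) {i : Fin 5} (hi : f i ≠ i) :
    g * p i ≠ p i * g := by
  intro h0
  apply hi
  apply inj
  rw [← h i, h0, mul_inv_cancel_right]

theorem Acts.mem {V : Subgroup G} (hV : V = closure (Set.range p)) {g : G} {f : Fin 5 → Fin 5} (h : Acts p g f)
    (hf : ∀ i, f i = i) : g ∈ centralizer (V : Set G) := by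
  rw [hV, centralizer_closure, mem_centralizer_iff]
  rintro _ ⟨i, rfl⟩
  exact (h.comm (hf i)).symm

theorem Acts.of_mem (comm : ∀ i j, p i * p j = p j * p i) {V : Subgroup G} (hV : V = closure (Set.range p)) {k : G}
    (hk : k ∈ V) : Acts p k id := by
  intro i
  have h1 : V ≤ centralizer ({p i} : Set G) := by
    rw [hV, closure_le]
    rintro _ ⟨j, rfl⟩
    exact mem_centralizer_singleton_iff.2 (comm j i)
  have h2 := mem_centralizer_singleton_iff.1 (h1 hk)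
  rw [h2, mul_inv_cancel_right]
  rfl

theorem swap {O V A : Subgroup G} {p : Fin 5 → G} (sq : ∀ i, p i * p i = 1) (comm : ∀ i j, p i * p j = p j * p i)
    (prod : p 4 = p 0 * p 1 * p 2 * p 3) (inj : Function.Injective p) (h4 : p 4 ≠ 1)
    (hV : V = closure (Set.range p)) (hVO : V ≤ O) (hA : IsElementaryAbelian 2 A) (hAO : A ≤ O)
    (hmax : ∀ B : Subgroup G, IsElementaryAbelian 2 B → B ≤ O → Nat.card B ≤ Nat.card A)
    (hact : ∀ g ∈ O, (∀ i, g * p i * g⁻¹ = p i) ∨ (∀ i, g * p i * g⁻¹ = p (Equiv.swap 0 2 i)) ∨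
      (∀ i, g * p i * g⁻¹ = p (Equiv.swap 1 3 i)) ∨
      (∀ i, g * p i * g⁻¹ = p ((Equiv.swap 0 2 * Equiv.swap 1 3 : Equiv.Perm (Fin 5)) i)))
    (hmv : ¬ A ≤ centralizer (V : Set G)) :
    ∃ A₁ : Subgroup G, ∃ a ∈ A₁, IsElementaryAbelian 2 A₁ ∧ A₁ ≤ O ∧ Nat.card A₁ = Nat.card A ∧
      ((∀ i, a * p i * a⁻¹ = p (Equiv.swap 0 2 i)) ∨ (∀ i, a * p i * a⁻¹ = p (Equiv.swap 1 3 i))) ∧
      ∀ b ∈ A₁, b ∈ centralizer (V : Set G) ∨ b * a ∈ centralizer (V : Set G) := by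
  have hpV : ∀ i, p i ∈ V := fun i => by rw [hV]; exact subset_closure ⟨i, rfl⟩
  have hact' : ∀ g ∈ O, Acts p g id ∨ Acts p g (Equiv.swap 0 2) ∨ Acts p g (Equiv.swap 1 3) ∨
      Acts p g ((Equiv.swap 0 2 * Equiv.swap 1 3 : Equiv.Perm (Fin 5))) := hact
  have hz : ∀ (c k : G), c ∈ V → k ∈ zpowers c → k ∈ V := fun c k hc hk => (zpowers_le.2 hc) hk
  by_cases h02 : ∃ a ∈ A, Acts p a (Equiv.swap 0 2)
  · obtain ⟨a, haA, ha⟩ := h02
    obtain ⟨A₁, haA₁, h1, h2, h3, h5⟩ := repl (a := a) (c := p 1) (hVO (hpV 1)) (sq 1) hA hAO hmax haA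
      (ha.comm (by decide)) (by
        intro b hb b' hb' hn hn'
        rcases hact' b (hAO hb) with h | h | h | h
        · exact absurd (h.comm rfl) hn
        · exact absurd (h.comm (by decide)) hn
        all_goals
          rcases hact' b' (hAO hb') with h' | h' | h' | h'
          · exact absurd (h'.comm rfl) hn'
          · exact absurd (h'.comm (by decide)) hn'
          · exact (h.mul h').comm (by decide)
          · exact (h.mul h').comm (by decide))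
    refine ⟨A₁, a, haA₁, h1, h2, h3, Or.inl ha, fun b hb => ?_⟩
    obtain ⟨b₀, hb₀, hb₀c, k, hk, rfl⟩ := h5 b hb
    have hkV := Acts.of_mem comm hV (hz _ k (hpV 1) hk)
    rcases hact' b₀ (hAO hb₀) with h | h | h | h
    · left
      exact (h.mul hkV).mem hV fun i => rfl
    · right
      exact ((h.mul hkV).mul ha).mem hV (by decide)
    · exact absurd hb₀c (h.ne inj (by decide))
    · exact absurd hb₀c (h.ne inj (by decide))
  by_cases h13 : ∃ a ∈ A, Acts p a (Equiv.swap 1 3)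
  · obtain ⟨a, haA, ha⟩ := h13
    obtain ⟨A₁, haA₁, h1, h2, h3, h5⟩ := repl (a := a) (c := p 0) (hVO (hpV 0)) (sq 0) hA hAO hmax haA
      (ha.comm (by decide)) (by
        intro b hb b' hb' hn hn'
        rcases hact' b (hAO hb) with h | h | h | h
        · exact absurd (h.comm rfl) hn
        rotate_left
        · exact absurd (h.comm (by decide)) hn
        all_goals
          rcases hact' b' (hAO hb') with h' | h' | h' | h'
          · exact absurd (h'.comm rfl) hn'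
          · exact (h.mul h').comm (by decide)
          · exact absurd (h'.comm (by decide)) hn'
          · exact (h.mul h').comm (by decide))
    refine ⟨A₁, a, haA₁, h1, h2, h3, Or.inr ha, fun b hb => ?_⟩
    obtain ⟨b₀, hb₀, hb₀c, k, hk, rfl⟩ := h5 b hb
    have hkV := Acts.of_mem comm hV (hz _ k (hpV 0) hk)
    rcases hact' b₀ (hAO hb₀) with h | h | h | h
    · left
      exact (h.mul hkV).mem hV fun i => rfl
    · exact absurd hb₀c (h.ne inj (by decide))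
    · right
      exact ((h.mul hkV).mul ha).mem hV (by decide)
    · exact absurd hb₀c (h.ne inj (by decide))
  -- only `(0 2)(1 3)`
  exfalso
  push Not at h02 h13
  have hA' : ∀ g ∈ A, Acts p g id ∨ Acts p g ((Equiv.swap 0 2 * Equiv.swap 1 3 : Equiv.Perm (Fin 5))) := by
    intro g hg
    rcases hact' g (hAO hg) with h | h | h | h
    · exact Or.inl h
    · exact absurd h (h02 g hg)
    · exact absurd h (h13 g hg)
    · exact Or.inr h
  obtain ⟨a, haA, haV⟩ := SetLike.not_le_iff_exists.1 hmv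
  have ha : Acts p a ((Equiv.swap 0 2 * Equiv.swap 1 3 : Equiv.Perm (Fin 5))) :=
    (hA' a haA).resolve_left fun h => haV (h.mem hV fun i => rfl)
  set A₀ := A ⊓ centralizer (V : Set G) with hA₀
  have hA₀c : ∀ b ∈ A₀, ∀ i, b * p i = p i * b := fun b hb i => (mem_centralizer_iff.1 hb.2 _ (hpV i)).symm
  have c1 : Nat.card A ≤ 2 * Nat.card A₀ := card_le_two_mul inf_le_left fun b hb b' hb' hn hn' => by
    have h1 : Acts p b ((Equiv.swap 0 2 * Equiv.swap 1 3 : Equiv.Perm (Fin 5))) :=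
      (hA' b hb).resolve_left fun h => hn ⟨hb, h.mem hV fun i => rfl⟩
    have h2 : Acts p b' ((Equiv.swap 0 2 * Equiv.swap 1 3 : Equiv.Perm (Fin 5))) :=
      (hA' b' hb').resolve_left fun h => hn' ⟨hb', h.mem hV fun i => rfl⟩
    exact ⟨mul_mem hb hb', (h1.mul h2).mem hV (by decide)⟩
  have hp0 : p 0 ∉ A := fun h0 => ha.ne inj (i := 0) (by decide) (elem_comm hA a haA _ h0)
  have hp1 : p 1 ∉ A := fun h0 => ha.ne inj (i := 1) (by decide) (elem_comm hA a haA _ h0)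
  have hp01 : p 0 * p 1 ∉ A := by
    intro h0
    have h1 := elem_comm hA a haA _ h0
    have e1 : a * (p 0 * p 1) * a⁻¹ = p 2 * p 3 := by
      have e2 : a * (p 0 * p 1) * a⁻¹ = (a * p 0 * a⁻¹) * (a * p 1 * a⁻¹) := by group
      rw [e2, ha 0, ha 1]
      rfl
    rw [h1, mul_inv_cancel_right] at e1
    apply h4
    rw [prod, mul_assoc (p 0 * p 1), ← e1]
    have h5 := sq 0
    have h6 := sq 1
    calc p 0 * p 1 * (p 0 * p 1) = (p 0 * p 0) * (p 1 * p 1) := by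
          rw [mul_assoc, ← mul_assoc (p 1) (p 0), comm 1 0]; group
      _ = 1 := by rw [h5, h6, one_mul]
  -- `A₀ ⟨p 0⟩ ⟨p 1⟩`
  have hel0 : IsElementaryAbelian 2 (A₀ ⊔ zpowers (p 0)) := by
    refine isElementaryAbelian_sup (isElementaryAbelian_mono hA inf_le_left)
      (isElementaryAbelian_zpowers (by rw [pow_two]; exact sq 0)) ?_
    rw [zpowers_le, mem_centralizer_iff]
    exact fun b hb => hA₀c b hb 0
  have hcm : A₀ ⊔ zpowers (p 0) ≤ centralizer ({p 1} : Set G) := by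
    refine sup_le (fun b hb => mem_centralizer_singleton_iff.2 (hA₀c b hb 1)) ?_
    rw [zpowers_le, mem_centralizer_singleton_iff]
    exact comm 0 1
  have hel1 : IsElementaryAbelian 2 ((A₀ ⊔ zpowers (p 0)) ⊔ zpowers (p 1)) := by
    refine isElementaryAbelian_sup hel0 (isElementaryAbelian_zpowers (by rw [pow_two]; exact sq 1)) ?_
    rw [zpowers_le, mem_centralizer_iff]
    exact fun b hb => mem_centralizer_singleton_iff.1 (hcm hb)
  have c2 := two_mul_card_le (H := A₀) (K := A₀ ⊔ zpowers (p 0)) le_sup_left (mem_sup_right (mem_zpowers _))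
    fun h0 => hp0 h0.1
  have c3 := two_mul_card_le (H := A₀ ⊔ zpowers (p 0)) (K := (A₀ ⊔ zpowers (p 0)) ⊔ zpowers (p 1)) le_sup_left
    (mem_sup_right (mem_zpowers (p 1))) (by
      intro h0
      obtain ⟨b, hb, k, hk, e⟩ := mem_sup_comm (A := A₀) (B := zpowers (p 0)) (by
        intro x hx y hy
        obtain ⟨n, rfl⟩ := mem_zpowers_iff.1 hy
        have h3 : Commute x (p 0) := hA₀c x hx 0
        exact (h3.zpow_right n).eq) h0
      have hk' : k = 1 ∨ k = p 0 := by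
        obtain ⟨n, rfl⟩ := mem_zpowers_iff.1 hk
        have h5 : p 0 ^ (2 : ℤ) = 1 := by rw [zpow_ofNat, pow_two]; exact sq 0
        rcases Int.even_or_odd' n with ⟨m, rfl | rfl⟩
        · left; rw [zpow_mul, h5, one_zpow]
        · right; rw [zpow_add, zpow_mul, h5, one_zpow, one_mul, zpow_one]
      rcases hk' with rfl | rfl
      · rw [mul_one] at e
        exact hp1 (e ▸ hb.1)
      · apply hp01
        rw [e, ← mul_assoc, ← hA₀c b hb 0, mul_assoc, sq 0, mul_one]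
        exact hb.1)
  have c4 := hmax _ hel1 (sup_le (sup_le (inf_le_left.trans hAO) (zpowers_le.2 (hVO (hpV 0))))
    (zpowers_le.2 (hVO (hpV 1))))
  have c5 : 0 < Nat.card A₀ := Nat.card_pos
  omega

end letters

end Cfsg.Agent.Omega.NO3S.LightFive.TwoA

end

end

-- merged: Cfsg.Agent.Mrg.Omega.NO3S.LightFive.TwoAInst
section

/-!
# LightL (E), `n = 5`: TWO PAIRS, the frame over `p : Fin 5 → G` (helper411 #25060 (A))

`L` permutes the five involutions `p i` (`NTwo.Fv`), `V = ⟨p i⟩`, `D = C_G(12) ∩ C_G(34)`, `T ≤ L` a Sylow 2-subgroup of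
`D`, `U ≥ V` elementary abelian, normalised by `C_G(p 4)`, `L ≤ Ls`, `C_D(v) ≤ Ls` for `v ∈ V ∖ ⟨12, 34⟩`, `N_D(T) ≤ Ls`
and (1') for every `T`-minimal `R ≤ D`, `R ≰ Ls`.

* `Dt` : the frame;
* `Dt.T_act`, `Dt.exists_R`, `Dt.exists_l` : the action of `T`, the minimal `R`, `l ∈ N_L(Q)` inducing `(1 2)`;
* **`Dt.le`** : if `J(O₂(D))` does not centralise `V`, then `D ≤ Ls`.
-/

set_option autoImplicit false
set_option linter.unusedSectionVars false

namespace Cfsg.Agent.Omega.NO3S.LightFive.TwoA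

open Subgroup Cfsg Cfsg.Agent.ZN Cfsg.Agent.ZN.ChoiceBase
open Cfsg.Agent.ZN.ChoiceSit (Syl syl_conj isPGroup_o2 le_o2 o2_cj o2_le_syl)
open Cfsg.Agent.MinSimple.MinParabolic (IsMinPar)
open Cfsg.Agent.MinSimple.VModule (oddGen)
open Cfsg.Agent.Omega.NTwo (Fv nn aa mem_cent cm cc)
open Cfsg.Agent.Omega.SQ1.Bau (elem_comm elem_sq)

universe u

variable {G : Type u} [Group G]

/-- `D = C_G(12) ∩ C_G(34)` -/
abbrev DD (p : Fin 5 → G) : Subgroup G := centralizer ({nn p} : Set G) ⊓ centralizer ({aa p} : Set G)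

/-- `V = ⟨p i⟩` -/
abbrev VV (p : Fin 5 → G) : Subgroup G := closure (Set.range p)

/-- **The frame of (A).** -/
structure Dt [Finite G] (L Ls T U : Subgroup G) (p : Fin 5 → G) : Prop where
  fv : Fv L p
  cv : centralizer (VV p : Set G) ≤ L
  LLs : L ≤ Ls
  cen : ∀ i : Fin 5, i ≠ 4 → ∀ g ∈ DD p, g * p i = p i * g → g ∈ Ls
  syl : Syl T (DD p)
  TL : T ≤ L
  nT : ∀ g ∈ DD p, g ∈ normalizer (T : Set G) → g ∈ Ls
  Uc : ∀ u ∈ U, ∀ v ∈ U, u * v = v * u
  Us : ∀ u ∈ U, u * u = 1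
  VU : VV p ≤ U
  nU : centralizer ({p 4} : Set G) ≤ normalizer (U : Set G)
  /-- (1') -/
  one : ∀ R : Subgroup G, IsMinPar T R → R ≤ DD p → ¬ R ≤ Ls →
    ∀ M : Subgroup G, M ≤ U → (∀ X : Subgroup G, VV p ≤ X → R ≤ normalizer (X : Set G) → M ≤ X) →
      R ≤ normalizer (M : Set G) → M ≤ centralizer (o2 R : Set G) → oddGen R ≤ centralizer (M : Set G)

theorem mem_Zx {x y z : G} (hx : x * x = 1) (hy : y * y = 1) (hxy : x * y = y * x) (hz : z ∈ Zx x y) :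
    z = 1 ∨ z = x ∨ z = y ∨ z = x * y := by
  have hxi : x⁻¹ = x := inv_eq_of_mul_eq_one_left hx
  have hyi : y⁻¹ = y := inv_eq_of_mul_eq_one_left hy
  induction hz using closure_induction_right with
  | one => exact Or.inl rfl
  | mul_right w hw y' hy' ih =>
    rcases hy' with rfl | rfl
    · rcases ih with rfl | rfl | rfl | rfl
      · simp
      · simp [hx]
      · simp [hxy]
      · right; right; left
        rw [hxy, mul_assoc, hx, mul_one]
    · rcases ih with rfl | rfl | rfl | rfl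
      · simp
      · simp
      · simp [hy]
      · right; left
        rw [mul_assoc, hy, mul_one]
  | mul_inv_cancel w hw y' hy' ih =>
    rcases hy' with rfl | rfl
    · rw [hxi]
      rcases ih with rfl | rfl | rfl | rfl
      · simp
      · simp [hx]
      · simp [hxy]
      · right; right; left
        rw [hxy, mul_assoc, hx, mul_one]
    · rw [hyi]
      rcases ih with rfl | rfl | rfl | rfl
      · simp
      · simp
      · simp [hy]
      · right; left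
        rw [mul_assoc, hy, mul_one]

theorem perm_cases : ∀ τ : Equiv.Perm (Fin 5), ((τ 0 = 0 ∧ τ 1 = 1) ∨ (τ 0 = 1 ∧ τ 1 = 0)) →
    ((τ 2 = 2 ∧ τ 3 = 3) ∨ (τ 2 = 3 ∧ τ 3 = 2)) →
    τ = 1 ∨ τ = Equiv.swap 0 1 ∨ τ = Equiv.swap 2 3 ∨ τ = Equiv.swap 0 1 * Equiv.swap 2 3 := by
  decide +kernel

theorem swap_cases : ∀ i : Fin 5,
    Equiv.swap (1 : Fin 5) 2 (Equiv.swap 0 1 (Equiv.swap 1 2 i)) = Equiv.swap 0 2 i ∧
    Equiv.swap (1 : Fin 5) 2 (Equiv.swap 2 3 (Equiv.swap 1 2 i)) = Equiv.swap 1 3 i ∧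
    Equiv.swap (1 : Fin 5) 2 (Equiv.swap 0 1 (Equiv.swap 2 3 (Equiv.swap 1 2 i))) =
      Equiv.swap 0 2 (Equiv.swap 1 3 i) := by
  decide +kernel

theorem syl_cj' {T X : Subgroup G} (h : Syl T X) (g : G) : Syl (cj g T) (cj g X) := by
  refine ⟨cj_mono g h.1, isPGroup_cj g h.2.1, fun Q hQ hQ2 hTQ => ?_⟩
  have h1 : cj g⁻¹ Q ≤ X := by
    have := cj_mono g⁻¹ hQ
    rwa [cj_inv_cj] at this
  have h2 : T ≤ cj g⁻¹ Q := by
    have := cj_mono g⁻¹ hTQ
    rwa [cj_inv_cj] at this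
  have h3 := h.2.2 _ h1 (isPGroup_cj g⁻¹ hQ2) h2
  rw [← h3, cj_cj_inv]

theorem pV {p : Fin 5 → G} (i : Fin 5) : p i ∈ VV p := subset_closure (Set.mem_range_self i)

theorem nV {p : Fin 5 → G} : nn p ∈ VV p := mul_mem (pV 0) (pV 1)

theorem aV {p : Fin 5 → G} : aa p ∈ VV p := mul_mem (pV 2) (pV 3)

namespace Dt

variable [Finite G] {L Ls T U : Subgroup G} {p : Fin 5 → G} (h : Dt L Ls T U p)
include h

theorem V_comm {u v : G} (hu : u ∈ VV p) (hv : v ∈ VV p) : u * v = v * u := h.Uc u (h.VU hu) v (h.VU hv)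

theorem V_sq {u : G} (hu : u ∈ VV p) : u * u = 1 := h.Us u (h.VU hu)

theorem four : nn p * aa p = p 4 := h.fv.prod

theorem D_four : DD p ≤ centralizer ({p 4} : Set G) := by
  rintro g ⟨h1, h2⟩
  rw [← h.four]
  have h1' := mem_cent.1 h1
  have h2' := mem_cent.1 h2
  rw [mem_cent, cm, h1', h2']

theorem CV_D : centralizer (VV p : Set G) ≤ DD p := fun _ hg =>
  ⟨mem_centralizer_singleton_iff.2 (mem_centralizer_iff.1 hg _ nV).symm,
    mem_centralizer_singleton_iff.2 (mem_centralizer_iff.1 hg _ aV).symm⟩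

theorem L_V {g v : G} (hg : g ∈ L) (hv : v ∈ VV p) : g * v * g⁻¹ ∈ VV p := by
  obtain ⟨σ, hσ⟩ := h.fv.perm g hg
  have h1 : VV p ≤ (VV p).comap (MulAut.conj g).toMonoidHom := by
    rw [closure_le]
    rintro _ ⟨i, rfl⟩
    change g * p i * g⁻¹ ∈ VV p
    rw [hσ]
    exact pV _
  exact h1 hv

theorem L_CV {g c : G} (hg : g ∈ L) (hc : c ∈ centralizer (VV p : Set G)) :
    g * c * g⁻¹ ∈ centralizer (VV p : Set G) := by
  rw [mem_centralizer_iff] at hc ⊢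
  intro v hv
  have h1 := h.L_V (inv_mem hg) hv
  rw [inv_inv] at h1
  have h2 := hc _ h1
  calc v * (g * c * g⁻¹) = g * (g⁻¹ * v * g * c) * g⁻¹ := by group
    _ = g * (c * (g⁻¹ * v * g)) * g⁻¹ := by rw [h2]
    _ = g * c * g⁻¹ * v := by group

/-- `T` acts on the points as a subgroup of `⟨(0 1), (2 3)⟩`. -/
theorem T_act {t : G} (ht : t ∈ T) : ∃ τ : Equiv.Perm (Fin 5),
    (τ = 1 ∨ τ = Equiv.swap 0 1 ∨ τ = Equiv.swap 2 3 ∨ τ = Equiv.swap 0 1 * Equiv.swap 2 3) ∧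
    ∀ i, t * p i * t⁻¹ = p (τ i) := by
  obtain ⟨τ, hτ⟩ := h.fv.perm t (h.TL ht)
  have e1 : p (τ 0) * p (τ 1) = p 0 * p 1 := by
    rw [← hτ, ← hτ, ← cm]
    exact mem_cent.1 (h.syl.1 ht).1
  have e2 : p (τ 2) * p (τ 3) = p 2 * p 3 := by
    rw [← hτ, ← hτ, ← cm]
    exact mem_cent.1 (h.syl.1 ht).2
  refine ⟨τ, perm_cases τ (h.fv.pair_inj (fun e => absurd (τ.injective e) (by decide)) (by decide) e1)
    (h.fv.pair_inj (fun e => absurd (τ.injective e) (by decide)) (by decide) e2), hτ⟩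

theorem o2T : o2 (DD p) ≤ T := o2_le_syl h.syl

/-- `l ∈ N_L(Q)` inducing `(1 2)` -/
theorem exists_l : ∃ l ∈ L, (∀ i, l * p i * l⁻¹ = p (Equiv.swap 1 2 i)) ∧
    cj l (T ⊓ centralizer (VV p : Set G)) = T ⊓ centralizer (VV p : Set G) := by
  obtain ⟨l₀, hl₀, h0⟩ := h.fv.full (Equiv.swap 1 2)
  have hs : Syl (T ⊓ centralizer (VV p : Set G)) (centralizer (VV p : Set G)) :=
    SQ1.FFOne.syl_inf (T := T) (H := DD p ⊓ L)
      ⟨le_inf h.syl.1 h.TL, h.syl.2.1, fun Q hQ hQ2 hT => h.syl.2.2 Q (hQ.trans inf_le_left) hQ2 hT⟩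
      (le_inf h.CV_D h.cv) (fun _ hg _ hc => h.L_CV hg.2 hc)
  have hs' := syl_cj' hs l₀
  have e0 : cj l₀ (centralizer (VV p : Set G)) = centralizer (VV p : Set G) :=
    cj_eq_of_mem_normalizer (SN.TwoP.norm_of (fun r hr e he => h.L_CV hr he) hl₀)
  rw [e0] at hs'
  obtain ⟨c, hc, e1⟩ := syl_conj hs' hs
  refine ⟨c * l₀, mul_mem (h.cv hc) hl₀, fun i => ?_, by rw [← cj_cj]; exact e1⟩
  rw [← cc, h0, (mem_centralizer_iff.1 hc _ (pV _)).symm, mul_inv_cancel_right]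

/-- **the minimal `R`** -/
theorem exists_R (hD : ¬ DD p ≤ Ls) : ∃ R : Subgroup G, IsMinPar T R ∧ R ≤ DD p ∧ ¬ R ≤ Ls ∧
    ∀ K : Subgroup G, T ≤ K → K < R → K ≤ Ls := by
  classical
  obtain ⟨R, ⟨hTR, hRD, hR⟩, hmin⟩ := Set.exists_min_image {R : Subgroup G | T ≤ R ∧ R ≤ DD p ∧ ¬ R ≤ Ls}
    (fun R => Nat.card R) (Set.toFinite _) ⟨DD p, h.syl.1, le_rfl, hD⟩
  have hm : ∀ K : Subgroup G, T ≤ K → K < R → K ≤ Ls := by
    intro K hTK hKR
    by_contra hK
    have h1 := hmin K ⟨hTK, hKR.le.trans hRD, hK⟩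
    have h2 := Subgroup.eq_of_le_of_card_ge hKR.le h1
    exact hKR.ne h2
  refine ⟨R, ?_, hRD, hR, hm⟩
  by_contra hp
  refine hR (MinSimple.MinParabolic.le_of_forall hTR (fun g hg => h.nT g (hRD hg.1) hg.2) fun K hK hKR => ?_)
  refine hm K hK.le (lt_of_le_of_ne hKR ?_)
  rintro rfl
  exact hp hK

/-- the action of `O' = O₂(D)^l` -/
theorem O_act {l : G} (hl : ∀ i, l * p i * l⁻¹ = p (Equiv.swap 1 2 i)) {g : G} (hg : g ∈ cj l (o2 (DD p))) :
    (∀ i, g * p i * g⁻¹ = p i) ∨ (∀ i, g * p i * g⁻¹ = p (Equiv.swap 0 2 i)) ∨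
      (∀ i, g * p i * g⁻¹ = p (Equiv.swap 1 3 i)) ∨
      (∀ i, g * p i * g⁻¹ = p ((Equiv.swap 0 2 * Equiv.swap 1 3 : Equiv.Perm (Fin 5)) i)) := by
  obtain ⟨τ, hτ, h1⟩ := h.T_act (h.o2T (mem_cj.1 hg))
  have key : ∀ i, g * p i * g⁻¹ = p (Equiv.swap 1 2 (τ (Equiv.swap 1 2 i))) := by
    intro i
    have e0 : p i = l * p (Equiv.swap 1 2 i) * l⁻¹ := by rw [hl, Equiv.swap_apply_self]
    have e1 := h1 (Equiv.swap 1 2 i)
    calc g * p i * g⁻¹ = l * (l⁻¹ * g * l * p (Equiv.swap 1 2 i) * (l⁻¹ * g * l)⁻¹) * l⁻¹ := by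
          rw [e0]; group
      _ = p (Equiv.swap 1 2 (τ (Equiv.swap 1 2 i))) := by rw [e1, hl]
  rcases hτ with rfl | rfl | rfl | rfl
  · left
    intro i
    rw [key, Equiv.Perm.one_apply, Equiv.swap_apply_self]
  · right; left
    intro i
    rw [key, (swap_cases i).1]
  · right; right; left
    intro i
    rw [key, (swap_cases i).2.1]
  · right; right; right
    intro i
    rw [key, Equiv.Perm.mul_apply, (swap_cases i).2.2, Equiv.Perm.mul_apply]

/-- `U ≤ O₂(D)` -/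
theorem U_le : U ≤ o2 (DD p) := by
  refine le_o2 ?_ (fun u hu => ?_) (h.D_four.trans h.nU)
  · exact fun u => ⟨1, Subtype.ext (by simpa [pow_two] using h.Us u u.2)⟩
  · refine h.CV_D (mem_centralizer_iff.2 fun v hv => h.Uc v (h.VU hv) u hu)

theorem x1 : nn p ≠ 1 := h.fv.mul_ne_one (by decide)

theorem y1 : aa p ≠ 1 := h.fv.mul_ne_one (by decide)

theorem xy : nn p ≠ aa p := fun e => by
  rcases h.fv.pair_inj (a := 0) (b := 1) (c := 2) (d := 3) (by decide) (by decide) e with h1 | h1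
  · exact absurd h1.1 (by decide)
  · exact absurd h1.1 (by decide)

theorem mem_Z {z : G} (hz : z ∈ Zx (nn p) (aa p)) : z = 1 ∨ z = nn p ∨ z = aa p ∨ z = p 4 := by
  rw [← h.four]
  exact mem_Zx (h.V_sq nV) (h.V_sq aV) (h.V_comm nV aV) hz

/-- a point is in `⟨12, 34⟩` only if it is `p 4` -/
theorem p_not {i : Fin 5} (hi : i ≠ 4) : p i ∉ Zx (nn p) (aa p) := fun hz => by
  rcases h.mem_Z hz with h1 | h1 | h1 | h1
  · exact h.fv.ne i h1
  · exact h.fv.mul_ne (i := 0) (j := 1) (by decide) i h1.symm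
  · exact h.fv.mul_ne (i := 2) (j := 3) (by decide) i h1.symm
  · exact hi (h.fv.inj h1)

/-- a pair is in `⟨12, 34⟩` only if it is `01` or `23` -/
theorem pp_not {i j : Fin 5} (hij : i ≠ j) (h01 : ¬ ((i = 0 ∧ j = 1) ∨ (i = 1 ∧ j = 0)))
    (h23 : ¬ ((i = 2 ∧ j = 3) ∨ (i = 3 ∧ j = 2))) : p i * p j ∉ Zx (nn p) (aa p) := fun hz => by
  rcases h.mem_Z hz with h1 | h1 | h1 | h1
  · exact h.fv.mul_ne_one hij h1
  · exact h01 (h.fv.pair_inj hij (by decide) h1)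
  · exact h23 (h.fv.pair_inj hij (by decide) h1)
  · exact h.fv.mul_ne hij 4 h1

theorem T_zero {t : G} (ht : t ∈ T) : t * p 0 * t⁻¹ * (p 0)⁻¹ = 1 ∨ t * p 0 * t⁻¹ * (p 0)⁻¹ = nn p := by
  obtain ⟨τ, hτ, h1⟩ := h.T_act ht
  rw [h1, h.fv.pinv]
  rcases hτ with rfl | rfl | rfl | rfl
  · left; exact h.fv.sq 0
  · right; exact h.fv.comm 1 0
  · left; exact h.fv.sq 0
  · right; exact h.fv.comm 1 0

theorem T_one {t : G} (ht : t ∈ T) : t * p 1 * t⁻¹ * (p 1)⁻¹ = 1 ∨ t * p 1 * t⁻¹ * (p 1)⁻¹ = nn p := by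
  obtain ⟨τ, hτ, h1⟩ := h.T_act ht
  rw [h1, h.fv.pinv]
  rcases hτ with rfl | rfl | rfl | rfl
  · left; exact h.fv.sq 1
  · right; rfl
  · left; exact h.fv.sq 1
  · right; rfl

theorem T_two {t : G} (ht : t ∈ T) : t * p 2 * t⁻¹ * (p 2)⁻¹ = 1 ∨ t * p 2 * t⁻¹ * (p 2)⁻¹ = aa p := by
  obtain ⟨τ, hτ, h1⟩ := h.T_act ht
  rw [h1, h.fv.pinv]
  rcases hτ with rfl | rfl | rfl | rfl
  · left; exact h.fv.sq 2
  · left; exact h.fv.sq 2
  · right; exact h.fv.comm 3 2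
  · right; exact h.fv.comm 3 2

theorem T_three {t : G} (ht : t ∈ T) : t * p 3 * t⁻¹ * (p 3)⁻¹ = 1 ∨ t * p 3 * t⁻¹ * (p 3)⁻¹ = aa p := by
  obtain ⟨τ, hτ, h1⟩ := h.T_act ht
  rw [h1, h.fv.pinv]
  rcases hτ with rfl | rfl | rfl | rfl
  · left; exact h.fv.sq 3
  · left; exact h.fv.sq 3
  · right; rfl
  · right; rfl

/-- the count for `O' = O₂(D)^l` -/
theorem of_swap {l a : G} {A : Subgroup G} (hlL : l ∈ L) (hl : ∀ i, l * p i * l⁻¹ = p (Equiv.swap 1 2 i))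
    (hlQ : cj l (T ⊓ centralizer (VV p : Set G)) = T ⊓ centralizer (VV p : Set G))
    {R : Subgroup G} (hR : IsMinPar T R) (hRD : R ≤ DD p) (hRL : ¬ R ≤ Ls)
    (hRm : ∀ K : Subgroup G, T ≤ K → K < R → K ≤ Ls)
    (aA : a ∈ A) (hA : IsElementaryAbelian 2 A) (hAO : A ≤ cj l (o2 (DD p)))
    (hmax : ∀ B : Subgroup G, IsElementaryAbelian 2 B → B ≤ cj l (o2 (DD p)) → Nat.card B ≤ Nat.card A)
    (idx : ∀ b ∈ A, b ∈ centralizer (VV p : Set G) ∨ b * a ∈ centralizer (VV p : Set G))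
    {i j : Fin 5} (hij : i ≠ j) (hi4 : i ≠ 4) (hj4 : j ≠ 4)
    (h01 : (i = 0 ∧ j = 2) ∨ (i = 1 ∧ j = 3))
    (act : ∀ k, a * p k * a⁻¹ = p (Equiv.swap i j k)) : False := by
  have hU : U ≤ cj l (o2 (DD p)) := by
    have h1 : cj l U = U := by
      refine cj_eq_of_mem_normalizer (h.nU ?_)
      rw [mem_cent, hl]
      rfl
    rw [← h1]
    exact cj_mono l h.U_le
  have hcT : cj l (centralizer (VV p : Set G)) = centralizer (VV p : Set G) :=
    cj_eq_of_mem_normalizer (SN.TwoP.norm_of (fun r hr e he => h.L_CV hr he) hlL)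
  have hOT : cj l (o2 (DD p)) ≤ cj l T := cj_mono l h.o2T
  have hO4 : cj l (o2 (DD p)) ≤ centralizer ({p 4} : Set G) := by
    intro g hg
    have h1 := h.D_four (ChoiceSit.o2_le _ (mem_cj.1 hg))
    rw [mem_cent] at h1 ⊢
    have h2 : p 4 = l * p 4 * l⁻¹ := by rw [hl]; rfl
    calc g * p 4 * g⁻¹ = l * (l⁻¹ * g * l * p 4 * (l⁻¹ * g * l)⁻¹) * l⁻¹ := by
          conv_lhs => rw [h2]
          group
      _ = p 4 := by rw [h1]; exact h2.symm
  have hQn : ∀ g ∈ cj l (o2 (DD p)), ∀ t ∈ T ⊓ centralizer (VV p : Set G),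
      g * t * g⁻¹ ∈ T ⊓ centralizer (VV p : Set G) := by
    intro g hg t ht
    have h1 := mem_cj.1 (hOT hg)
    have h2 : l⁻¹ * t * l ∈ T ⊓ centralizer (VV p : Set G) := by
      rw [← hlQ] at ht
      exact mem_cj.1 ht
    have h3 : (l⁻¹ * g * l) * (l⁻¹ * t * l) * (l⁻¹ * g * l)⁻¹ ∈ T ⊓ centralizer (VV p : Set G) :=
      ⟨T.mul_mem (T.mul_mem h1 h2.1) (T.inv_mem h1), h.L_CV (h.TL h1) h2.2⟩
    have h4 : g * t * g⁻¹ ∈ cj l (T ⊓ centralizer (VV p : Set G)) := by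
      rw [mem_cj]
      have e : l⁻¹ * (g * t * g⁻¹) * l = (l⁻¹ * g * l) * (l⁻¹ * t * l) * (l⁻¹ * g * l)⁻¹ := by group
      rw [e]
      exact h3
    rwa [hlQ] at h4
  have hA0 : A ⊓ centralizer (VV p : Set G) ≤ T := by
    intro g hg
    have h1 : g ∈ cj l T ⊓ cj l (centralizer (VV p : Set G)) := ⟨hOT (hAO hg.1), by rw [hcT]; exact hg.2⟩
    rw [← cj_inf, hlQ] at h1
    exact h1.1
  have hpp : p j * p i = p i * p j := h.fv.comm _ _
  have hcV : ∀ v ∈ VV p, a * v * a⁻¹ = v ∨ a * v * a⁻¹ = v * (p i * p j) := by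
    have hm : p i * p j ∈ VV p := mul_mem (pV _) (pV _)
    intro v hv
    induction hv using closure_induction with
    | mem x hx =>
      obtain ⟨k, rfl⟩ := hx
      rw [act]
      by_cases hki : k = i
      · subst hki
        right
        rw [Equiv.swap_apply_left, ← mul_assoc, h.fv.sq, one_mul]
      · by_cases hkj : k = j
        · subst hkj
          right
          rw [Equiv.swap_apply_right, ← hpp, ← mul_assoc, h.fv.sq, one_mul]
        · left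
          rw [Equiv.swap_apply_of_ne_of_ne hki hkj]
    | one => left; group
    | mul x y hx hy ihx ihy =>
      rw [cm]
      have hym : y * (p i * p j) = (p i * p j) * y := h.V_comm hy hm
      rcases ihx with e1 | e1 <;> rcases ihy with e2 | e2 <;> rw [e1, e2]
      · left; rfl
      · right; rw [mul_assoc]
      · right; rw [mul_assoc, ← hym, mul_assoc]
      · left
        rw [hym, mul_assoc x, ← mul_assoc (p i * p j) (p i * p j), h.V_sq hm, one_mul]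
    | inv x hx ih =>
      have hxi : x⁻¹ = x := inv_eq_of_mul_eq_one_left (h.V_sq hx)
      rw [hxi]
      exact ih
  have hof : TwoA.Of (VV p) (cj l (o2 (DD p))) A a (p i * p j) :=
    { elem := hA
      le := hAO
      max := hmax
      Vel := ⟨⟨⟨fun x y => Subtype.ext (h.V_comm x.2 y.2)⟩⟩, fun x hx => by rw [pow_two]; exact h.V_sq hx⟩
      VO := h.VU.trans hU
      aA := aA
      nV := ⟨p i, pV i, fun e => hij (h.fv.inj (by
        rw [← Equiv.swap_apply_left i j, ← act, e, mul_inv_cancel_right]))⟩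
      pV := mul_mem (pV _) (pV _)
      cV := hcV
      two := fun b hb hbc => by
        have h1 := (idx b hb).resolve_left hbc
        have h2 : a⁻¹ * b = b * a := by
          rw [inv_eq_of_mul_eq_one_left (show a * a = 1 by rw [← pow_two]; exact elem_sq hA a aA), elem_comm hA a aA b hb]
        rw [h2]
        exact h1 }
  have hUel : ∀ X : Subgroup G, X ≤ U → IsElementaryAbelian 2 X := fun X hX =>
    ⟨⟨⟨fun x y => Subtype.ext (h.Uc x (hX x.2) y (hX y.2))⟩⟩, fun x hx => by rw [pow_two]; exact h.Us x (hX hx)⟩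
  have hgen : VV p ≤ closure {nn p, aa p, p i, p j} := by
    have hx : nn p ∈ closure {nn p, aa p, p i, p j} := subset_closure (by simp)
    have hy : aa p ∈ closure {nn p, aa p, p i, p j} := subset_closure (by simp)
    have hi : p i ∈ closure {nn p, aa p, p i, p j} := subset_closure (by simp)
    have hj : p j ∈ closure {nn p, aa p, p i, p j} := subset_closure (by simp)
    have h4 : p 4 ∈ closure {nn p, aa p, p i, p j} := by
      rw [← h.four]
      exact mul_mem hx hy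
    have hP : ∀ k, p k ∈ closure {nn p, aa p, p i, p j} := by
      rcases h01 with ⟨rfl, rfl⟩ | ⟨rfl, rfl⟩
      · have h1 : p 1 = p 0 * nn p := by rw [nn, ← mul_assoc, h.fv.sq, one_mul]
        have h3 : p 3 = p 2 * aa p := by rw [aa, ← mul_assoc, h.fv.sq, one_mul]
        intro k
        fin_cases k
        · exact hi
        · change p 1 ∈ _
          rw [h1]; exact mul_mem hi hx
        · exact hj
        · change p 3 ∈ _
          rw [h3]; exact mul_mem hj hy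
        · exact h4
      · have h1 : p 0 = nn p * p 1 := by rw [nn, mul_assoc, h.fv.sq, mul_one]
        have h3 : p 2 = aa p * p 3 := by rw [aa, mul_assoc, h.fv.sq, mul_one]
        intro k
        fin_cases k
        · change p 0 ∈ _
          rw [h1]; exact mul_mem hx hi
        · exact hi
        · change p 2 ∈ _
          rw [h3]; exact mul_mem hy hj
        · exact hj
        · exact h4
    rw [closure_le]
    rintro _ ⟨k, rfl⟩
    exact hP k
  have hax : a * nn p * a⁻¹ = p i * p j * nn p := by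
    rw [nn, cm, act, act]
    rcases h01 with ⟨rfl, rfl⟩ | ⟨rfl, rfl⟩
    · change p 2 * p 1 = p 0 * p 2 * (p 0 * p 1)
      symm
      calc p 0 * p 2 * (p 0 * p 1) = p 2 * p 0 * (p 0 * p 1) := by rw [h.fv.comm 0 2]
        _ = p 2 * (p 0 * p 0) * p 1 := by group
        _ = p 2 * p 1 := by rw [h.fv.sq, mul_one]
    · change p 0 * p 3 = p 1 * p 3 * (p 0 * p 1)
      symm
      calc p 1 * p 3 * (p 0 * p 1) = p 3 * p 1 * (p 1 * p 0) := by rw [h.fv.comm 1 3, h.fv.comm 0 1]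
        _ = p 3 * (p 1 * p 1) * p 0 := by group
        _ = p 0 * p 3 := by rw [h.fv.sq, mul_one, h.fv.comm]
  have hay : a * aa p * a⁻¹ = p i * p j * aa p := by
    rw [aa, cm, act, act]
    rcases h01 with ⟨rfl, rfl⟩ | ⟨rfl, rfl⟩
    · change p 0 * p 3 = p 0 * p 2 * (p 2 * p 3)
      symm
      calc p 0 * p 2 * (p 2 * p 3) = p 0 * (p 2 * p 2) * p 3 := by group
        _ = p 0 * p 3 := by rw [h.fv.sq, mul_one]
    · change p 2 * p 1 = p 1 * p 3 * (p 2 * p 3)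
      symm
      calc p 1 * p 3 * (p 2 * p 3) = p 1 * p 3 * (p 3 * p 2) := by rw [h.fv.comm 2 3]
        _ = p 1 * (p 3 * p 3) * p 2 := by group
        _ = p 2 * p 1 := by rw [h.fv.sq, mul_one, h.fv.comm]
  have hTi : ∀ t ∈ T, t * p i * t⁻¹ * (p i)⁻¹ = 1 ∨ t * p i * t⁻¹ * (p i)⁻¹ = nn p := by
    intro t ht
    rcases h01 with ⟨rfl, -⟩ | ⟨rfl, -⟩
    · exact h.T_zero ht
    · exact h.T_one ht
  have hTj : ∀ t ∈ T, t * p j * t⁻¹ * (p j)⁻¹ = 1 ∨ t * p j * t⁻¹ * (p j)⁻¹ = aa p := by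
    intro t ht
    rcases h01 with ⟨-, rfl⟩ | ⟨-, rfl⟩
    · exact h.T_two ht
    · exact h.T_three ht
  have hiZ := h.p_not hi4
  have hjZ := h.p_not hj4
  have hwZ : p i * p j ∉ Zx (nn p) (aa p) := by
    rcases h01 with ⟨rfl, rfl⟩ | ⟨rfl, rfl⟩
    · exact h.pp_not (by decide) (by decide) (by decide)
    · exact h.pp_not (by decide) (by decide) (by decide)
  have haO := hAO aA
  have hPr : Pr Ls T R U (VV p) A (nn p) (aa p) (p i) (p j) a :=
    { T2 := h.syl.2.1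
      syl := ⟨hR.le, h.syl.2.1, fun Q hQ hQ2 hT => h.syl.2.2 Q (hQ.trans hRD) hQ2 hT⟩
      par := hR
      TLs := h.TL.trans h.LLs
      nR := hRL
      min := hRm
      nrm := fun r hr hrn => h.nT r (hRD hr) hrn
      Uc := h.Uc
      Us := h.Us
      RU := fun r hr u hu => (mem_normalizer_iff.1 (h.nU (h.D_four (hRD hr))) u).1 hu
      VU := h.VU
      xV := nV
      yV := aV
      w₁V := pV i
      w₂V := pV j
      gen := hgen
      x1 := h.x1
      y1 := h.y1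
      xy := h.xy
      w₁Z := hiZ
      w₂Z := hjZ
      wZ := hwZ
      Rx := fun r hr => mem_centralizer_singleton_iff.1 (hRD hr).1
      Ry := fun r hr => mem_centralizer_singleton_iff.1 (hRD hr).2
      Tw₁ := hTi
      Tw₂ := hTj
      mx := fun v hv g hg hgv => by
        rcases hv with rfl | rfl
        · exact h.cen i hi4 g (hRD hg) hgv
        · exact h.cen j hj4 g (hRD hg) hgv
      one := h.one R hR hRD hRL
      aA := aA
      Ac := fun b hb c hc => elem_comm hA b hb c hc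
      As := fun b hb => by rw [← pow_two]; exact elem_sq hA b hb
      A0T := hA0
      idx := idx
      aU := fun u hu => (mem_normalizer_iff.1 (h.nU (hO4 haO)) u).1 hu
      aT := fun t ht htc => (hQn a haO t ⟨ht, htc⟩).1
      aw₁ := by rw [act, Equiv.swap_apply_left]
      aw₂ := by rw [act, Equiv.swap_apply_right]
      ax := hax
      ay := hay
      best := fun X hX hVX => TwoA.count hA hAO (hUel X hX) (hX.trans hU) hmax
      best₀ := fun X hX hVX => hof.count0 (hUel X hX) hVX (hX.trans hU) }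
  exact hPr.false_of

/-- **TWO PAIRS, (A) of #25060**: if `J(O₂(D))` does not centralise `V`, then `D ≤ Ls`. -/
theorem le (hJ : ¬ jj (o2 (DD p)) ≤ centralizer (VV p : Set G)) : DD p ≤ Ls := by
  by_contra hD
  obtain ⟨R, hR, hRD, hRL, hRm⟩ := h.exists_R hD
  obtain ⟨l, hlL, hl, hlQ⟩ := h.exists_l
  obtain ⟨A, hA, hAV⟩ : ∃ A ∈ AA (o2 (DD p)), ¬ A ≤ centralizer (VV p : Set G) := by
    by_contra hcon
    push Not at hcon
    exact hJ (by rw [jj_eq]; exact sSup_le hcon)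
  have hA' := cj_mem_AA l hA
  have hcT : cj l (centralizer (VV p : Set G)) = centralizer (VV p : Set G) :=
    cj_eq_of_mem_normalizer (SN.TwoP.norm_of (fun r hr e he => h.L_CV hr he) hlL)
  have hU : VV p ≤ cj l (o2 (DD p)) := by
    have h1 : cj l (VV p) = VV p :=
      cj_eq_of_mem_normalizer (SN.TwoP.norm_of (fun r hr e he => h.L_V hr he) hlL)
    rw [← h1]
    exact cj_mono l (h.VU.trans h.U_le)
  obtain ⟨A₁, a, ha, hA₁, hA₁O, hcard, hact, hidx⟩ := swap h.fv.sq h.fv.comm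
    (by rw [← h.fv.prod, ← mul_assoc]) h.fv.inj (h.fv.ne 4) rfl hU hA'.1 hA'.2.1 hA'.2.2
    (fun g hg => h.O_act hl hg) (fun hle => hAV (by
      have h2 := cj_mono l⁻¹ hle
      rw [cj_inv_cj, ← hcT, cj_inv_cj] at h2
      exact h2))
  have hmax : ∀ B : Subgroup G, IsElementaryAbelian 2 B → B ≤ cj l (o2 (DD p)) → Nat.card B ≤ Nat.card A₁ := by
    rw [hcard]
    exact hA'.2.2
  rcases hact with hact | hact
  · exact h.of_swap hlL hl hlQ hR hRD hRL hRm ha hA₁ hA₁O hmax hidx (i := 0) (j := 2) (by decide) (by decide)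
      (by decide) (Or.inl ⟨rfl, rfl⟩) hact
  · exact h.of_swap hlL hl hlQ hR hRD hRL hRm ha hA₁ hA₁O hmax hidx (i := 1) (j := 3) (by decide) (by decide)
      (by decide) (Or.inr ⟨rfl, rfl⟩) hact

end Dt

end Cfsg.Agent.Omega.NO3S.LightFive.TwoA

end

-- merged: Cfsg.Agent.Mrg.Omega.NO3S.LightFive.TwoAFacts
section

section


/-!
# LightL (E), `n = 5`, (A) of #25060: facts over `FiveL S P p` for TWO PAIRS

`V = zl S P`, `n = nn p`, `a = aa p`, `D = C_G(n) ∩ C_G(a)`, `U = DD V (p 4)`.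

* `fv_N` : `N_G(V)` permutes the `p i` as `Sym(5)`;
* `U_comm`, `U_sq`, `V_le_U`, `nU` : `U` is elementary abelian, `V ≤ U`, `C_G(p 4) ≤ N(U)`;
* `cen` : `X_12 ≤ L*`, `N_G(V) ≤ L*` imply `C_D(p i) ≤ L*` for `i ≠ 4`.
-/

set_option autoImplicit false
set_option linter.unusedSectionVars false

namespace Cfsg.Agent.Omega.NO3S.LightFive.TwoAPlug

open Subgroup Cfsg Cfsg.Agent.ZN Cfsg.Agent.ZN.ChoiceBase
open Cfsg.Agent.ZN.ChoiceSit (Syl)
open Cfsg.Agent.Omega.NTwo Cfsg.Agent.Omega.NO3S Cfsg.Agent.Omega.NO3S.Sym.Exit Cfsg.Agent.Omega.NO3S.Sym.Light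
open scoped Pointwise

universe u

variable {G : Type u} [Group G] [Finite G] {S : Sylow 2 G} {P : Subgroup G} {p : Fin 5 → G}

section

variable (h : FiveL S P p)
include h

/-- `N_G(V)` permutes the `p i` as `Sym(5)`. -/
theorem fv_N : Fv (normalizer (zl (S : Subgroup G) P : Set G)) p where
  ne := h.std.ne
  sq := h.std.sq
  comm := h.std.comm
  inj := h.std.inj
  prod := h.std.prod
  perm g hg := by
    choose f hf using fun a => MFive.Inst.heavy_of h (g := g) (i := a) ((mem_normalizer_iff.1 hg _).1 (h.p_mem a))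
    have hinj : Function.Injective f := by
      intro a b hab
      have h2 : g * p a * g⁻¹ = g * p b * g⁻¹ := by rw [hf, hf, hab]
      exact h.std.inj (conj_inj h2)
    refine ⟨Equiv.ofBijective _ (Finite.injective_iff_bijective.1 hinj), fun a => ?_⟩
    rw [Equiv.ofBijective_apply]
    exact hf a
  full σ := by
    obtain ⟨g, hg, h1⟩ := h.std.full σ
    exact ⟨g, le_normalizer_zl _ _ hg, h1⟩

/-- `U = ⟨V^(C_G(p 4))⟩` is abelian. -/
theorem U_comm : ∀ u ∈ DD (zl (S : Subgroup G) P) (p 4), ∀ v ∈ DD (zl (S : Subgroup G) P) (p 4), u * v = v * u := by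
  intro u hu v hv
  have h1 := NoFF.Basic.comm_mono h.W_comm h.W_le_CC h.W_le_CC
  exact (mem_centralizer_iff.1 (h1 hu) v hv).symm

theorem U_sq : ∀ u ∈ DD (zl (S : Subgroup G) P) (p 4), u * u = 1 := by
  intro u hu
  have h1 : u ^ 2 = 1 := by
    refine NoFF.Lines.Geo.sq_of_comm (A := DD (zl (S : Subgroup G) P) (p 4)) ?_ (ι := centralizer ({p 4} : Set G))
      (B := fun c => MulAut.conj (c : G) • zl (S : Subgroup G) P) (fun c => conj_le_DD (mem_cent.1 c.2))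
      le_rfl (fun c => NoFF.Lines.Geo.conj_sq (fun v hv => by rw [pow_two]; exact h.V_sq hv) _) u hu
    exact fun u hu => mem_centralizer_iff.2 fun v hv => U_comm h v hv u hu
  rwa [pow_two] at h1

omit h [Finite G] in
theorem V_le_U : zl (S : Subgroup G) P ≤ DD (zl (S : Subgroup G) P) (p 4) := le_DD

omit h [Finite G] in
theorem nU : centralizer ({p 4} : Set G) ≤ normalizer (DD (zl (S : Subgroup G) P) (p 4) : Set G) :=
  cent_le_normalizer_DD

theorem VV_eq : closure (Set.range p) = zl (S : Subgroup G) P := h.gen.symm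

/-- `C_D(p i) ≤ L*` for `i ≠ 4`. -/
theorem cen {Ls : Subgroup G} (hL : normalizer (zl (S : Subgroup G) P : Set G) ≤ Ls)
    (hX : centralizer {p 2, p 3, p 4} ≤ Ls) :
    ∀ i : Fin 5, i ≠ 4 → ∀ g ∈ centralizer ({nn p} : Set G) ⊓ centralizer ({aa p} : Set G), g * p i = p i * g →
      g ∈ Ls := by
  have key : ∀ g : G, g * p 4 = p 4 * g → g * p 3 = p 3 * g → g * p 2 = p 2 * g → g ∈ Ls := by
    intro g h4 h3 h2
    apply hX
    rw [mem_centralizer_iff]
    rintro y (rfl | rfl | rfl)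
    · exact h2.symm
    · exact h3.symm
    · exact h4.symm
  have key' : ∀ g : G, g * p 4 = p 4 * g → g * p 1 = p 1 * g → g * p 0 = p 0 * g → g ∈ Ls := by
    intro g g4 g1 g0
    -- conjugate by an element inducing `(0 2)(1 3)`
    obtain ⟨t, ht, h1⟩ := h.std.full (Equiv.swap 0 2 * Equiv.swap 1 3)
    have htL : t ∈ Ls := hL (MinSimple.VModule.le_normalizer_zl _ _ ht)
    have e0 : t * p 0 * t⁻¹ = p 2 := h1 0
    have e1 : t * p 1 * t⁻¹ = p 3 := h1 1
    have e4 : t * p 4 * t⁻¹ = p 4 := h1 4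
    have cj : ∀ {a b : G}, t * a * t⁻¹ = b → g * a = a * g → (t * g * t⁻¹) * b = b * (t * g * t⁻¹) := by
      rintro a b rfl ha
      calc t * g * t⁻¹ * (t * a * t⁻¹) = t * (g * a) * t⁻¹ := by group
        _ = t * (a * g) * t⁻¹ := by rw [ha]
        _ = _ := by group
    have h2 := key (t * g * t⁻¹) (cj e4 g4) (cj e1 g1) (cj e0 g0)
    have h3 := mul_mem (mul_mem (inv_mem htL) h2) htL
    have e : t⁻¹ * (t * g * t⁻¹) * t = g := by group
    rwa [e] at h3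
  rintro i hi g ⟨hgn, hga⟩ hgv
  have gn : g * (p 0 * p 1) = (p 0 * p 1) * g := mem_centralizer_singleton_iff.1 hgn
  have ga : g * (p 2 * p 3) = (p 2 * p 3) * g := mem_centralizer_singleton_iff.1 hga
  have g4 : g * p 4 = p 4 * g := by
    rw [← h.std.prod, ← mul_assoc, gn, mul_assoc, ga, ← mul_assoc]
  have two : ∀ {a b : G}, g * a = a * g → g * (a * b) = (a * b) * g → g * b = b * g := by
    intro a b ha hab
    have c1 : Commute g a := ha
    have c2 : Commute g (a * b) := hab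
    have c3 := c1.inv_right.mul_right c2
    rw [inv_mul_cancel_left] at c3
    exact c3.eq
  have gn' : g * (p 1 * p 0) = (p 1 * p 0) * g := by rw [h.std.comm 1 0]; exact gn
  have ga' : g * (p 3 * p 2) = (p 3 * p 2) * g := by rw [h.std.comm 3 2]; exact ga
  have hc : ∀ i : Fin 5, i ≠ 4 → i = 0 ∨ i = 1 ∨ i = 2 ∨ i = 3 := by decide
  rcases hc i hi with rfl | rfl | rfl | rfl
  · exact key' g g4 (two hgv gn) hgv
  · exact key' g g4 hgv (two hgv gn')
  · exact key g g4 (two hgv ga) hgv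
  · exact key g g4 hgv (two hgv ga')

end

end Cfsg.Agent.Omega.NO3S.LightFive.TwoAPlug

end

section


/-!
# LightL (E), `n = 5` (heads helper755, helper807): from a local group over `D`, `C_L(n)`, `C_L(a)` to `NLoc (KZ B ZJ)`

`V = V_P` = even subsets of five letters, `p 4 = z`, `n = nn p = p 0 p 1`, `a = aa p = p 2 p 3`, `(B, ZJ)` any level.

* `exists_perm` : `N_G(V)` permutes the heavy vectors;
* `exists_swap` : some `s ∈ S` induces `(0 1)` or `(2 3)`;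
* `mem_ZJ`, `B_eq`, `cent_ZJ` : `ZJ = {1, n, a, z}`, `B = T = C_S(n)`;
* `Z_cases`, `L_le_of_nn`, `L_le_of_aa` : the two blocks;
* `KZ_le`, `false_of_local`.
-/

set_option autoImplicit false
set_option linter.unusedSectionVars false
set_option linter.unusedVariables false

namespace Cfsg.Agent.Omega.NO3S.LightFive

open Subgroup Cfsg Cfsg.Agent.ZN Cfsg.Agent.ZN.ChoiceBase Cfsg.Agent.ZN.ChoiceSit
open Cfsg.Agent.Omega.NTwo
open Cfsg.Agent.Omega.NO3S.Sym.Exit (Five)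
open Cfsg.Agent.Omega.NO3S.Sym.Light (FiveL)
open Cfsg.Agent.Omega.Node.SymG (MulSG)
open Cfsg.Agent.Omega.Node.MultiOf (KZ NLoc FBl)
open Cfsg.Agent.Omega.NO3S.ESym (UniI)
open Cfsg.Agent.Omega.OM.Uni (FB)
open Cfsg.Agent.Omega.OM.LevD (LB)

universe u

variable {G : Type u} [Group G] [Finite G] {S : Sylow 2 G} {P : Subgroup G} {p : Fin 5 → G}

/-! ### Permutations -/

section perm

variable (h : FiveL S P p)
include h

/-- an element of `N_G(V)` permutes the heavy vectors -/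
theorem exists_perm {g : G} (hg : g ∈ normalizer (zl (S : Subgroup G) P : Set G)) :
    ∃ σ : Equiv.Perm (Fin 5), ∀ i, g * p i * g⁻¹ = p (σ i) := by
  have key : ∀ i, ∃ j, g * p i * g⁻¹ = p j := by
    intro i
    have h1 : g * p i * g⁻¹ ∈ zl (S : Subgroup G) P := (mem_normalizer_iff.1 hg _).1 (h.p_mem i)
    rcases h.elts h1 with e | ⟨j, e⟩ | ⟨j, k, hjk, e⟩
    · exfalso
      apply h.std.ne i
      calc p i = g⁻¹ * (g * p i * g⁻¹) * g := by group
        _ = 1 := by rw [e]; group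
    · exact ⟨j, e⟩
    · exfalso
      obtain ⟨x, -, hx⟩ := h.heavy i
      obtain ⟨y, -, hy⟩ := h.lights hjk
      apply h.not_conj (y⁻¹ * g * x)
      calc y⁻¹ * g * x * p 4 * (y⁻¹ * g * x)⁻¹ = y⁻¹ * (g * (x * p 4 * x⁻¹) * g⁻¹) * y := by group
        _ = y⁻¹ * (p j * p k) * y := by rw [hx, e]
        _ = nn p := by rw [← hy]; group
  choose f hf using key
  have hinj : Function.Injective f := by
    intro i j hij
    apply h.std.inj
    have h1 : g * p i * g⁻¹ = g * p j * g⁻¹ := by rw [hf, hf, hij]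
    exact conj_inj h1
  exact ⟨Equiv.ofBijective f (Finite.injective_iff_bijective.1 hinj), hf⟩

/-- an element of `S` with its permutation -/
theorem perm_S {s : G} (hs : s ∈ (S : Subgroup G)) :
    ∃ σ : Equiv.Perm (Fin 5), (∀ i, s * p i * s⁻¹ = p (σ i)) ∧ σ 4 = 4 ∧
      ((σ 0 = 0 ∧ σ 1 = 1) ∨ (σ 0 = 1 ∧ σ 1 = 0) ∨ (σ 0 = 2 ∧ σ 1 = 3) ∨ (σ 0 = 3 ∧ σ 1 = 2)) := by
  obtain ⟨σ, hσ⟩ := h.std.perm s (h.std.le hs)
  refine ⟨σ, hσ, ?_, ?_⟩
  · have h1 := h.std.fix s hs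
    rw [hσ] at h1
    exact h.std.inj h1
  · rcases h.std.part s hs with h1 | h1
    · rw [cm, hσ, hσ] at h1
      rcases h.std.pair_inj (fun e => absurd (σ.injective e) (by decide)) (by decide) h1 with h2 | h2
      · exact Or.inl h2
      · exact Or.inr (Or.inl h2)
    · rw [cm, hσ, hσ] at h1
      rcases h.std.pair_inj (fun e => absurd (σ.injective e) (by decide)) (by decide) h1 with h2 | h2
      · exact Or.inr (Or.inr (Or.inl h2))
      · exact Or.inr (Or.inr (Or.inr h2))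

omit h [Finite G] in
theorem key_swap : ∀ τ σ : Equiv.Perm (Fin 5), σ = τ * Equiv.swap 0 1 * τ⁻¹ → σ 4 = 4 →
    ((σ 0 = 0 ∧ σ 1 = 1) ∨ (σ 0 = 1 ∧ σ 1 = 0) ∨ (σ 0 = 2 ∧ σ 1 = 3) ∨ (σ 0 = 3 ∧ σ 1 = 2)) →
    σ = Equiv.swap 0 1 ∨ σ = Equiv.swap 2 3 := by
  intro τ
  have key : ∀ τ : Equiv.Perm (Fin 5), (fun σ : Equiv.Perm (Fin 5) => σ 4 = 4 →
    ((σ 0 = 0 ∧ σ 1 = 1) ∨ (σ 0 = 1 ∧ σ 1 = 0) ∨ (σ 0 = 2 ∧ σ 1 = 3) ∨ (σ 0 = 3 ∧ σ 1 = 2)) →
    σ = Equiv.swap 0 1 ∨ σ = Equiv.swap 2 3) (τ * Equiv.swap 0 1 * τ⁻¹) := by decide +kernel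
  rintro σ rfl
  exact key τ

/-- some element of `S` induces `(0 1)` or `(2 3)` -/
theorem exists_swap : ∃ s ∈ (S : Subgroup G), (∀ i, s * p i * s⁻¹ = p (Equiv.swap 0 1 i)) ∨
    (∀ i, s * p i * s⁻¹ = p (Equiv.swap 2 3 i)) := by
  have hp2 : Fact (Nat.Prime 2) := ⟨Nat.prime_two⟩
  obtain ⟨g, hg, hgσ⟩ := h.std.full (Equiv.swap 0 1)
  -- a 2-element inducing `(0 1)`
  obtain ⟨w, hwP, hwσ, hw2⟩ : ∃ w ∈ P, (∀ i, w * p i * w⁻¹ = p (Equiv.swap 0 1 i)) ∧ IsPGroup 2 (zpowers w) := by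
    obtain ⟨m, hm, a, ha⟩ : ∃ m, Odd m ∧ ∃ a, orderOf g = 2 ^ a * m := by
      have h0 : orderOf g ≠ 0 := (orderOf_pos g).ne'
      obtain ⟨a, m, hm, e⟩ := Nat.exists_eq_two_pow_mul_odd h0
      exact ⟨m, hm, a, e⟩
    have hpow : ∀ k : ℕ, ∀ i, g ^ k * p i * (g ^ k)⁻¹ = p ((Equiv.swap 0 1 ^ k : Equiv.Perm (Fin 5)) i) := by
      intro k
      induction k with
      | zero => intro i; simp
      | succ k ih =>
        intro i
        calc g ^ (k + 1) * p i * (g ^ (k + 1))⁻¹ = g ^ k * (g * p i * g⁻¹) * (g ^ k)⁻¹ := by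
              rw [pow_succ]; group
          _ = _ := by rw [hgσ, ih, pow_succ, Equiv.Perm.mul_apply]
    refine ⟨g ^ m, pow_mem hg m, ?_, ?_⟩
    · obtain ⟨b, rfl⟩ := hm
      have e : (Equiv.swap 0 1 ^ (2 * b + 1) : Equiv.Perm (Fin 5)) = Equiv.swap 0 1 := by
        rw [pow_succ, pow_mul, sq, Equiv.swap_mul_self, one_pow, one_mul]
      intro i
      rw [hpow, e]
    · have e : orderOf (g ^ m) = 2 ^ a := by
        rw [orderOf_pow, ha, Nat.gcd_eq_right (Dvd.intro_left _ rfl)]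
        exact Nat.mul_div_cancel _ hm.pos
      rw [IsPGroup.iff_card]
      exact ⟨a, by rw [Nat.card_zpowers, e]⟩
  -- into `S`
  obtain ⟨x, hx, hxS⟩ : ∃ x ∈ P, x * w * x⁻¹ ∈ (S : Subgroup G) := by
    have hsyl : Syl (S : Subgroup G) P := by
      refine ⟨h.std.le, S.isPGroup', fun Q _ hQ h2 => ?_⟩
      exact S.is_maximal' hQ h2
    obtain ⟨R, hR, hwR⟩ := exists_syl (X := P) hw2 (zpowers_le.2 hwP)
    obtain ⟨x, hx, e⟩ := syl_conj hR hsyl
    refine ⟨x, hx, ?_⟩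
    rw [← e]
    exact ⟨w, hwR (mem_zpowers w), rfl⟩
  obtain ⟨τ, hτ⟩ := h.std.perm x hx
  obtain ⟨σ, hσ, h4, h01⟩ := perm_S h hxS
  have hc : ∀ i, x * w * x⁻¹ * p i * (x * w * x⁻¹)⁻¹ = p ((τ * Equiv.swap 0 1 * τ⁻¹ : Equiv.Perm (Fin 5)) i) := by
    intro i
    have e1 : x⁻¹ * p i * x = p (τ⁻¹ i) := by
      have h1 := hτ (τ⁻¹ i)
      have h2 : τ (τ⁻¹ i) = i := τ.apply_symm_apply i
      rw [h2] at h1
      rw [← h1]; group
    calc x * w * x⁻¹ * p i * (x * w * x⁻¹)⁻¹ = x * (w * (x⁻¹ * p i * x) * w⁻¹) * x⁻¹ := by group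
      _ = _ := by rw [e1, hwσ, hτ]; rfl
  have e : σ = τ * Equiv.swap 0 1 * τ⁻¹ := by
    ext i
    exact congrArg _ (h.std.inj ((hσ i).symm.trans (hc i)))
  rcases key_swap τ σ e h4 h01 with h5 | h5
  · exact ⟨_, hxS, Or.inl fun i => by rw [hσ, h5]⟩
  · exact ⟨_, hxS, Or.inr fun i => by rw [hσ, h5]⟩

end perm

/-! ### `ZJ` -/

section zj

theorem key_fix : ∀ β : Equiv.Perm (Fin 5), β 4 = 4 →
    ((β 0 = 0 ∧ β 1 = 1) ∨ (β 0 = 1 ∧ β 1 = 0) ∨ (β 0 = 2 ∧ β 1 = 3) ∨ (β 0 = 3 ∧ β 1 = 2)) →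
    ∀ a c : Fin 5, (a = 0 ∨ a = 1) → (c = 2 ∨ c = 3) → β a = a → β c = c → β = 1 := by
  decide +kernel

theorem key_pair1 : ∀ β : Equiv.Perm (Fin 5), ∀ a c : Fin 5, (β 4 = 4 ∧
    ((β 0 = 0 ∧ β 1 = 1) ∨ (β 0 = 1 ∧ β 1 = 0) ∨ (β 0 = 2 ∧ β 1 = 3) ∨ (β 0 = 3 ∧ β 1 = 2)) ∧
    (a = 0 ∨ a = 1) ∧ (c = 2 ∨ c = 3) ∧ ((β a = a ∧ β c = c) ∨ (β a = c ∧ β c = a)) ∧
    ((β (Equiv.swap 0 1 a) = Equiv.swap 0 1 a ∧ β (Equiv.swap 0 1 c) = Equiv.swap 0 1 c) ∨
      (β (Equiv.swap 0 1 a) = Equiv.swap 0 1 c ∧ β (Equiv.swap 0 1 c) = Equiv.swap 0 1 a))) → β = 1 := by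
  decide +kernel

theorem key_pair2 : ∀ β : Equiv.Perm (Fin 5), ∀ a c : Fin 5, (β 4 = 4 ∧
    ((β 0 = 0 ∧ β 1 = 1) ∨ (β 0 = 1 ∧ β 1 = 0) ∨ (β 0 = 2 ∧ β 1 = 3) ∨ (β 0 = 3 ∧ β 1 = 2)) ∧
    (a = 0 ∨ a = 1) ∧ (c = 2 ∨ c = 3) ∧ ((β a = a ∧ β c = c) ∨ (β a = c ∧ β c = a)) ∧
    ((β (Equiv.swap 2 3 a) = Equiv.swap 2 3 a ∧ β (Equiv.swap 2 3 c) = Equiv.swap 2 3 c) ∨
      (β (Equiv.swap 2 3 a) = Equiv.swap 2 3 c ∧ β (Equiv.swap 2 3 c) = Equiv.swap 2 3 a))) → β = 1 := by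
  decide +kernel

theorem key_pair (β : Equiv.Perm (Fin 5)) (h4 : β 4 = 4)
    (h01 : (β 0 = 0 ∧ β 1 = 1) ∨ (β 0 = 1 ∧ β 1 = 0) ∨ (β 0 = 2 ∧ β 1 = 3) ∨ (β 0 = 3 ∧ β 1 = 2))
    (a c : Fin 5) (ha : a = 0 ∨ a = 1) (hc : c = 2 ∨ c = 3) (h1 : (β a = a ∧ β c = c) ∨ (β a = c ∧ β c = a))
    (τ : Equiv.Perm (Fin 5)) (hτ : τ = Equiv.swap 0 1 ∨ τ = Equiv.swap 2 3)
    (h2 : (β (τ a) = τ a ∧ β (τ c) = τ c) ∨ (β (τ a) = τ c ∧ β (τ c) = τ a)) : β = 1 := by
  rcases hτ with rfl | rfl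
  · exact key_pair1 β a c ⟨h4, h01, ha, hc, h1, h2⟩
  · exact key_pair2 β a c ⟨h4, h01, ha, hc, h1, h2⟩

variable (h : FiveL S P p) {K' B ZJ : Subgroup G} {ι : Type} {L W Z C : ι → Subgroup G} {k m : ℕ}
  (hM : MulSG S P K' B ZJ L W Z C k m)
include h hM

theorem S_norm_ZJ {s x : G} (hs : s ∈ (S : Subgroup G)) (hx : x ∈ ZJ) : s * x * s⁻¹ ∈ ZJ := by
  have h1 := hM.lb.nrm (S : Subgroup G) S.isPGroup' (hM.lb.KB.trans (hM.lb.eqB.le.trans inf_le_left))
  exact (mem_normalizer_iff.1 (h1 (Subgroup.le_normalizer hs)) x).1 hx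

theorem four_mem_ZJ : p 4 ∈ ZJ := by
  refine (hM.fr.mem_ZJ _).2 ⟨h.p_mem 4, fun b hb => ?_⟩
  have hbS : b ∈ (S : Subgroup G) := by
    have := hM.lb.eqB ▸ hb
    exact (mem_inf.1 this).1
  exact comm_iff.1 (h.std.fix b hbS)

/-- some `b ∈ B` acts nontrivially -/
theorem exists_moving_B [Nonempty ι] : ∃ b ∈ B, ∃ β : Equiv.Perm (Fin 5), (∀ i, b * p i * b⁻¹ = p (β i)) ∧ β 4 = 4 ∧
    ((β 0 = 0 ∧ β 1 = 1) ∨ (β 0 = 1 ∧ β 1 = 0) ∨ (β 0 = 2 ∧ β 1 = 3) ∨ (β 0 = 3 ∧ β 1 = 2)) ∧ β ≠ 1 := by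
  obtain ⟨i⟩ := ‹Nonempty ι›
  obtain ⟨b, hb, v, hv, hne⟩ := (hM.fr.blk i).ne
  have hbS : b ∈ (S : Subgroup G) := by
    have := hM.lb.eqB ▸ hb
    exact (mem_inf.1 this).1
  obtain ⟨β, hβ, h4, h01⟩ := perm_S h hbS
  refine ⟨b, hb, β, hβ, h4, h01, ?_⟩
  rintro rfl
  apply hne
  have hvV : v ∈ zl (S : Subgroup G) P := hM.fr.WV i hv
  rw [h.gen] at hvV
  have h1 : b ∈ centralizer (closure (Set.range p) : Set G) := by
    rw [centralizer_closure, mem_centralizer_iff]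
    rintro _ ⟨j, rfl⟩
    exact (comm_iff.1 (hβ j)).symm
  exact (mem_centralizer_iff.1 h1 v hvV).symm

/-- no heavy vector besides `z` in `ZJ` -/
theorem not_mem_ZJ [Nonempty ι] {a : Fin 5} (ha : a ≠ 4) : p a ∉ ZJ := by
  intro hmem
  obtain ⟨b, hb, β, hβ, h4, h01, hne⟩ := exists_moving_B h hM
  obtain ⟨τ, hτS, hτ⟩ := h.std.tau
  obtain ⟨σ, hσ, s4, s01⟩ := perm_S h hτS
  have hfix : ∀ c, p c ∈ ZJ → β c = c := by
    intro c hc
    have h1 := ((hM.fr.mem_ZJ _).1 hc).2 b hb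
    apply h.std.inj
    rw [← hβ, comm_iff.2 h1]
  have h1 := hfix a hmem
  have h2 : p (σ a) ∈ ZJ := by
    rw [← hσ]
    exact S_norm_ZJ h hM hτS hmem
  have h3 := hfix _ h2
  have h5 : (σ 0 = 2 ∧ σ 1 = 3) ∨ (σ 0 = 3 ∧ σ 1 = 2) := by
    rw [cm, hσ, hσ] at hτ
    exact h.std.pair_inj (fun e => absurd (σ.injective e) (by decide)) (by decide) hτ
  have key : ∀ σ : Equiv.Perm (Fin 5), σ 4 = 4 → ((σ 0 = 2 ∧ σ 1 = 3) ∨ (σ 0 = 3 ∧ σ 1 = 2)) → ∀ a : Fin 5, a ≠ 4 →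
      ((a = 0 ∨ a = 1) ∧ (σ a = 2 ∨ σ a = 3)) ∨ ((σ a = 0 ∨ σ a = 1) ∧ (a = 2 ∨ a = 3)) := by decide +kernel
  rcases key σ s4 h5 a ha with ⟨h6, h7⟩ | ⟨h6, h7⟩
  · exact hne (key_fix β h4 h01 a (σ a) h6 h7 h1 h3)
  · exact hne (key_fix β h4 h01 (σ a) a h6 h7 h3 h1)

/-- no crossing pair in `ZJ` -/
theorem not_mem_ZJ' [Nonempty ι] {a c : Fin 5} (ha : a = 0 ∨ a = 1) (hc : c = 2 ∨ c = 3) : p a * p c ∉ ZJ := by
  intro hmem
  obtain ⟨b, hb, β, hβ, h4, h01, hne⟩ := exists_moving_B h hM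
  have hac : a ≠ c := by rcases ha with rfl | rfl <;> rcases hc with rfl | rfl <;> decide
  have hfix : ∀ c d, c ≠ d → p c * p d ∈ ZJ → (β c = c ∧ β d = d) ∨ (β c = d ∧ β d = c) := by
    intro c d hcd hc
    have h1 := comm_iff.2 (((hM.fr.mem_ZJ _).1 hc).2 b hb)
    rw [cm, hβ, hβ] at h1
    exact h.std.pair_inj (fun e => hcd (β.injective e)) hcd h1
  obtain ⟨s, hs, hsw⟩ := exists_swap h
  obtain ⟨τ, hτ, hτσ⟩ : ∃ τ : Equiv.Perm (Fin 5), (τ = Equiv.swap 0 1 ∨ τ = Equiv.swap 2 3) ∧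
      ∀ i, s * p i * s⁻¹ = p (τ i) := by
    rcases hsw with h1 | h1
    · exact ⟨_, Or.inl rfl, h1⟩
    · exact ⟨_, Or.inr rfl, h1⟩
  have h2 : p (τ a) * p (τ c) ∈ ZJ := by
    have := S_norm_ZJ h hM hs hmem
    rwa [cm, hτσ, hτσ] at this
  exact hne (key_pair β h4 h01 a c ha hc (hfix a c hac hmem) τ hτ
    (hfix _ _ (fun e => hac (τ.injective e)) h2))

/-- **`ZJ ≤ {1, n, a, z}`** -/
theorem ZJ_sub [Nonempty ι] {x : G} (hx : x ∈ ZJ) : x = 1 ∨ x = nn p ∨ x = aa p ∨ x = p 4 := by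
  rcases h.elts (hM.fr.ZJV hx) with e | ⟨i, e⟩ | ⟨i, j, hij, e⟩
  · exact Or.inl e
  · by_cases hi : i = 4
    · subst hi
      exact Or.inr (Or.inr (Or.inr e))
    · exact absurd (e ▸ hx) (not_mem_ZJ h hM hi)
  · have h4 := four_mem_ZJ h hM
    have hswap : ∀ a c : Fin 5, p a * p c ∈ ZJ → p c * p a ∈ ZJ := fun a c hac => by rwa [h.std.comm c a]
    have hmul : ∀ a : Fin 5, p a * p 4 ∈ ZJ → p a ∈ ZJ := by
      intro a hac
      have := mul_mem hac h4
      rwa [mul_assoc, h.std.sq, mul_one] at this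
    rw [e] at hx
    have key : ∀ i j : Fin 5, i ≠ j → (i ≠ 4 ∧ j = 4) ∨ (i = 4 ∧ j ≠ 4) ∨ (i = 0 ∧ j = 1) ∨ (i = 1 ∧ j = 0) ∨
        (i = 2 ∧ j = 3) ∨ (i = 3 ∧ j = 2) ∨ ((i = 0 ∨ i = 1) ∧ (j = 2 ∨ j = 3)) ∨
        ((j = 0 ∨ j = 1) ∧ (i = 2 ∨ i = 3)) := by decide
    rcases key i j hij with ⟨h1, rfl⟩ | ⟨rfl, h1⟩ | ⟨rfl, rfl⟩ | ⟨rfl, rfl⟩ | ⟨rfl, rfl⟩ | ⟨rfl, rfl⟩ | ⟨h1, h2⟩ |
      ⟨h1, h2⟩
    · exact absurd (hmul i hx) (not_mem_ZJ h hM h1)
    · exact absurd (hmul j (hswap _ _ hx)) (not_mem_ZJ h hM h1)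
    · exact Or.inr (Or.inl e)
    · exact Or.inr (Or.inl (e.trans (h.std.comm 1 0)))
    · exact Or.inr (Or.inr (Or.inl e))
    · exact Or.inr (Or.inr (Or.inl (e.trans (h.std.comm 3 2))))
    · exact absurd hx (not_mem_ZJ' h hM h1 h2)
    · exact absurd (hswap _ _ hx) (not_mem_ZJ' h hM h1 h2)

/-- `Z i` is generated by one involution -/
theorem exists_z (i : ι) : ∃ z, z ≠ 1 ∧ z * z = 1 ∧ Z i = zpowers z := by
  have hp2 : Fact (Nat.Prime 2) := ⟨Nat.prime_two⟩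
  have hc := hM.fr.cardZ i
  have : Nontrivial (Z i) := by
    rw [← Finite.one_lt_card_iff_nontrivial, hc]
    norm_num
  obtain ⟨⟨z, hz⟩, hz1⟩ := exists_ne (1 : Z i)
  have hz1' : z ≠ 1 := fun e => hz1 (Subtype.ext e)
  have hzz : z * z = 1 := by
    have := hM.fr.Vsq (hM.fr.ZV i hz)
    rwa [sq] at this
  refine ⟨z, hz1', hzz, (Subgroup.eq_of_le_of_card_ge (zpowers_le.2 hz) ?_).symm⟩
  rw [hc, Nat.card_zpowers, orderOf_eq_prime (by rw [sq]; exact hzz) hz1']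

omit h hM [Finite G] in
theorem mem_zp {z x : G} (hz : z * z = 1) (hx : x ∈ zpowers z) : x = 1 ∨ x = z := by
  obtain ⟨n, rfl⟩ := mem_zpowers_iff.1 hx
  rcases Int.even_or_odd' n with ⟨k, rfl | rfl⟩
  · left
    rw [zpow_mul, zpow_ofNat, sq, hz, one_zpow]
  · right
    rw [zpow_add, zpow_mul, zpow_ofNat, sq, hz, one_zpow, one_mul, zpow_one]

theorem Z_inf {i j : ι} (hij : i ≠ j) : Z i ⊓ Z j = ⊥ := by
  rw [eq_bot_iff, ← hM.fr.dir i]
  exact inf_le_inf (hM.fr.blk i).ZV (((hM.fr.blk j).ZV).trans (hM.fr.WjC i j hij))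

/-- **`ZJ = {1, n, a, z}`** -/
theorem mem_ZJ [Nonempty ι] {x : G} : x ∈ ZJ ↔ x = 1 ∨ x = nn p ∨ x = aa p ∨ x = p 4 := by
  have h4 := four_mem_ZJ h hM
  obtain ⟨i⟩ := ‹Nonempty ι›
  obtain ⟨j, hji⟩ := hM.two i
  have hna : nn p ∈ ZJ ∨ aa p ∈ ZJ := by
    obtain ⟨z, hz1, hzz, hZ⟩ := exists_z h hM i
    obtain ⟨w, hw1, hww, hZ'⟩ := exists_z h hM j
    have hz : z ∈ ZJ := hM.fr.Z_le i (hZ ▸ mem_zpowers z)
    have hw : w ∈ ZJ := hM.fr.Z_le j (hZ' ▸ mem_zpowers w)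
    have hne : z ≠ w := by
      rintro rfl
      have h1 : z ∈ Z i ⊓ Z j := mem_inf.2 ⟨hZ ▸ mem_zpowers z, hZ' ▸ mem_zpowers z⟩
      rw [Z_inf h hM (Ne.symm hji), mem_bot] at h1
      exact hz1 h1
    rcases ZJ_sub h hM hz with e | e | e | e
    · exact absurd e hz1
    · exact Or.inl (e ▸ hz)
    · exact Or.inr (e ▸ hz)
    · rcases ZJ_sub h hM hw with e' | e' | e' | e'
      · exact absurd e' hw1
      · exact Or.inl (e' ▸ hw)
      · exact Or.inr (e' ▸ hw)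
      · exact absurd (e.trans e'.symm) hne
  have hn : nn p ∈ ZJ := by
    rcases hna with h1 | h1
    · exact h1
    · have := mul_mem h1 h4
      have e : aa p * p 4 = nn p := by
        rw [← h.std.an, ← mul_assoc, h.std.asq, one_mul]
      rwa [e] at this
  have ha : aa p ∈ ZJ := by
    rw [h.std.a_eq]
    exact mul_mem hn h4
  refine ⟨ZJ_sub h hM, ?_⟩
  rintro (rfl | rfl | rfl | rfl)
  exacts [one_mem _, hn, ha, h4]

theorem cent_ZJ [Nonempty ι] : centralizer (ZJ : Set G) = centralizer ({nn p, aa p} : Set G) := by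
  ext g
  rw [mem_centralizer_iff, mem_centralizer_iff]
  constructor
  · intro hg x hx
    apply hg
    rcases hx with rfl | hx
    · exact (mem_ZJ h hM).2 (Or.inr (Or.inl rfl))
    · rw [Set.mem_singleton_iff] at hx
      subst hx
      exact (mem_ZJ h hM).2 (Or.inr (Or.inr (Or.inl rfl)))
  · intro hg x hx
    have hn := hg (nn p) (by simp)
    have ha := hg (aa p) (by simp)
    rcases (mem_ZJ h hM).1 hx with rfl | rfl | rfl | rfl
    · rw [one_mul, mul_one]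
    · exact hn
    · exact ha
    · rw [← h.std.na, mul_assoc, ha, ← mul_assoc, hn, mul_assoc]

/-- **`B = T = C_S(n)`** -/
theorem B_eq [Nonempty ι] : B = Std.T (S : Subgroup G) p := by
  rw [hM.lb.eqB, cent_ZJ h hM]
  apply le_antisymm
  · refine le_inf inf_le_left (inf_le_right.trans (centralizer_le ?_))
    simp
  · intro s hs
    obtain ⟨h1, h2⟩ := Std.mem_T.1 hs
    refine mem_inf.2 ⟨h1, mem_centralizer_iff.2 ?_⟩
    have hn : nn p * s = s * nn p := (comm_iff.1 h2).symm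
    rintro x (rfl | hx)
    · exact hn
    · rw [Set.mem_singleton_iff] at hx
      subst hx
      have h4 : p 4 * s = s * p 4 := (comm_iff.1 (h.std.fix s h1)).symm
      rw [h.std.a_eq, mul_assoc, h4, ← mul_assoc, hn, mul_assoc]

end zj

/-! ### The blocks -/

section blocks

variable (h : FiveL S P p) {K' B ZJ : Subgroup G} {ι : Type} {L W Z C : ι → Subgroup G} {k m : ℕ}
  (hM : MulSG S P K' B ZJ L W Z C k m)
include h hM

/-- `Z i = ⟨n⟩` or `⟨a⟩` -/
theorem Z_cases (i : ι) : Z i = zpowers (nn p) ∨ Z i = zpowers (aa p) := by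
  have hne : Nonempty ι := ⟨i⟩
  obtain ⟨z, hz1, hzz, hZ⟩ := exists_z h hM i
  have hzZ : z ∈ Z i := hZ ▸ mem_zpowers z
  rcases (mem_ZJ h hM).1 (hM.fr.Z_le i hzZ) with e | e | e | e
  · exact absurd e hz1
  · exact Or.inl (e ▸ hZ)
  · exact Or.inr (e ▸ hZ)
  exfalso
  have hb := hM.fr.blk i
  obtain ⟨l, hl, hlne, -⟩ := hb.exists_mv
  -- `w = l z l⁻¹` is heavy, not in `Z i`
  have hlN : ∀ v ∈ zl (S : Subgroup G) P, l * v * l⁻¹ ∈ zl (S : Subgroup G) P := hM.fr.LV i l hl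
  have hheavy : ∀ g : G, g * z * g⁻¹ ∈ zl (S : Subgroup G) P → ∃ j, g * z * g⁻¹ = p j := by
    intro g hg
    rcases h.elts hg with e1 | ⟨j, e1⟩ | ⟨j, j', hjj, e1⟩
    · exfalso
      apply hz1
      calc z = g⁻¹ * (g * z * g⁻¹) * g := by group
        _ = 1 := by rw [e1]; group
    · exact ⟨j, e1⟩
    · exfalso
      obtain ⟨y, -, hy⟩ := h.lights hjj
      apply h.not_conj (y⁻¹ * g)
      calc y⁻¹ * g * p 4 * (y⁻¹ * g)⁻¹ = y⁻¹ * (g * z * g⁻¹) * y := by rw [e]; group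
        _ = y⁻¹ * (p j * p j') * y := by rw [e1]
        _ = nn p := by rw [← hy]; group
  have hzV : z ∈ zl (S : Subgroup G) P := hM.fr.ZV i hzZ
  obtain ⟨j, hj⟩ := hheavy l (hlN z hzV)
  have hwW : p j ∈ W i := by
    rw [← hj]
    exact hb.nV l hl z (hb.ZV hzZ)
  have hwZ : p j ∉ Z i := by
    intro hw
    apply hlne
    refine Subgroup.eq_of_le_of_card_ge ?_ (by rw [card_cj])
    rw [hZ]
    rintro _ ⟨x, hx, rfl⟩
    rcases mem_zp hzz hx with e1 | e1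
    · subst e1
      simp
    · rw [hZ] at hw
      have h5 : l * z * l⁻¹ ∈ zpowers z := by rw [hj]; exact hw
      have h6 : l * x * l⁻¹ ∈ zpowers z := by rw [e1]; exact h5
      exact h6
  -- `b` moves `w`
  obtain ⟨b, hb1, hb2⟩ : ∃ b ∈ B, b * p j ≠ p j * b := by
    by_contra hcon
    push Not at hcon
    exact hwZ (hb.toMd.mem_Z_iff.2 ⟨hwW, hcon⟩)
  have hcom := hb.toMd.com b hb1 _ hwW
  rw [hZ] at hcom
  rcases mem_zp hzz hcom with e1 | e1
  · exact hb2 (comm_iff.1 (mul_inv_eq_one.1 e1))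
  · have h1 : b * p j * b⁻¹ = z * p j := mul_inv_eq_iff_eq_mul.1 e1
    have h2 : (b * l) * z * (b * l)⁻¹ = z * p j := by
      rw [← h1, ← hj]; group
    have h3 : (b * l) * z * (b * l)⁻¹ ∈ zl (S : Subgroup G) P := by
      rw [h2]
      exact mul_mem hzV (h.p_mem j)
    obtain ⟨j', hj'⟩ := hheavy _ h3
    rw [h2, e] at hj'
    have hj4 : (4 : Fin 5) ≠ j := by
      rintro rfl
      apply hwZ
      rw [← e]
      exact hzZ
    exact h.std.mul_ne hj4 j' hj'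

/-- `L i ≤ N_G(V)` -/
theorem L_le_norm (i : ι) : L i ≤ normalizer (zl (S : Subgroup G) P : Set G) := by
  intro l hl
  rw [mem_normalizer_iff_cj]
  refine Subgroup.eq_of_le_of_card_ge ?_ (by rw [card_cj])
  rintro _ ⟨x, hx, rfl⟩
  exact hM.fr.LV i l hl x hx

/-- the block of `n` centralises `a` -/
theorem L_le_of_nn {i : ι} (hi : Z i = zpowers (nn p)) : L i ≤ centralizer ({aa p} : Set G) := by
  have hne : Nonempty ι := ⟨i⟩
  obtain ⟨j, hji⟩ := hM.two i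
  have hj : Z j = zpowers (aa p) := by
    rcases Z_cases h hM j with h1 | h1
    · exfalso
      have h2 := Z_inf h hM hji
      rw [h1, hi, inf_idem] at h2
      exact h.std.n_ne_one (zpowers_eq_bot.1 h2)
    · exact h1
  have haC : aa p ∈ C i := (((hM.fr.blk j).ZV).trans (hM.fr.WjC i j hji.symm)) (hj ▸ mem_zpowers _)
  intro l hl
  rw [mem_cent, comm_iff]
  exact hM.fr.LC i l hl _ ((mem_ZJ h hM).2 (Or.inr (Or.inr (Or.inl rfl)))) haC

/-- the block of `a` centralises `n` -/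
theorem L_le_of_aa {i : ι} (hi : Z i = zpowers (aa p)) : L i ≤ centralizer ({nn p} : Set G) := by
  have hne : Nonempty ι := ⟨i⟩
  obtain ⟨j, hji⟩ := hM.two i
  have hj : Z j = zpowers (nn p) := by
    rcases Z_cases h hM j with h1 | h1
    · exact h1
    · exfalso
      have h2 := Z_inf h hM hji
      rw [h1, hi, inf_idem] at h2
      exact h.std.a_ne_one (zpowers_eq_bot.1 h2)
  have haC : nn p ∈ C i := (((hM.fr.blk j).ZV).trans (hM.fr.WjC i j hji.symm)) (hj ▸ mem_zpowers _)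
  intro l hl
  rw [mem_cent, comm_iff]
  exact hM.fr.LC i l hl _ ((mem_ZJ h hM).2 (Or.inr (Or.inl rfl))) haC

/-- every block lies in `C_L(n)` or `C_L(a)` -/
theorem L_le_sup (i : ι) : L i ≤ (normalizer (zl (S : Subgroup G) P : Set G) ⊓ centralizer ({nn p} : Set G)) ⊔
    (normalizer (zl (S : Subgroup G) P : Set G) ⊓ centralizer ({aa p} : Set G)) := by
  rcases Z_cases h hM i with h1 | h1
  · exact (le_inf (L_le_norm h hM i) (L_le_of_nn h hM h1)).trans le_sup_right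
  · exact (le_inf (L_le_norm h hM i) (L_le_of_aa h hM h1)).trans le_sup_left

/-- **`KZ B ZJ ≤ ⟨D, C_L(n), C_L(a)⟩`**, `D = C_G(n, a)`, `L = N_G(V)`. -/
theorem KZ_le [Nonempty ι] (uni : UniI B ZJ L W) : KZ B ZJ ≤ centralizer ({nn p, aa p} : Set G) ⊔
    ((normalizer (zl (S : Subgroup G) P : Set G) ⊓ centralizer ({nn p} : Set G)) ⊔
      (normalizer (zl (S : Subgroup G) P : Set G) ⊓ centralizer ({aa p} : Set G))) := by
  refine sup_le ((cent_ZJ h hM).le.trans le_sup_left) (iSup_le fun x => ?_)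
  obtain ⟨i, -, h2⟩ := uni _ _ x.2
  refine h2.trans (sup_le ((L_le_sup h hM i).trans le_sup_right) ?_)
  refine (centralizer_le ?_).trans ((cent_ZJ h hM).le.trans le_sup_left)
  exact fun v hv => (le_sup_right : ZJ ≤ W i ⊔ ZJ) hv

/-- **The end of (E), light case**: no nontrivial 2-group is normalised by `D`, `C_L(n)`, `C_L(a)`. -/
theorem false_of_local [Nonempty ι] (uni : UniI B ZJ L W) (hN : NLoc (KZ B ZJ)) {N : Subgroup G}
    (h2 : IsPGroup 2 N) (hne : N ≠ ⊥) (hD : centralizer ({nn p, aa p} : Set G) ≤ normalizer (N : Set G))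
    (h1 : normalizer (zl (S : Subgroup G) P : Set G) ⊓ centralizer ({nn p} : Set G) ≤ normalizer (N : Set G))
    (h3 : normalizer (zl (S : Subgroup G) P : Set G) ⊓ centralizer ({aa p} : Set G) ≤ normalizer (N : Set G)) :
    False :=
  hne (hN N h2 ((KZ_le h hM uni).trans (sup_le hD (sup_le h1 h3))))

end blocks

end Cfsg.Agent.Omega.NO3S.LightFive

end

end

-- merged: Cfsg.Agent.Mrg.Omega.NO3S.LightFive.OnePF
section

section


/-!
# LightL (E), `n = 5`: (1') over `FiveL S P p` (LEMMA (1'U), helper433 #26100)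

`D = C_G(n) ∩ C_G(a)`, `V = zl S P = zc (o2 P)`, `T = Std.T S p`.

* `lt` : 586's letters `Lt (zv p) P`;
* `O_le`, `O_cent` : `O₂(C_G(z_a z_b, z_c z_d)) ≤ P`, its centraliser of `V` is in `O₂(P)`;
* `DD_ij` : `⟨V^{C_G(p i p j)}⟩` is elementary abelian;
* `one`, `one'` : if some `A ∈ AA (o2 D)` moves `V`, then for every `R ∈ P(D, T)` every `R`-invariant `M ≤ ⟨V^R⟩`
  centralised by `O₂(R)` is centralised by `O²(R)`.
-/

set_option autoImplicit false
set_option linter.unusedSectionVars false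

namespace Cfsg.Agent.Omega.NO3S.LightFive.OnePF

open Subgroup Cfsg Cfsg.Agent.ZN Cfsg.Agent.ZN.ChoiceBase
open Cfsg.Agent.ZN.ChoiceSit (Syl o2_cj o2_le_syl)
open Cfsg.Agent.Omega.NTwo Cfsg.Agent.Omega.NO3S.Sym.Exit Cfsg.Agent.Omega.NO3S.Sym.Light
open Cfsg.Agent.Omega.NO3S.TwoA (Dd Lt Sh Dd_symm)
open Cfsg.Agent.Omega.NO3S.TwoJ (UR)
open Cfsg.Agent.Omega.NO3S.LightFive.OneP (Memb)
open Cfsg.Agent.Omega.NO3S.MFive.Inst (zv)
open Cfsg.Agent.Omega.NO3S.MFive (perm_four)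
open Cfsg.Agent.MinSimple.MinParabolic (IsMinPar)
open Cfsg.Agent.MinSimple.VModule (oddGen)

universe u

variable {G : Type u} [Group G]

theorem Dd_zv (p : Fin 5 → G) :
    Dd (zv p) 1 2 3 4 = centralizer ({nn p} : Set G) ⊓ centralizer ({aa p} : Set G) := by
  ext x
  simp only [Dd, mem_centralizer_iff, mem_inf, Set.mem_insert_iff, Set.mem_singleton_iff, forall_eq_or_imp, forall_eq]
  rfl

variable [Finite G] {S : Sylow 2 G} {P : Subgroup G} {p : Fin 5 → G} (h : FiveL S P p)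
include h

local notation "VV" => zl (S : Subgroup G) P

theorem O_le_T : o2 (Dd (zv p) 1 2 3 4) ≤ Std.T (S : Subgroup G) p := by
  rw [Dd_zv]
  exact o2_le_syl (LightB.sylD h)

theorem lt : Lt (zv p) P where
  sq := (MFive.Inst.zfv h).sq
  comm := (MFive.Inst.zfv h).comm
  prod := MFive.Inst.prod_z h
  inj := (MFive.Inst.zfv h).inj
  ne1 := (MFive.Inst.zfv h).ne
  act := fun g hg => (MFive.Inst.zfv h).perm g hg
  full := fun σ => (MFive.Inst.zfv h).full σ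
  VO := fun a => by
    rw [Dd_zv]
    exact LightB.DD_le_o2D h (le_DD (h.p_mem _))
  OL := (O_le_T h).trans (Std.T_le.trans h.std.le)

theorem z_mem (i : Fin 5) : zv p i ∈ VV := h.p_mem _

/-- `O₂(C_G(z_a z_b, z_c z_d))` is conjugate in `P` to `O₂(D)` -/
theorem exists_cj {a b c d : Fin 5} (hab : a ≠ b) (hac : a ≠ c) (hbc : b ≠ c) (had : a ≠ d) (hbd : b ≠ d) (hcd : c ≠ d) :
    ∃ k ∈ P, o2 (Dd (zv p) a b c d) = cj k (o2 (Dd (zv p) 1 2 3 4)) := by
  obtain ⟨τ, t1, t2, t3, t4⟩ := perm_four (a := 1) (b := 2) (c := 3) (d := 4) (a' := a) (b' := b) (c' := c) (d' := d)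
    (by decide) (by decide) (by decide) (by decide) (by decide) (by decide) hab hac hbc had hbd hcd
  obtain ⟨k, hkP, hk⟩ := (lt h).full τ
  refine ⟨k, hkP, ?_⟩
  have h1 := (lt h).cj_Dd hk 1 2 3 4
  rw [t1, t2, t3, t4] at h1
  rw [← h1, o2_cj]

theorem O_le {a b c d : Fin 5} (hab : a ≠ b) (hac : a ≠ c) (hbc : b ≠ c) (had : a ≠ d) (hbd : b ≠ d) (hcd : c ≠ d) :
    o2 (Dd (zv p) a b c d) ≤ P := by
  obtain ⟨k, hk, e⟩ := exists_cj h hab hac hbc had hbd hcd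
  rw [e]
  rintro _ ⟨y, hy, rfl⟩
  exact P.mul_mem (P.mul_mem hk ((lt h).OL hy)) (P.inv_mem hk)

theorem O_cent {a b c d : Fin 5} (hab : a ≠ b) (hac : a ≠ c) (hbc : b ≠ c) (had : a ≠ d) (hbd : b ≠ d) (hcd : c ≠ d)
    {x : G} (hx : x ∈ o2 (Dd (zv p) a b c d)) (hxV : ∀ v ∈ VV, x * v = v * x) : x ∈ o2 P := by
  obtain ⟨k, hk, e⟩ := exists_cj h hab hac hbc had hbd hcd
  rw [e] at hx
  obtain ⟨y, hy, rfl⟩ := hx
  have h1 : y ∈ o2 P := by
    refine MFive.Inst.cS h (Std.T_le (O_le_T h hy)) fun v hv => ?_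
    have h2 := hxV (k * v * k⁻¹) (P_norm S P hk hv)
    change k * y * k⁻¹ * (k * v * k⁻¹) = k * v * k⁻¹ * (k * y * k⁻¹) at h2
    calc y * v = k⁻¹ * (k * y * k⁻¹ * (k * v * k⁻¹)) * k := by group
      _ = k⁻¹ * (k * v * k⁻¹ * (k * y * k⁻¹)) * k := by rw [h2]
      _ = v * y := by group
  exact (mem_normalizer_iff.1 (MinSimple.VModule.le_normalizer_o2 P hk) y).1 h1

/-- `⟨V^{C_G(p i p j)}⟩` is abelian -/
theorem DD_ij {i j : Fin 5} (hij : i ≠ j) : IsElementaryAbelian 2 (DD VV (zv p i * zv p j)) := by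
  obtain ⟨g, hg, e⟩ := h.lights (i := MFive.Inst.rho i) (j := MFive.Inst.rho j)
    (fun e => hij (MFive.Inst.rho.injective e))
  have h1 : DD VV (zv p i * zv p j) = cj g (DD VV (nn p)) := by
    have h2 := conj_DD (V := VV) (x := nn p) g
    rw [conj_V hg, e] at h2
    exact h2.symm
  rw [h1]
  exact isElementaryAbelian_cj g (LightB.DD_el h)

theorem DD_le_O {a b c d : Fin 5} (hcd : c ≠ d) :
    DD VV (zv p c * zv p d) ≤ o2 (Dd (zv p) a b c d) := by
  have hel := DD_ij h hcd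
  have h1 : DD VV (zv p c * zv p d) ≤ Dd (zv p) a b c d := by
    intro x hx
    have key : ∀ v ∈ VV, v * x = x * v := fun v hv => ESym.ea_comm hel (le_DD hv) hx
    refine mem_centralizer_iff.2 ?_
    rintro _ (rfl | rfl)
    · exact key _ (mul_mem (z_mem h a) (z_mem h b))
    · exact key _ (mul_mem (z_mem h c) (z_mem h d))
  refine ChoiceSit.le_o2 (PLocal.ThompsonJ.isPGroup_of_isElementaryAbelian hel) h1 ?_
  refine le_trans (fun x hx => ?_) cent_le_normalizer_DD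
  exact mem_centralizer_singleton_iff.2 (mem_centralizer_iff.1 hx _ (by simp)).symm

/-- a member in the sense of OneP -/
theorem memb {a b c d : Fin 5} (hab : a ≠ b) (hac : a ≠ c) (hbc : b ≠ c) (had : a ≠ d) (hbd : b ≠ d) (hcd : c ≠ d)
    {A : Subgroup G} (hA : A ∈ AA (o2 (Dd (zv p) a b c d))) (hs : Sh (zv p) a b A) :
    ∃ g, (∀ i, g * zv p i * g⁻¹ = zv p (Equiv.swap a b i)) ∧
      Memb (o2 (Dd (zv p) a b c d)) VV (DD VV (zv p c * zv p d)) A (o2 P) g := by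
  obtain ⟨g, hg, hgs⟩ := hs.2
  have hgP : g ∈ P := O_le h hab hac hbc had hbd hcd (hA.2.1 hg)
  have hcl : ∀ x y : G, (∀ i, x * zv p i * x⁻¹ = y * zv p i * y⁻¹) → ∀ v ∈ VV, x * v * x⁻¹ = y * v * y⁻¹ := by
    intro x y hxy v hv
    have hv' : v ∈ closure (Set.range (zv p)) := by
      rw [MFive.Inst.range_zv, ← h.gen]; exact hv
    induction hv' using closure_induction with
    | mem w hw =>
      obtain ⟨i, rfl⟩ := hw
      exact hxy i
    | one => group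
    | mul v w _ _ h1 h2 =>
      have hv1 : v ∈ VV := by rw [h.gen, ← MFive.Inst.range_zv]; assumption
      have hw1 : w ∈ VV := by rw [h.gen, ← MFive.Inst.range_zv]; assumption
      calc x * (v * w) * x⁻¹ = (x * v * x⁻¹) * (x * w * x⁻¹) := by group
        _ = (y * v * y⁻¹) * (y * w * y⁻¹) := by rw [h1 hv1, h2 hw1]
        _ = _ := by group
    | inv v _ h1 =>
      have hv1 : v ∈ VV := by rw [h.gen, ← MFive.Inst.range_zv]; assumption
      calc x * v⁻¹ * x⁻¹ = (x * v * x⁻¹)⁻¹ := by group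
        _ = (y * v * y⁻¹)⁻¹ := by rw [h1 hv1]
        _ = _ := by group
  refine ⟨g, hgs, ?_⟩
  refine
    { mem := hA
      V2 := PLocal.ThompsonJ.isElementaryAbelian_mono (DD_ij h hcd) le_DD
      W2 := DD_ij h hcd
      VW := le_DD
      WO := DD_le_O h hcd
      aA := hg
      aV := fun v hv => P_norm S P hgP hv
      ind := ?_
      mov := ⟨zv p a, z_mem h a, ?_⟩
      cQ := fun b hb hbV => O_cent h hab hac hbc had hbd hcd (hA.2.1 hb) hbV
      aQ := fun q hq => (mem_normalizer_iff.1 (MinSimple.VModule.le_normalizer_o2 P hgP) q).1 hq }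
  · intro b hb
    rcases hs.1 b hb with h1 | h1
    · left
      intro v hv
      have h2 := hcl b 1 (fun i => by rw [h1 i]; group) v hv
      rw [one_mul, inv_one, mul_one] at h2
      exact mul_inv_eq_iff_eq_mul.1 h2
    · right
      exact hcl b g fun i => by rw [h1, hgs]
  · intro e
    have h1 := hgs a
    rw [e, mul_inv_cancel_right, Equiv.swap_apply_left] at h1
    exact hab ((lt h).inj h1)

/-- `Z_J = {1, n, a, p 4}` -/
theorem mem_Z_of {v : G} (hv : v ∈ VV) {x y : G} (hx : ∀ i, x * zv p i * x⁻¹ = zv p (Equiv.swap 1 2 i))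
    (hy : ∀ i, y * zv p i * y⁻¹ = zv p (Equiv.swap 3 4 i)) (hxv : x * v * x⁻¹ = v) (hyv : y * v * y⁻¹ = v) :
    v = 1 ∨ v = p 4 ∨ v = nn p ∨ v = aa p := by
  have hx' : x * p 0 * x⁻¹ = p 1 ∧ x * p 1 * x⁻¹ = p 0 ∧ x * p 2 * x⁻¹ = p 2 ∧ x * p 3 * x⁻¹ = p 3 ∧
      x * p 4 * x⁻¹ = p 4 := ⟨hx 1, hx 2, hx 3, hx 4, hx 0⟩
  have hy' : y * p 0 * y⁻¹ = p 0 ∧ y * p 1 * y⁻¹ = p 1 ∧ y * p 2 * y⁻¹ = p 3 ∧ y * p 3 * y⁻¹ = p 2 ∧
      y * p 4 * y⁻¹ = p 4 := ⟨hy 1, hy 2, hy 3, hy 4, hy 0⟩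
  have fx : ∀ i, x * p i * x⁻¹ = p (Equiv.swap 0 1 i) := by
    intro i
    fin_cases i
    · exact hx'.1
    · exact hx'.2.1
    · exact hx'.2.2.1
    · exact hx'.2.2.2.1
    · exact hx'.2.2.2.2
  have fy : ∀ i, y * p i * y⁻¹ = p (Equiv.swap 2 3 i) := by
    intro i
    fin_cases i
    · exact hy'.1
    · exact hy'.2.1
    · exact hy'.2.2.1
    · exact hy'.2.2.2.1
    · exact hy'.2.2.2.2
  rcases h.elts hv with rfl | ⟨i, rfl⟩ | ⟨i, j, hij, rfl⟩
  · exact Or.inl rfl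
  · right; left
    rw [fx] at hxv
    rw [fy] at hyv
    have e1 := h.std.inj hxv
    have e2 := h.std.inj hyv
    congr 1
    revert e1 e2
    clear * -
    revert i
    decide
  · right; right
    rw [cm, fx, fx] at hxv
    rw [cm, fy, fy] at hyv
    have e1 := h.std.pair_inj (fun e => hij ((Equiv.swap (0 : Fin 5) 1).injective e)) hij hxv
    have e2 := h.std.pair_inj (fun e => hij ((Equiv.swap (2 : Fin 5) 3).injective e)) hij hyv
    have key : ∀ i j : Fin 5, i ≠ j →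
        ((Equiv.swap (0 : Fin 5) 1 i = i ∧ Equiv.swap (0 : Fin 5) 1 j = j) ∨
          (Equiv.swap (0 : Fin 5) 1 i = j ∧ Equiv.swap (0 : Fin 5) 1 j = i)) →
        ((Equiv.swap (2 : Fin 5) 3 i = i ∧ Equiv.swap (2 : Fin 5) 3 j = j) ∨
          (Equiv.swap (2 : Fin 5) 3 i = j ∧ Equiv.swap (2 : Fin 5) 3 j = i)) →
        ((i = 0 ∧ j = 1) ∨ (i = 1 ∧ j = 0)) ∨ ((i = 2 ∧ j = 3) ∨ (i = 3 ∧ j = 2)) := by decide
    rcases key i j hij e1 e2 with (⟨rfl, rfl⟩ | ⟨rfl, rfl⟩) | (⟨rfl, rfl⟩ | ⟨rfl, rfl⟩)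
    · exact Or.inl rfl
    · exact Or.inl (h.std.comm _ _)
    · exact Or.inr rfl
    · exact Or.inr (h.std.comm _ _)

omit h [Finite G] in
theorem UR_le_DD {V R : Subgroup G} {x : G} (hR : R ≤ centralizer ({x} : Set G)) : UR R V ≤ DD V x := by
  rw [UR, closure_le]
  rintro _ ⟨r, hr, v, hv, rfl⟩
  exact (mem_normalizer_iff.1 (cent_le_normalizer_DD (hR hr)) v).1 (le_DD hv)

/-- **(1')** -/
theorem one (hz : Cfsg.Agent.ZN.zc (o2 P) = VV) {A : Subgroup G}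
    (hA : A ∈ AA (o2 (centralizer ({nn p} : Set G) ⊓ centralizer ({aa p} : Set G))))
    (hm : ¬ A ≤ centralizer (VV : Set G)) {R M : Subgroup G} (hR : IsMinPar (Std.T (S : Subgroup G) p) R)
    (hRD : R ≤ centralizer ({nn p} : Set G) ⊓ centralizer ({aa p} : Set G)) (hM : M ≤ UR R VV)
    (hMn : R ≤ normalizer (M : Set G)) (hMK : ∀ k ∈ o2 R, ∀ m ∈ M, k * m = m * k) :
    M ≤ centralizer (oddGen R : Set G) := by
  rw [← Dd_zv] at hA
  have hm' : ¬ A ≤ centralizer (Set.range (zv p)) := by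
    intro h1
    apply hm
    rw [h.gen, centralizer_closure, ← MFive.Inst.range_zv]
    exact h1
  have hTR : Std.T (S : Subgroup G) p ≤ R := hR.le
  have hsyl : Syl (Std.T (S : Subgroup G) p) R :=
    ⟨hTR, LightB.T_two, fun Q hQ hQ2 hTQ => (LightB.sylD h).2.2 Q (hQ.trans hRD) hQ2 hTQ⟩
  have hVT : VV ≤ Std.T (S : Subgroup G) p := fun v hv =>
    ⟨h.V_le hv, mem_centralizer_singleton_iff.2 (h.V_comm hv h.n_mem)⟩
  -- the two members
  obtain ⟨A₁, hA₁, s₁⟩ := (lt h).mem hA hm' (a := 1) (b := 0) (c := 3) (d := 4) (by decide) (by decide) (by decide)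
    (by decide) (by decide) (by decide)
  obtain ⟨A₂, hA₂, s₂⟩ := (lt h).mem hA hm' (a := 3) (b := 0) (c := 1) (d := 2) (by decide) (by decide) (by decide)
    (by decide) (by decide) (by decide)
  obtain ⟨a₁, ha₁, m₁⟩ := memb h (by decide) (by decide) (by decide) (by decide) (by decide) (by decide) hA₁ s₁
  obtain ⟨a₂, ha₂, m₂⟩ := memb h (by decide) (by decide) (by decide) (by decide) (by decide) (by decide) hA₂ s₂
  -- `O ≤ O₂(R)` contains elements acting as `(1 2)` and `(3 4)`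
  have hOR : o2 (Dd (zv p) 1 2 3 4) ≤ o2 R := by
    refine ChoiceSit.le_o2 (ChoiceSit.isPGroup_o2 _) ((O_le_T h).trans hTR) ?_
    rw [Dd_zv]
    exact hRD.trans (MinSimple.VModule.le_normalizer_o2 _)
  obtain ⟨B₁, hB₁, t₁⟩ := (lt h).mem hA hm' (a := 1) (b := 2) (c := 3) (d := 4) (by decide) (by decide) (by decide)
    (by decide) (by decide) (by decide)
  obtain ⟨B₂, hB₂, t₂⟩ := (lt h).mem hA hm' (a := 3) (b := 4) (c := 1) (d := 2) (by decide) (by decide) (by decide)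
    (by decide) (by decide) (by decide)
  obtain ⟨-, x, hx, hx1⟩ := t₁
  obtain ⟨-, y, hy, hy1⟩ := t₂
  have hxR : x ∈ o2 R := hOR (hB₁.2.1 hx)
  have hyR : y ∈ o2 R := hOR (by rw [Dd_symm]; exact hB₂.2.1 hy)
  have hRnn : R ≤ centralizer ({nn p} : Set G) := hRD.trans inf_le_left
  have hRaa : R ≤ centralizer ({aa p} : Set G) := hRD.trans inf_le_right
  have hp4 : p 4 = nn p * aa p := by
    have h1 := MFive.Inst.prod_z h
    change p 4 = p 0 * p 1 * p 2 * p 3 at h1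
    rw [h1, nn, aa, mul_assoc (p 0 * p 1)]
  -- the centre `Z_J`
  let Z : Subgroup G := closure {nn p, aa p}
  have hZc : R ≤ centralizer (Z : Set G) := by
    change R ≤ centralizer ((closure {nn p, aa p} : Subgroup G) : Set G)
    rw [centralizer_closure]
    intro r hr
    refine mem_centralizer_iff.2 ?_
    rintro _ (rfl | rfl)
    · exact (mem_centralizer_singleton_iff.1 (hRnn hr)).symm
    · exact (mem_centralizer_singleton_iff.1 (hRaa hr)).symm
  have hZV : Z ≤ VV := by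
    change closure {nn p, aa p} ≤ _
    rw [closure_le]
    rintro _ (rfl | rfl)
    · exact h.n_mem
    · exact h.a_mem
  have hnZ : nn p ∈ Z := subset_closure (by simp)
  have haZ : aa p ∈ Z := subset_closure (by simp)
  have hK : ∀ v ∈ VV, (∀ k ∈ o2 R, k * v = v * k) → v = 1 ∨ v = p 4 ∨ v = nn p ∨ v = aa p := by
    intro v hv hk
    refine mem_Z_of h hv hx1 hy1 ?_ ?_
    · rw [hk x hxR, mul_inv_cancel_right]
    · rw [hk y hyR, mul_inv_cancel_right]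
  have hZm : ∀ v : G, (v = 1 ∨ v = p 4 ∨ v = nn p ∨ v = aa p) → v ∈ Z := by
    rintro v (rfl | rfl | rfl | rfl)
    · exact one_mem _
    · rw [hp4]; exact mul_mem hnZ haZ
    · exact hnZ
    · exact haZ
  have hZe : ∀ v ∈ Z, v = 1 ∨ v = p 4 ∨ v = nn p ∨ v = aa p := by
    intro v hv
    refine hK v (hZV hv) fun k hk => ?_
    exact (mem_centralizer_iff.1 (hZc (MinSimple.VModule.o2_le R hk)) v hv).symm
  have hVR : UR R VV ≤ R := by
    rw [UR, closure_le]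
    rintro _ ⟨r, hr, v, hv, rfl⟩
    exact R.mul_mem (R.mul_mem hr (hTR (hVT hv))) (R.inv_mem hr)
  refine OneP.one_of (Q := o2 P) (Z := Z) hsyl hR m₁ m₂ ?_ ?_ hZc ?_ ?_ ?_ ?_ (hM.trans hVR) ?_ ?_ hMn hMK
  · intro q hq
    exact ⟨MFive.Inst.QS h hq, mem_centralizer_singleton_iff.2 (MFive.Inst.VcQ h hq h.n_mem)⟩
  · exact fun v hv q hq => (MFive.Inst.VcQ h hq hv).symm
  · -- `C_W(Q) = V`
    intro u hu hq
    have h1 : u ∈ o2 P := by
      refine O_cent h (a := 1) (b := 0) (c := 3) (d := 4) (by decide) (by decide) (by decide) (by decide) (by decide)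
        (by decide) (m₁.WO hu) fun v hv => ?_
      exact ESym.ea_comm m₁.W2 hu (m₁.VW hv)
    rw [← hz]
    refine ChoiceBase.mem_zc.2 ⟨h1, ?_, fun q hq' => hq q hq'⟩
    exact ESym.ea_sq m₁.W2 hu
  · intro v hv ht
    refine hZm v (hK v hv fun k hk => ht k ?_)
    exact o2_le_syl hsyl hk
  · exact fun v hv hk => hZm v (hK v hv hk)
  · -- `Z_J ∩ Z_J^{a₁} ∩ Z_J^{a₂} = 1`
    intro z hz h1 h2
    have e1 := hZe _ h1
    have e2 := hZe _ h2
    have b0 : a₁ * p 0 * a₁⁻¹ = p 4 := ha₁ 1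
    have b1 : a₁ * p 1 * a₁⁻¹ = p 1 := ha₁ 2
    have b4 : a₁ * p 4 * a₁⁻¹ = p 0 := ha₁ 0
    have c2 : a₂ * p 2 * a₂⁻¹ = p 4 := ha₂ 3
    have c3 : a₂ * p 3 * a₂⁻¹ = p 3 := ha₂ 4
    have hnot : ∀ i j k : Fin 5, i ≠ j → p i * p j ≠ p k := fun i j k hij e =>
      MFive.Inst.not_light h (g := 1) (i := k) hij (by rw [e]; group)
    rcases hZe z hz with rfl | rfl | rfl | rfl
    · rfl
    · exfalso
      rw [b4] at e1
      rcases e1 with e | e | e | e
      · exact h.std.ne _ e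
      · exact absurd (h.std.inj e) (by decide)
      · exact hnot 0 1 0 (by decide) e.symm
      · exact hnot 2 3 0 (by decide) e.symm
    · exfalso
      rw [nn, cm, b0, b1] at e1
      rcases e1 with e | e | e | e
      · exact absurd (h.std.inj (mul_eq_one_iff_eq_inv.1 e |>.trans (h.std.pinv 1))) (by decide)
      · exact hnot 4 1 4 (by decide) e
      · have := h.std.pair_inj (a := 4) (b := 1) (c := 0) (d := 1) (by decide) (by decide) e
        revert this; decide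
      · have := h.std.pair_inj (a := 4) (b := 1) (c := 2) (d := 3) (by decide) (by decide) e
        revert this; decide
    · exfalso
      rw [aa, cm, c2, c3] at e2
      rcases e2 with e | e | e | e
      · exact absurd (h.std.inj (mul_eq_one_iff_eq_inv.1 e |>.trans (h.std.pinv 3))) (by decide)
      · exact hnot 4 3 4 (by decide) e
      · have := h.std.pair_inj (a := 4) (b := 3) (c := 0) (d := 1) (by decide) (by decide) e
        revert this; decide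
      · have := h.std.pair_inj (a := 4) (b := 3) (c := 2) (d := 3) (by decide) (by decide) e
        revert this; decide
  · exact hM.trans (UR_le_DD hRaa)
  · exact hM.trans (UR_le_DD hRnn)

/-- **(1')** in the form of `TwoJ.Dat.one` -/
theorem one' (hz : Cfsg.Agent.ZN.zc (o2 P) = VV) {A : Subgroup G}
    (hA : A ∈ AA (o2 (centralizer ({nn p} : Set G) ⊓ centralizer ({aa p} : Set G))))
    (hm : ¬ A ≤ centralizer (VV : Set G)) {R : Subgroup G} (hR : IsMinPar (Std.T (S : Subgroup G) p) R)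
    (hRD : R ≤ centralizer ({nn p} : Set G) ⊓ centralizer ({aa p} : Set G)) :
    ∀ M : Subgroup G, M ≤ UR R VV → (∀ m ∈ M, ∀ k ∈ o2 R, k * m = m * k) → (∀ r ∈ R, ∀ m ∈ M, r * m * r⁻¹ ∈ M) →
      ∀ r ∈ oddGen R, ∀ m ∈ M, r * m = m * r := by
  intro M hM hMK hMn r hr m hm'
  have h1 : R ≤ normalizer (M : Set G) := by
    intro x hx
    refine mem_normalizer_iff.2 fun y => ⟨hMn x hx y, fun hy => ?_⟩
    have h2 := hMn x⁻¹ (R.inv_mem hx) _ hy
    have e : x⁻¹ * (x * y * x⁻¹) * x⁻¹⁻¹ = y := by group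
    rwa [e] at h2
  exact mem_centralizer_iff.1 (one h hz hA hm hR hRD hM h1 (fun k hk m hm => hMK m hm k hk) hm') r hr

end Cfsg.Agent.Omega.NO3S.LightFive.OnePF

end

section


/-!
# LightL (E), `n = 5`: (A) over the common frame

`LF.dd_le` : if `J(O₂(D))` moves `V`, then `D ≤ L*` for every `L* ≥ N_G(V), C_G(p 2, p 3, p 4)`
(649's `Dt.le`, 220's facts, (1') = `OnePF.one`).
-/

set_option autoImplicit false
set_option linter.unusedSectionVars false

namespace Cfsg.Agent.Omega.LFive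

open Subgroup Cfsg Cfsg.Agent.ZN Cfsg.Agent.ZN.ChoiceBase
open Cfsg.Agent.Omega.NTwo (nn aa Std mem_cent cm)
open Cfsg.Agent.Omega.NO3S.Sym.Light (FiveL DD le_DD)
open Cfsg.Agent.Omega.NO3S.LightFive (OnePF.one)
open Cfsg.Agent.Omega.NO3S.TwoJ (UR)

universe u

variable {G : Type u} [Group G] [Finite G] {S : Sylow 2 G} {P : Subgroup G} {p : Fin 5 → G}

theorem le_UR {R V : Subgroup G} : V ≤ UR R V := fun v hv => subset_closure ⟨1, R.one_mem, v, hv, by group⟩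

theorem norm_UR {R V : Subgroup G} : R ≤ normalizer (UR R V : Set G) := by
  have key : ∀ r ∈ R, ∀ x ∈ UR R V, r * x * r⁻¹ ∈ UR R V := by
    intro r hr x hx
    have h1 : UR R V ≤ cj r⁻¹ (UR R V) := by
      rw [UR, closure_le]
      rintro _ ⟨s, hs, v, hv, rfl⟩
      refine mem_cj.2 ?_
      refine subset_closure ⟨r * s, R.mul_mem hr hs, v, hv, ?_⟩
      group
    have h2 := mem_cj.1 (h1 hx)
    rwa [inv_inv] at h2
  intro r hr
  refine mem_normalizer_iff.2 fun x => ⟨key r hr x, fun hx => ?_⟩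
  have h2 := key r⁻¹ (R.inv_mem hr) _ hx
  have e : r⁻¹ * (r * x * r⁻¹) * r⁻¹⁻¹ = x := by group
  rwa [e] at h2

/-- **(A)** -/
theorem LF.dd_le (h : LF S P p) {Ls : Subgroup G} (hL : ll S P ≤ Ls) (hX : centralizer {p 2, p 3, p 4} ≤ Ls)
    (hJ : ¬ jj (o2 (dd p)) ≤ centralizer (zl (S : Subgroup G) P : Set G)) : dd p ≤ Ls := by
  have hV : NO3S.LightFive.TwoA.VV p = zl (S : Subgroup G) P := h.gen.symm
  obtain ⟨A, hA, hAV⟩ : ∃ A ∈ AA (o2 (dd p)), ¬ A ≤ centralizer (zl (S : Subgroup G) P : Set G) := by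
    by_contra hcon
    push Not at hcon
    apply hJ
    rw [jj_eq]
    exact sSup_le fun A hA => hcon A hA
  have hd : NO3S.LightFive.TwoA.Dt (ll S P) Ls (Std.T (S : Subgroup G) p) (DD (zl (S : Subgroup G) P) (p 4)) p :=
    { fv := NO3S.LightFive.TwoAPlug.fv_N h.toFiveL
      cv := by rw [hV]; exact centralizer_le_normalizer _
      LLs := hL
      cen := NO3S.LightFive.TwoAPlug.cen h.toFiveL hL hX
      syl := NO3S.LightB.sylD h.toFiveL
      TL := le_normalizer.trans h.nT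
      nT := fun g _ hg => hL (h.nT hg)
      Uc := NO3S.LightFive.TwoAPlug.U_comm h.toFiveL
      Us := NO3S.LightFive.TwoAPlug.U_sq h.toFiveL
      VU := by rw [hV]; exact le_DD
      nU := NO3S.LightFive.TwoAPlug.nU
      one := fun R hR hRD _ M _ hM hMn hMK => by
        rw [hV] at hM
        refine Subgroup.le_centralizer_iff.1 (NO3S.LightFive.OnePF.one h.toFiveL h.zq hA hAV hR hRD
          (hM _ le_UR norm_UR) hMn fun k hk m hm => ?_)
        exact mem_centralizer_iff.1 (hMK hm) k hk }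
  refine hd.le ?_
  rw [hV]
  exact hJ

end Cfsg.Agent.Omega.LFive

end

end

-- merged: Cfsg.Agent.Mrg.Omega.LFive.FrameX
section

/-!
# LightL (E), `n = 5`: the common frame `LF` over the case (L) (`SymL .. 1 2`)
-/

set_option autoImplicit false
set_option linter.unusedSectionVars false

namespace Cfsg.Agent.Omega.LFive

open Subgroup Cfsg Cfsg.Agent.ZN Cfsg.Agent.Omega.MinPar Cfsg.Agent.Omega.Frame
open Cfsg.Agent.MinSimple.MinParabolic (IsMinPar)
open Cfsg.Agent.Omega.Node.MultiOf (NLoc)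
open Cfsg.Agent.Omega.Node.MulX (SymL)
open Cfsg.Agent.Omega.NTwo (nn aa Std mem_cent cm)
open Cfsg.Agent.Omega.NO3S.Sym.Light (FiveL)
open scoped Pointwise

universe u

variable {G : Type u} [Group G] [Finite G] {S : Sylow 2 G} {P B ZJ : Subgroup G} {ι : Type}
  {L W Z C A : ι → Subgroup G} {p : Fin 5 → G}

/-- **The common frame from the case (L).** -/
theorem lf_of_symL (hM : SymL S P B ZJ L W Z C A 1 2) (hN : NLoc (centralizer (ZJ : Set G) ⊔ ⨆ i, L i))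
    (h : FiveL S P p) (hB : B = Std.T (S : Subgroup G) p) (hZ : centralizer (ZJ : Set G) ≤ dd p)
    (hL : ∀ i, L i ≤ ll S P ⊓ cn p ∨ L i ≤ ll S P ⊓ ca p)
    (hU : ∀ R : Subgroup G, IsMinPar (Std.T (S : Subgroup G) p) R → R ≤ cn p → ¬ R ≤ ca p → R ≤ ll S P) :
    LF S P p where
  toFiveL := h
  zq := hM.cl.zc_eq
  uni := hU
  nT := hB ▸ hM.norm_le
  nloc := by
    refine hN.mono (sup_le (hZ.trans (le_sup_left.trans le_sup_left)) (iSup_le fun i => ?_))
    rcases hL i with h1 | h1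
    · exact h1.trans (le_sup_right.trans le_sup_left)
    · exact h1.trans le_sup_right

end Cfsg.Agent.Omega.LFive

end

-- merged: Cfsg.Agent.Mrg.Omega.LFive.ELXEnd
section

/-!
# `ELX K` (LightL (E) over the case (L)): the final assembly

* `LFive.FalseLF` : no `LF S P p`; **`elx_of : FalseLF → NoWFive K → ELX K`**.
-/

set_option autoImplicit false

namespace Cfsg.Agent.Omega.LFive

open Subgroup Cfsg Cfsg.Agent.ZN Cfsg.Agent.Omega.MinPar Cfsg.Agent.Omega.Frame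
open Cfsg.Agent.Omega.Node.MultiOf (NLoc)
open Cfsg.Agent.Omega.Node.MulX (SymL)
open Cfsg.Agent.Omega.Node.SymG (MulSG)
open Cfsg.Agent.Omega.NTwo (nn aa Std mem_cent cm)
open Cfsg.Agent.Omega.NO3S.Sym.Light (FiveL)

universe u

/-- There is no `LF S P p`. -/
def FalseLF : Prop :=
  ∀ (G : Type u) [Group G] [Finite G] (S : Sylow 2 G) (P : Subgroup G) (p : Fin 5 → G), ¬ LF S P p

section loc

variable {G : Type u} [Group G] [Finite G] {S : Sylow 2 G} {P K' B ZJ : Subgroup G} {ι : Type}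
  {L W Z C : ι → Subgroup G} {p : Fin 5 → G}

/-- there is a block -/
theorem elx_nonempty (hM : MulSG S P K' B ZJ L W Z C 1 2) (h : FiveL S P p) : Nonempty ι := by
  by_contra hne
  rw [not_nonempty_iff] at hne
  have := hM.fin
  have h1 := Node.MultiOf.Fg_V_le hM.fr (h.p_mem 0)
  rw [iSup_of_empty] at h1
  exact h.std.ne 0 (mem_bot.1 h1)

theorem elx_L_le (hM : MulSG S P K' B ZJ L W Z C 1 2) (h : FiveL S P p) (i : ι) :
    L i ≤ ll S P ⊓ cn p ∨ L i ≤ ll S P ⊓ ca p := by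
  rcases NO3S.LightFive.Z_cases h hM i with h1 | h1
  · exact Or.inr (le_inf (NO3S.LightFive.L_le_norm h hM i) (NO3S.LightFive.L_le_of_nn h hM h1))
  · exact Or.inl (le_inf (NO3S.LightFive.L_le_norm h hM i) (NO3S.LightFive.L_le_of_aa h hM h1))

end loc

/-- **`ELX K`** -/
theorem elx_of {K : Cls.{u}} (hF : FalseLF.{u}) (hW : Node.ELXUni.NoWFive K) : Node.CaseLPEnds.ELX K := by
  intro G _ _ hK S P B ZJ ι L W Z C A hM hN p h
  have hne := elx_nonempty hM.toG h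
  have hB := NO3S.LightFive.B_eq h hM.toG
  have hZ : ∀ x : G, x ∈ ZJ ↔ x = 1 ∨ x = nn p ∨ x = aa p ∨ x = p 4 := fun x => NO3S.LightFive.mem_ZJ h hM.toG
  exact (hF G S P p (lf_of_symL hM hN h hB (fun g hg => ⟨mem_centralizer_singleton_iff.2
    (mem_centralizer_iff.1 hg _ ((hZ _).2 (Or.inr (Or.inl rfl)))).symm, mem_centralizer_singleton_iff.2
    (mem_centralizer_iff.1 hg _ ((hZ _).2 (Or.inr (Or.inr (Or.inl rfl))))).symm⟩) (elx_L_le hM.toG h)
    fun R hR hRn hRa => Node.ELXUni.uni_of_noW hM h hB ((hZ _).2 (Or.inr (Or.inr (Or.inl rfl))))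
      (hW G hK S P B ZJ ι L W Z C A hM hN p h) hR hRn hRa)).elim

end Cfsg.Agent.Omega.LFive

end

-- merged: Cfsg.Agent.Mrg.Omega.NO3S.TwoB.Main
section

/-!
# LightL (E), `n = 5`: `J(O)` centralises `V` ⇒ FAIL (helper411 #25060 (B), referee helper119 #25264)

`C` (= `C_G(12)`) normalises the elementary abelian `M = ⟨V^C⟩`, `T` is a Sylow 2-subgroup of `C`, `Z` (= `⟨34⟩`) is
centralised by `T`, `D = C_C(Z)`, `O = O₂(D)`, `Y` (= `⟨z₁, z₂⟩`) `≤ M` is `T`-invariant, `N = ⟨Z^C⟩`,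
`U = ⟨Z^(C_C(Y) T)⟩`.  The `T`-minimal `P ≤ C` which move `Z` have odd part in `C(Y)`.

* `DtB C T M V Z Y` : the hypotheses, `J(O)` centralises `V`;
* **`DtB.fail`** : `C_A(U) ≤ C(N)` for all `A ∈ AA(O)`: otherwise `C_A(U)` is exact on `M` and KL* (`StarQ.GInD`) gives
  a contradiction to EXT.
-/

set_option autoImplicit false
set_option linter.unusedSectionVars false

namespace Cfsg.Agent.Omega.NO3S.TwoB

open Subgroup Cfsg Cfsg.Agent.Omega.MinPar
open Cfsg.Agent.ZN (o2 jj)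
open Cfsg.Agent.ZN.ChoiceBase (AA mm_eq mem_AA_iff jj_eq jj_le le_jj jj_cj cj_inf cj_centralizer cj cj_mono
  mem_normalizer_iff_cj cj_eq_of_mem_normalizer)
open Cfsg.Agent.MinSimple.MinParabolic (IsMinPar)
open Cfsg.Agent.MinSimple.VModule (le_o2 o2_isPGroup o2_le le_normalizer_o2 o2_le_of_sylow)
open Cfsg.Agent.Omega.ML.GMod (ZD normalizer_le_normalizer_o2 not_dvd_of_le nc)
open Cfsg.Agent.Omega.NO3S.EThree.ExactA (eab_mono eab_sup eab_iff)
open Cfsg.Agent.Omega.EK3.Rank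
open Cfsg.Agent.Omega.NoFF.Basic (comm_symm comm_mono Z_le_V V_le)
open scoped Pointwise

universe u

variable {G : Type u} [Group G]

/-- **the hypotheses** -/
structure DtB (C T M V Z Y : Subgroup G) : Prop where
  CM : C ≤ normalizer (M : Set G)
  eM : IsElementaryAbelian 2 M
  /-- `M = ⟨V^C⟩` -/
  MV : M ≤ NoFF.Basic.V V C
  TC : T ≤ C
  two : IsPGroup 2 T
  syl : ¬ 2 ∣ T.relIndex C
  ZM : Z ≤ M
  YM : Y ≤ M
  TZ : T ≤ centralizer (Z : Set G)
  /-- `N_C(T)` centralises `Z` -/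
  NZ : C ⊓ normalizer (T : Set G) ≤ centralizer (Z : Set G)
  NY : C ⊓ normalizer (T : Set G) ≤ normalizer (Y : Set G)
  /-- `C_Y(T)` is central in `C` -/
  cY : Y ⊓ centralizer (T : Set G) ≤ centralizer (C : Set G)
  /-- UNI -/
  uni : ∀ P : Subgroup G, IsMinPar T P → P ≤ C → ¬ P ≤ centralizer (Z : Set G) →
    ∀ g ∈ P, Odd (orderOf g) → g ∈ centralizer (Y : Set G)
  MO : M ≤ o2 (C ⊓ centralizer (Z : Set G))
  /-- `J(O)` centralises `V` -/
  J : jj (o2 (C ⊓ centralizer (Z : Set G))) ≤ centralizer (V : Set G)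
  K : IsKGroup C

theorem le_norm_V (Z P : Subgroup G) : P ≤ normalizer (NoFF.Basic.V Z P : Set G) := ML.GMod.le_normalizer_hul Z P

theorem Z_le (Z P : Subgroup G) : Z ≤ NoFF.Basic.V Z P := ML.GMod.le_hul Z P

theorem V_le_of {Z P A : Subgroup G} (hZ : Z ≤ A) (hP : P ≤ normalizer (A : Set G)) : NoFF.Basic.V Z P ≤ A :=
  ML.GMod.hul_le_of hZ hP

namespace DtB

variable {C T M V Z Y : Subgroup G}

theorem NM (h : DtB C T M V Z Y) : NoFF.Basic.V Z C ≤ M := V_le_of h.ZM h.CM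

variable [Finite G]

theorem TD (h : DtB C T M V Z Y) : T ≤ C ⊓ centralizer (Z : Set G) := le_inf h.TC h.TZ

theorem OT (h : DtB C T M V Z Y) : o2 (C ⊓ centralizer (Z : Set G)) ≤ T :=
  o2_le_of_sylow h.two (not_dvd_of_le h.syl h.TD inf_le_left)

/-- (NO) for `P` with `T ≤ P ≤ C` on `⟨Z^P⟩`, over `O` -/
theorem noOn (h : DtB C T M V Z Y) (hML : ML.Final.MLK.{u, u}) {P : Subgroup G} (hT : T ≤ P) (hP : P ≤ C) :
    NoOn (o2 (C ⊓ centralizer (Z : Set G))) (NoFF.Basic.V Z P) := by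
  intro A hA hAO
  have hVM : NoFF.Basic.V Z P ≤ M := V_le_of h.ZM (hP.trans h.CM)
  have hD : ZD P (NoFF.Basic.V Z P) Z T A :=
    { nV := le_norm_V Z P
      sq := fun v hv => by
        rw [← pow_two]
        exact (eab_iff.1 h.eM).2 v (hVM hv)
      ZV := Z_le Z P
      gen := fun U hZ hU => V_le_of hZ hU
      TL := hT
      two := h.two
      odd := not_dvd_of_le h.syl hT hP
      TZ := h.TZ
      AO := by
        refine le_trans ?_ (NO3S.EMany.Low.InpG.o2_le_o2_of_le (inf_le_inf_right _ hP))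
        exact le_inf hAO (le_inf (hAO.trans (h.OT.trans hT)) (hAO.trans (h.OT.trans h.TZ)))
      Asq := fun a ha => by
        rw [← pow_two, (eab_iff.1 hA).2 a ha]
        exact one_mem _ }
  exact hD.gml hML (ML.GMod.kg_le h.K hP)

/-- `O ∩ C(N) = O₂(C)` -/
theorem Q_eq (h : DtB C T M V Z Y) :
    o2 (C ⊓ centralizer (Z : Set G)) ⊓ centralizer (NoFF.Basic.V Z C : Set G) = o2 C := by
    apply le_antisymm
    · have h1 : o2 (C ⊓ centralizer (Z : Set G)) ⊓ centralizer (NoFF.Basic.V Z C : Set G) ≤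
          o2 (C ⊓ centralizer (NoFF.Basic.V Z C : Set G)) := by
        refine le_trans ?_ (NO3S.EMany.Low.InpG.o2_le_o2_of_le
          (inf_le_inf_left C (centralizer_le (Z_le Z C)) : C ⊓ centralizer (NoFF.Basic.V Z C : Set G) ≤ _))
        exact le_inf inf_le_left (le_inf (inf_le_left.trans ((o2_le _).trans inf_le_left)) inf_le_right)
      refine h1.trans (le_o2 ((o2_le _).trans inf_le_left) (o2_isPGroup _) ?_)
      refine le_trans ?_ (normalizer_le_normalizer_o2 _)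
      exact le_trans (le_inf Subgroup.le_normalizer ((le_norm_V Z C).trans (nc _))) inf_normalizer_le_normalizer_inf
    · have h1 : o2 C ≤ T := o2_le_of_sylow h.two h.syl
      have h2 : NoFF.Basic.V Z C ≤ centralizer (o2 C : Set G) :=
        V_le_of (comm_symm (h1.trans h.TZ)) ((le_normalizer_o2 C).trans (nc _))
      have h3 := comm_symm h2
      refine le_inf ?_ h3
      refine le_trans ?_ (NO3S.EMany.Low.InpG.o2_le_o2_of_le
          (inf_le_left : C ⊓ centralizer (Z : Set G) ≤ C))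
      exact le_inf le_rfl (le_inf (o2_le _) (h1.trans h.TZ))

/-- `O ∩ C(N)` is normalised by `C` -/
theorem C_Q (h : DtB C T M V Z Y) :
    C ≤ normalizer ((o2 (C ⊓ centralizer (Z : Set G)) ⊓ centralizer (NoFF.Basic.V Z C : Set G) : Subgroup G) : Set G) := by
  rw [h.Q_eq]
  exact le_normalizer_o2 C

/-- **FAIL** -/
theorem fail (h : DtB C T M V Z Y) (hML : ML.Final.MLK.{u, u}) (hE : ML.Ex.Two.Ext.{u, u}) {A : Subgroup G}
    (hA : A ∈ AA (o2 (C ⊓ centralizer (Z : Set G)))) :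
    A ⊓ centralizer (NoFF.Basic.V Z (C ⊓ centralizer (Y : Set G) ⊔ T) : Set G) ≤
      centralizer (NoFF.Basic.V Z C : Set G) := by
  set O := o2 (C ⊓ centralizer (Z : Set G)) with hO
  set H := C ⊓ centralizer (Y : Set G) ⊔ T with hH
  set N := NoFF.Basic.V Z C with hN
  set U := NoFF.Basic.V Z H with hU
  have hHC : H ≤ C := sup_le inf_le_left h.TC
  have hTH : T ≤ H := le_sup_right
  have hUM : U ≤ M := V_le_of h.ZM (hHC.trans h.CM)
  have hUN : U ≤ N := V_le_of (Z_le Z C) (hHC.trans (le_norm_V Z C))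
  have hUe : IsElementaryAbelian 2 U := eab_mono h.eM hUM
  have hNe : IsElementaryAbelian 2 N := eab_mono h.eM h.NM
  have hUO : U ≤ O := hUM.trans h.MO
  have hNO : N ≤ O := h.NM.trans h.MO
  have noU : NoOn O U := h.noOn hML hTH hHC
  have noN : NoOn O N := h.noOn hML h.TC le_rfl
  set B := A ⊓ centralizer (U : Set G) with hB
  by_contra hmv
  have hAe : IsElementaryAbelian 2 A := hA.1
  have hBe : IsElementaryAbelian 2 B := eab_mono hAe inf_le_left
  have hBO : B ≤ O := inf_le_left.trans hA.2.1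
  have hBT : B ≤ T := hBO.trans h.OT
  have hBU : B ⊔ U ∈ AA O := (exch hUe hUO noU hA).2.2
  -- `J(Q)` centralises `M`
  have hJQ : jj (O ⊓ centralizer (N : Set G)) ≤ centralizer (M : Set G) := by
    refine comm_symm (h.MV.trans (V_le_of ?_ ?_))
    · exact comm_symm ((jj_inf_le hNe hNO noN).trans h.J)
    · refine le_trans ?_ (nc _)
      intro g hg
      rw [mem_normalizer_iff_cj, ← jj_cj, cj_eq_of_mem_normalizer (h.C_Q hg)]
  -- `C_B(N) ≤ C(M)`
  have hker : B ⊓ centralizer (N : Set G) ≤ centralizer (M : Set G) := by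
    have h1 := exch_inf hNe hNO noN hBU
    refine le_trans ?_ ((le_jj h1).trans hJQ)
    exact (inf_le_inf_right _ le_sup_left).trans le_sup_left
  have hrel : ∀ B' : Subgroup G, B' ≤ B →
      (centralizer (M : Set G)).relIndex B' = (centralizer (N : Set G)).relIndex B' := by
    intro B' hB'
    have e : B' ⊓ centralizer (M : Set G) = B' ⊓ centralizer (N : Set G) := by
      apply le_antisymm
      · exact inf_le_inf_left _ (centralizer_le h.NM)
      · exact le_inf inf_le_left ((inf_le_inf_right _ hB').trans hker)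
    rw [← inf_relIndex_left B' (centralizer (M : Set G)), e, inf_relIndex_left]
  refine Cfsg.Agent.Omega.KL.StarQ.GInD.false_of (C := C) (T := T) (A := B) (D := C ⊓ centralizer (Z : Set G)) (M := M) (Z := Z) (Y := Y)
    hML hE ?_
  exact
    { CM := h.CM
      sqM := (eab_iff.1 h.eM).2
      TC := h.TC
      two := h.two
      syl := h.syl
      ZM := h.ZM
      YM := h.YM
      TZ := h.TZ
      NY := h.NY
      cY := h.cY
      ND := le_inf inf_le_left h.NZ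
      AD := hBO
      good := by
        intro P hP hPC hPD
        have h1 : ¬ P ≤ centralizer (Z : Set G) := fun h2 => hPD (le_inf hPC h2)
        exact ⟨h.uni P hP hPC h1, h1⟩
      bad := fun P _ _ hPD => Or.inl (hPD.trans inf_le_right)
      AT := hBT
      sqA := (eab_iff.1 hBe).2
      AY := by
        have h1 : H ⊓ centralizer (U : Set G) ≤ C ⊓ centralizer (Z : Set G) :=
          inf_le_inf hHC (centralizer_le (Z_le Z H))
        have h2 : B ≤ o2 (H ⊓ centralizer (U : Set G)) := by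
          refine le_trans ?_ (NO3S.EMany.Low.InpG.o2_le_o2_of_le h1)
          exact le_inf hBO (le_inf (hBT.trans hTH) inf_le_right)
        refine h2.trans (le_o2 ((o2_le _).trans inf_le_left) (o2_isPGroup _) ?_)
        refine le_trans ?_ (normalizer_le_normalizer_o2 _)
        exact le_trans (le_inf Subgroup.le_normalizer ((le_norm_V Z H).trans (nc _))) inf_normalizer_le_normalizer_inf
      nk := hker
      mv := fun h1 => hmv (h1.trans (centralizer_le h.NM))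
      no := by
        intro B' hB'
        rw [hrel B' hB']
        refine (noN B' (eab_mono hBe hB') (hB'.trans hBO)).trans ?_
        exact ML.GMod.ri_mono _ h.NM
      le := by
        have h1 := le_of_mem h.eM h.MO hBU
        have hMU : M ≤ centralizer (U : Set G) := comm_mono (eab_iff.1 h.eM).1 le_rfl hUM
        have e1 : M ⊓ centralizer ((B ⊔ U : Subgroup G) : Set G) = M ⊓ centralizer (B : Set G) := by
          apply le_antisymm
          · exact inf_le_inf_left _ (centralizer_le (le_sup_left : B ≤ B ⊔ U))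
          · refine le_inf inf_le_left (comm_symm (sup_le ?_ ?_))
            · exact comm_symm inf_le_right
            · exact comm_symm (inf_le_left.trans hMU)
        rw [← inf_relIndex_left M (centralizer ((B ⊔ U : Subgroup G) : Set G)), e1, inf_relIndex_left] at h1
        have hc := (eab_iff.1 hBU.1).1
        have e2 : (centralizer (M : Set G)).relIndex (B ⊔ U : Subgroup G) = (centralizer (M : Set G)).relIndex B :=
          NO3b.BasePt.Count.relIndex_sup (fun v hv w hw => (mem_centralizer_iff.1 (hc hv) w hw).symm) le_sup_right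
            le_sup_left (sup_comm B U).le (comm_symm hMU)
        rwa [e2] at h1
      K := h.K }

end DtB

end Cfsg.Agent.Omega.NO3S.TwoB

end

-- merged: Cfsg.Agent.Mrg.Omega.NO3S.MFive.FailDef
section

section


/-!
# LightL (E), `n = 5`: the last case, `J(O_2(D))` centralises `V` and FAIL (helper736 #25382)

Letters `0..4`, pairs `{0, 4}`, `{1, 2}`, fifth letter `3`.

* `CC z a b = C(z_a z_b)`, `DD z = C(z_0 z_4, z_1 z_2)`;
* `NB z a b c d = ⟨(z_c z_d)^C(z_a z_b)⟩`;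
* `FailHyp L T B z` : the frame `Fr5`, `B` Sylow in `C(z_0 z_4)` centralises `z_1 z_2`, `J(O_2(D))` centralises `V`, and
  FAIL: every `A ∈ AA(O_2(D))` centralising `N_04` centralises `⟨(z_1 z_2)^C(z_0 z_4)⟩`.
-/

set_option autoImplicit false
set_option linter.unusedSectionVars false
set_option linter.unusedVariables false

namespace Cfsg.Agent.Omega.NO3S.MFive

open Subgroup Cfsg Cfsg.Agent.ZN Cfsg.Agent.ZN.ChoiceBase
open Cfsg.Agent.ZN.ChoiceSit

universe u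

variable {G : Type u} [Group G]

/-- `C_ab = C(z_a z_b)` -/
def CC (z : Fin 5 → G) (a b : Fin 5) : Subgroup G := centralizer {z a * z b}

/-- `D = C(z_0 z_4, z_1 z_2)` -/
def DD (z : Fin 5 → G) : Subgroup G := CC z 0 4 ⊓ CC z 1 2

/-- `⟨(z_c z_d)^C(z_a z_b)⟩` -/
def NB (z : Fin 5 → G) (a b c d : Fin 5) : Subgroup G := nc (CC z a b) (zpowers (z c * z d))

/-- **The last case.** -/
structure FailHyp (L T B : Subgroup G) (z : Fin 5 → G) : Prop where
  fr : Fr5 L T z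
  /-- `B` is a Sylow 2-subgroup of `C(z_0 z_4)` and centralises `z_1 z_2` -/
  sylB : Syl B (CC z 0 4)
  BC : B ≤ CC z 1 2
  /-- `⟨(z_1 z_2)^C(z_0 z_4)⟩` is a 2-group -/
  p2 : IsPGroup 2 (NB z 0 4 1 2)
  /-- `J(O_2(D))` centralises `V` -/
  jV : ∀ A ∈ AA (o2 (DD z)), A ≤ centralizer (Set.range z)
  /-- FAIL -/
  fail : ∀ A ∈ AA (o2 (DD z)), A ≤ centralizer (N L z 0 4 : Set G) → A ≤ centralizer (NB z 0 4 1 2 : Set G)

end Cfsg.Agent.Omega.NO3S.MFive

end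

section


/-!
# LightL (E), `n = 5`: relabelling of the frames of `MFive`

* `X_comp`, `V_comp`, `Zc_comp`, `Y_comp`, `N_comp`, `M_comp`, `W_comp` : `z ∘ σ`;
* `fr5_perm` : `Fr5 L T z` and `g ∈ L` inducing `σ` give `Fr5 L (T^g) (z ∘ σ)`.
-/

set_option autoImplicit false
set_option linter.unusedSectionVars false

namespace Cfsg.Agent.Omega.NO3S.LN

open Subgroup Cfsg Cfsg.Agent.ZN Cfsg.Agent.ZN.ChoiceBase
open Cfsg.Agent.ZN.ChoiceSit
open Cfsg.Agent.Omega.NO3S.MFive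
open Cfsg.Agent.Omega.EK3.Rank (NoOn)
open Cfsg.Agent.Omega.EK3.Lever (relIndex_cj)

universe u

variable {G : Type u} [Group G] {L T : Subgroup G} (z : Fin 5 → G) (σ : Equiv.Perm (Fin 5))

theorem X_comp (i j : Fin 5) : X (z ∘ σ) i j = X z (σ i) (σ j) := by
  have e : {g | ∃ k, k ≠ i ∧ k ≠ j ∧ g = (z ∘ σ) k} = {g | ∃ k, k ≠ σ i ∧ k ≠ σ j ∧ g = z k} := by
    ext g
    constructor
    · rintro ⟨k, h1, h2, rfl⟩
      exact ⟨σ k, fun e => h1 (σ.injective e), fun e => h2 (σ.injective e), rfl⟩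
    · rintro ⟨k, h1, h2, rfl⟩
      refine ⟨σ.symm k, ?_, ?_, ?_⟩
      · rintro rfl; exact h1 (σ.apply_symm_apply k).symm
      · rintro rfl; exact h2 (σ.apply_symm_apply k).symm
      · rw [Function.comp_apply, σ.apply_symm_apply]
  rw [X, X, e]

theorem range_comp : Set.range (z ∘ σ) = Set.range z := σ.surjective.range_comp z

theorem V_comp : V (z ∘ σ) = V z := by rw [V, V, range_comp]

theorem Zc_comp (a b : Fin 5) : Zc (z ∘ σ) a b = Zc z (σ a) (σ b) := by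
  have e : {g | ∃ c, c ≠ a ∧ c ≠ b ∧ g = (z ∘ σ) c} = {g | ∃ c, c ≠ σ a ∧ c ≠ σ b ∧ g = z c} := by
    ext g
    constructor
    · rintro ⟨k, h1, h2, rfl⟩
      exact ⟨σ k, fun e => h1 (σ.injective e), fun e => h2 (σ.injective e), rfl⟩
    · rintro ⟨k, h1, h2, rfl⟩
      refine ⟨σ.symm k, ?_, ?_, ?_⟩
      · rintro rfl; exact h1 (σ.apply_symm_apply k).symm
      · rintro rfl; exact h2 (σ.apply_symm_apply k).symm
      · rw [Function.comp_apply, σ.apply_symm_apply]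
  rw [Zc, Zc, e]

theorem Y_comp_le (L : Subgroup G) (a b : Fin 5) : Y L (z ∘ σ) a b ≤ Y L z (σ a) (σ b) := by
  refine sup_le le_sup_left (iSup_le fun k => iSup_le fun l => iSup_le ?_)
  rintro ⟨hkl, ⟨h1, h2⟩, h3, h4⟩
  rw [X_comp]
  exact X_le_Y (fun e => hkl (σ.injective e)) (fun e => h1 (σ.injective e)) (fun e => h2 (σ.injective e))
    (fun e => h3 (σ.injective e)) (fun e => h4 (σ.injective e))

theorem comp_symm : (z ∘ σ) ∘ σ.symm = z := by
  ext a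
  rw [Function.comp_apply, Function.comp_apply, σ.apply_symm_apply]

theorem Y_comp (L : Subgroup G) (a b : Fin 5) : Y L (z ∘ σ) a b = Y L z (σ a) (σ b) := by
  refine le_antisymm (Y_comp_le z σ L a b) ?_
  have h1 := Y_comp_le (z ∘ σ) σ.symm L (σ a) (σ b)
  rwa [comp_symm, σ.symm_apply_apply, σ.symm_apply_apply] at h1

theorem N_comp (L : Subgroup G) (a b : Fin 5) : N L (z ∘ σ) a b = N L z (σ a) (σ b) := by
  rw [N, N, Y_comp, Zc_comp]

theorem M_comp_le (L : Subgroup G) (a : Fin 5) : M L (z ∘ σ) a ≤ M L z (σ a) := by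
  refine sup_le le_sup_left (iSup_le fun k => iSup_le fun l => iSup_le ?_)
  rintro ⟨hkl, h1, h3⟩
  rw [X_comp]
  exact X_le_Mij (fun e => hkl (σ.injective e)) (fun e => h1 (σ.injective e)) (fun e => h3 (σ.injective e))

theorem M_comp (L : Subgroup G) (a : Fin 5) : M L (z ∘ σ) a = M L z (σ a) := by
  refine le_antisymm (M_comp_le z σ L a) ?_
  have h1 := M_comp_le (z ∘ σ) σ.symm L (σ a)
  rwa [comp_symm, σ.symm_apply_apply] at h1

theorem W_comp (L : Subgroup G) (a : Fin 5) : W L (z ∘ σ) a = W L z (σ a) := by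
  rw [W, W, M_comp, V_comp]

theorem CC_comp (a b : Fin 5) : CC (z ∘ σ) a b = CC z (σ a) (σ b) := rfl

theorem NB_comp (a b c d : Fin 5) : NB (z ∘ σ) a b c d = NB z (σ a) (σ b) (σ c) (σ d) := rfl

variable {z σ} [Finite G]

theorem syl_cj {T X : Subgroup G} (g : G) (h : Syl T X) : Syl (cj g T) (cj g X) := by
  refine ⟨cj_mono g h.1, isPGroup_cj g h.2.1, fun R hR hR2 hTR => ?_⟩
  have h1 := h.2.2 (cj g⁻¹ R) (by have := cj_mono g⁻¹ hR; rwa [cj_inv_cj] at this) (isPGroup_cj g⁻¹ hR2)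
    (by have := cj_mono g⁻¹ hTR; rwa [cj_inv_cj] at this)
  rw [← h1, cj_cj_inv]

theorem noOn_cj {O N : Subgroup G} (g : G) (h : NoOn O N) : NoOn (cj g O) (cj g N) := by
  intro A hA hAO
  have h1 := h (cj g⁻¹ A) (isElementaryAbelian_cj g⁻¹ hA) (by
    have := cj_mono g⁻¹ hAO
    rwa [cj_inv_cj] at this)
  have h2 := relIndex_cj g (centralizer (N : Set G)) (cj g⁻¹ A)
  have h3 := relIndex_cj g (centralizer ((cj g⁻¹ A : Subgroup G) : Set G)) N
  rw [cj_centralizer, cj_cj_inv] at h2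
  rw [cj_centralizer, cj_cj_inv] at h3
  rw [h2, h3]
  exact h1

/-- **Relabelling of `Fr5`.** -/
theorem fr5_perm (h : Fr5 L T z) {g : G} (hg : Ind L z g σ) : Fr5 L (cj g T) (z ∘ σ) where
  sq a := h.sq _
  comm a b := h.comm _ _
  prod := by
    have h1 := congrArg (fun x => g * x * g⁻¹) h.prod
    have e : g * (z 1 * z 2 * z 3 * z 4) * g⁻¹ = (g * z 1 * g⁻¹) * (g * z 2 * g⁻¹) * (g * z 3 * g⁻¹) * (g * z 4 * g⁻¹) := by
      group
    simp only [e, hg.eq] at h1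
    exact h1
  inj := h.inj.comp σ.injective
  act g' hg' := by
    obtain ⟨τ, hτ⟩ := h.act g' hg'
    refine ⟨σ.trans (τ.trans σ.symm), fun a => ?_⟩
    rw [Function.comp_apply, Function.comp_apply, hτ]
    congr 1
    simp
  full τ := by
    obtain ⟨g', hg', h1⟩ := h.full (σ.symm.trans (τ.trans σ))
    refine ⟨g', hg', fun a => ?_⟩
    rw [Function.comp_apply, Function.comp_apply, h1]
    congr 1
    simp
  cv := by rw [range_comp]; exact h.cv
  TL := by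
    rintro _ ⟨t, ht, rfl⟩
    exact mul_mem (mul_mem hg.mem (h.TL ht)) (inv_mem hg.mem)
  TX := by
    rw [X_comp, ← hg.X_eq]
    exact cj_mono g h.TX
  syl := by
    rw [Y_comp, ← hg.Y_eq]
    exact syl_cj g h.syl
  wab := by
    rw [W_comp, ← hg.W_eq]
    exact isElementaryAbelian_cj g h.wab
  cw := by
    rw [W_comp, ← hg.W_eq, X_comp, ← hg.X_eq]
    have h1 := cj_mono g h.cw
    rw [cj_inf, cj_centralizer, cj_centralizer] at h1
    exact h1
  no := by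
    rw [X_comp, N_comp, ← hg.X_eq, ← hg.N_eq, o2_cj]
    exact noOn_cj g h.no

end Cfsg.Agent.Omega.NO3S.LN

end

section


/-!
# THEOREM M5 with the split "EE empty / EE not empty" (helper237; for helper736 #25382)

* `Lev L z` : some `F ≤ O_2(X_12)` moves `N_04` and has `[W_0, F] ≤ N_04` (the output of `Fr5.lever`);
* `Fr5.lev_of_J`, `Fr5.lev_of_offd` : from `J_03 ≠ J_04`; from an offender `A ≤ O_2(X_12)` on `W_0`;
* `Fr5.W_le'`, `Fr5.W_le_W'` : `W_0 ≤ N_03 N_04`, `W_a ≤ W_b W_c`;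
* `Three L z` : `r ∈ L` over the 3-cycle with `[V+, r] ≤ N_04`.
-/

set_option autoImplicit false
set_option linter.unusedSectionVars false
set_option linter.unusedVariables false

namespace Cfsg.Agent.Omega.NO3S.MFive

open Subgroup Cfsg Cfsg.Agent.ZN Cfsg.Agent.ZN.ChoiceBase
open Cfsg.Agent.ZN.ChoiceSit
open Cfsg.Agent.Omega.NO3S.EThree
open Cfsg.Agent.Omega.NO3S.EThree.ExactA (eab_mono eab_sup eab_iff)
open Cfsg.Agent.Omega.EK3.Rank (NoOn mem_inf_of_mem_AA jj_inf_le offd_of_mem exists_moving card_jj_of_cj)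
open Cfsg.Agent.Omega.EK3.Lever (Dt relIndex_cj)
open Cfsg.Agent.Omega.ESym.CoreS (mem_norm_of_le jj_norm jj_ne_bot)
open scoped commutatorElement

universe u

variable {G : Type u} [Group G]

/-- some `F ≤ O_2(X_12)` moves `N_04` and has `[W_0, F] ≤ N_04` -/
def Lev (L : Subgroup G) (z : Fin 5 → G) : Prop :=
  ∃ F : Subgroup G, F ≤ o2 (X z 1 2) ∧ ¬ F ≤ centralizer (N L z 0 4 : Set G) ∧
    ∀ e ∈ W L z 0, ∀ f ∈ F, ⁅e, f⁆ ∈ N L z 0 4

/-- the output of THEOREM M5, case I, used in `FailEnd` -/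
def Three (L : Subgroup G) (z : Fin 5 → G) : Prop :=
  ∃ r σ, Ind L z r σ ∧ σ 0 = 0 ∧ σ 4 = 4 ∧ σ 1 = 2 ∧ σ 2 = 3 ∧ σ 3 = 1 ∧
    ∀ v ∈ (⨆ a, W L z a), ⁅v, r⁆ ∈ N L z 0 4

variable [Finite G] {L T : Subgroup G} {z : Fin 5 → G}

section main

variable (h : Fr5 L T z)
include h

theorem Fr5.lev_of_J (hJ : jj (o2 (Y L z 0 3)) ≠ jj (o2 (Y L z 0 4))) : Lev L z := h.lever hJ

theorem Fr5.lev_of_offd {A : Subgroup G} (hAO : A ≤ o2 (X z 1 2)) (hA : IsElementaryAbelian 2 A)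
    (hoff : Offd (W L z 0) A) : Lev L z := by
  obtain ⟨g, σ, hg, hX, hO, h43, h34, y43, y34, hW⟩ := h.swap'
  obtain ⟨i, F, hFO, hFe, hFm, hF⟩ := h.dt.lever hAO hA hoff
  cases i
  · exact ⟨F, hFO, hFm, hF⟩
  · refine ⟨cj g F, ?_, ?_, ?_⟩
    · have := cj_mono g hFO
      rwa [hO] at this
    · intro hc
      apply hFm
      change F ≤ centralizer (N L z 0 3 : Set G)
      rw [← h34, ← cj_centralizer] at hc
      have h1 := cj_mono g⁻¹ hc
      rwa [cj_inv_cj, cj_inv_cj] at h1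
    · rintro e he _ ⟨f, hf, rfl⟩
      rw [← hW] at he
      obtain ⟨e, he, rfl⟩ := he
      have h1 : ⁅e, f⁆ ∈ N L z 0 3 := hF e he f hf
      rw [← h34]
      refine ⟨_, h1, ?_⟩
      exact map_commutatorElement _ _ _

/-- (5) `M_0` normalises `N_03 N_04`: `W_0 ≤ N_03 N_04`. -/
theorem Fr5.W_le' (hL : Lev L z) : W L z 0 ≤ N L z 0 3 ⊔ N L z 0 4 := by
  obtain ⟨F, hFO, hFm, hF⟩ := hL
  have hYE : Y L z 0 4 ≤ normalizer (W L z 0 : Set G) := (Y_le_M_left 0 4).trans (M_norm_W 0)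
  -- the normal closure of `F` in `Y_04`
  let K : Subgroup G := nc (Y L z 0 4) F
  have hFY : F ≤ Y L z 0 4 := hFO.trans h.O_le_Y04
  have hKY : K ≤ Y L z 0 4 := nc_le hFY Subgroup.le_normalizer
  have hYK : Y L z 0 4 ≤ normalizer (K : Set G) := nc_norm _ _
  have hKN : K ≤ normalizer ((N L z 0 3 ⊔ N L z 0 4 : Subgroup G) : Set G) := by
    refine iSup_le fun y => ?_
    intro x hx
    refine mem_norm_of_le ?_
    rw [cj, Subgroup.map_sup]
    have hxY : x ∈ Y L z 0 4 := hKY (cj_le_nc y.2 hx)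
    refine sup_le ?_ ?_
    · rintro _ ⟨n, hn, rfl⟩
      change x * n * x⁻¹ ∈ _
      obtain ⟨f, hf, e⟩ := hx
      have e' : x = (y : G) * f * (y : G)⁻¹ := by rw [← e]; rfl
      have hnE : n ∈ W L z 0 := h.N03_le_W hn
      have hn' : (y : G)⁻¹ * n * y ∈ W L z 0 := by
        have := (mem_normalizer_iff.1 (hYE (inv_mem y.2)) n).1 hnE
        rwa [inv_inv] at this
      have h1 := hF _ hn' f hf
      have h2 : (y : G) * ⁅(y : G)⁻¹ * n * y, f⁆ * (y : G)⁻¹ ∈ N L z 0 4 :=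
        (mem_normalizer_iff.1 (Y_norm_N 0 4 y.2) _).1 h1
      have h3 : ⁅n, x⁆ = (y : G) * ⁅(y : G)⁻¹ * n * y, f⁆ * (y : G)⁻¹ := by
        rw [e']
        simp only [commutatorElement_def]
        group
      have h4 : x * n * x⁻¹ = ⁅n, x⁆⁻¹ * n := by
        simp only [commutatorElement_def]
        group
      rw [h4]
      exact mul_mem (inv_mem (mem_sup_right (by rw [h3]; exact h2))) (mem_sup_left hn)
    · have h1 := cj_eq_of_mem_normalizer (Y_norm_N 0 4 hxY)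
      exact (le_of_eq h1).trans le_sup_right
  have hXN : X z 1 2 ≤ normalizer ((N L z 0 3 ⊔ N L z 0 4 : Subgroup G) : Set G) := fun x hx =>
    norm_sup (Y_norm_N 0 3 (h.X_le_Y03 hx)) (Y_norm_N 0 4 (h.X_le_Y04 hx))
  have h04 : Y L z 0 4 ≤ normalizer ((N L z 0 3 ⊔ N L z 0 4 : Subgroup G) : Set G) :=
    (h.gen hKY hYK (le_nc _ _) (hFO.trans (ChoiceSit.o2_le _)) hFm).trans (sup_le hKN hXN)
  have h03 : Y L z 0 3 ≤ normalizer ((N L z 0 3 ⊔ N L z 0 4 : Subgroup G) : Set G) := by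
    obtain ⟨g, σ, hg, hX, hO, h43, h34, y43, y34, hW⟩ := h.swap'
    have h1 := cj_mono g h04
    have e : cj g (N L z 0 3 ⊔ N L z 0 4) = N L z 0 3 ⊔ N L z 0 4 := by
      have : cj g (N L z 0 3 ⊔ N L z 0 4) = cj g (N L z 0 3) ⊔ cj g (N L z 0 4) := Subgroup.map_sup _ _ _
      rw [this, h34, h43, sup_comm]
    rwa [y43, cj_normalizer, e] at h1
  refine nc_le ((closure_le _).2 ?_) (h.M_le.trans (sup_le h03 h04))
  have hz : ∀ c, c ≠ 0 → z c ∈ N L z 0 3 ⊔ N L z 0 4 := by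
    intro c h0
    by_cases h4 : c = 4
    · rw [h4]
      exact mem_sup_left (z_mem_N (by decide) (by decide))
    · exact mem_sup_right (z_mem_N h0 h4)
  rintro _ ⟨c, rfl⟩
  by_cases h0 : c = 0
  · rw [h0, h.prod]
    exact mul_mem (mul_mem (mul_mem (hz 1 (by decide)) (hz 2 (by decide))) (hz 3 (by decide))) (hz 4 (by decide))
  · exact hz c h0

/-- `W_a ≤ W_b W_c` -/
theorem Fr5.W_le_W' (hL : Lev L z) {a b c : Fin 5} (hab : a ≠ b) (hac : a ≠ c)
    (hbc : b ≠ c) : W L z a ≤ W L z b ⊔ W L z c := by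
  have h1 : W L z 0 ≤ W L z 3 ⊔ W L z 4 :=
    (h.W_le' hL).trans (sup_le_sup (N_le_W_right 0 3) (N_le_W_right 0 4))
  obtain ⟨τ, t0, t3, t4⟩ := perm_three (a := 0) (b := 3) (c := 4) (a' := a) (b' := b) (c' := c) (by decide)
    (by decide) (by decide) hab hac hbc
  obtain ⟨g, hg⟩ := h.ind τ
  have h2 := cj_mono g h1
  have e : cj g (W L z 3 ⊔ W L z 4) = cj g (W L z 3) ⊔ cj g (W L z 4) := Subgroup.map_sup _ _ _
  rwa [e, hg.W_eq, hg.W_eq, hg.W_eq, t0, t3, t4] at h2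

end main

end Cfsg.Agent.Omega.NO3S.MFive

end

section


/-!
# LightL (E), `n = 5`, CASE I + `J(O_2(D)) ≤ C(V)` + FAIL (helper736 #25382)

* `NN_le` : (1) `V+ = N_04 N_12`;
* `exists_mem` : (2) some member of `AA(O)` contains `V+`;
* `mem_iff` : (3) `Σ = {A ∈ AA(O) : A ≤ Q_04 ∩ Q_12} = {A ∈ AA(O) : [A, V+] = 1}`;
* `FailHyp.local_one` : (4) `⟨L, D⟩` normalises `⟨Σ⟩ ≠ 1`.
-/

set_option autoImplicit false
set_option linter.unusedSectionVars false
set_option linter.unusedVariables false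

namespace Cfsg.Agent.Omega.NO3S.MFive

open Subgroup Cfsg Cfsg.Agent.ZN Cfsg.Agent.ZN.ChoiceBase
open Cfsg.Agent.ZN.ChoiceSit
open Cfsg.Agent.Omega.NO3S.EThree
open Cfsg.Agent.Omega.NO3S.EThree.ExactA (eab_mono eab_sup eab_iff swp)
open Cfsg.Agent.Omega.EK3.Rank (NoOn)
open Cfsg.Agent.Omega.EK3.Lever (relIndex_cj)
open Cfsg.Agent.Omega.ESym.CoreS (mem_norm_of_le)
open Cfsg.Agent.Omega.NoFF.Basic (comm_symm)
open scoped commutatorElement

universe u

variable {G : Type u} [Group G]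

/-! ### Conjugation -/

section ind

variable {L : Subgroup G} {z : Fin 5 → G} {g : G} {σ : Equiv.Perm (Fin 5)}

theorem Ind.mul_eq (h : Ind L z g σ) (a b : Fin 5) : g * (z a * z b) * g⁻¹ = z (σ a) * z (σ b) := by
  rw [← h.eq, ← h.eq]
  group

theorem Ind.CC_le (h : Ind L z g σ) (a b : Fin 5) : cj g (CC z a b) ≤ CC z (σ a) (σ b) := by
  rintro _ ⟨x, hx, rfl⟩
  change g * x * g⁻¹ ∈ _
  rw [CC, mem_centralizer_iff]
  rintro _ rfl
  have h1 := mem_centralizer_iff.1 hx _ rfl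
  rw [← h.mul_eq]
  calc g * (z a * z b) * g⁻¹ * (g * x * g⁻¹) = g * (z a * z b * x) * g⁻¹ := by group
    _ = g * (x * (z a * z b)) * g⁻¹ := by rw [h1]
    _ = g * x * g⁻¹ * (g * (z a * z b) * g⁻¹) := by group

theorem Ind.CC_eq (h : Ind L z g σ) (a b : Fin 5) : cj g (CC z a b) = CC z (σ a) (σ b) :=
  eq_of_le (F := CC z) (fun g σ h => h.CC_le) h a b

theorem Ind.NB_eq (h : Ind L z g σ) (a b c d : Fin 5) : cj g (NB z a b c d) = NB z (σ a) (σ b) (σ c) (σ d) := by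
  rw [NB, cj_nc, h.CC_eq, NB]
  congr 1
  rw [cj, MonoidHom.map_zpowers]
  congr 1
  exact h.mul_eq c d

theorem CC_comm (hc : ∀ a b, z a * z b = z b * z a) (a b : Fin 5) : CC z a b = CC z b a := by
  rw [CC, hc, CC]

theorem NB_comm (hc : ∀ a b, z a * z b = z b * z a) (a b c d : Fin 5) : NB z a b c d = NB z b a d c := by
  rw [NB, CC_comm hc, hc c d, NB]

/-- the join of all `W_a` -/
theorem Ind.NN_eq (h : Ind L z g σ) : cj g (⨆ a, W L z a) = ⨆ a, W L z a := by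
  rw [cj, Subgroup.map_iSup]
  apply le_antisymm
  · refine iSup_le fun a => ?_
    have := h.W_eq a
    rw [cj] at this
    rw [this]
    exact le_iSup (W L z) (σ a)
  · refine iSup_le fun a => ?_
    have := h.W_eq (σ⁻¹ a)
    have e : σ (σ⁻¹ a) = a := by simp
    rw [cj, e] at this
    rw [← this]
    exact le_iSup (fun a => Subgroup.map (MulAut.conj g).toMonoidHom (W L z a)) (σ⁻¹ a)

end ind

section gen

variable {L : Subgroup G} {z : Fin 5 → G}

/-- a property of the permutations, closed under products, true for the permutations preserving `{0, 4}` or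
`{1, 2}`, holds for all permutations. -/
theorem perm_gen {P : Equiv.Perm (Fin 5) → Prop} (hm : ∀ σ τ, P σ → P τ → P (σ * τ))
    (h04 : ∀ σ : Equiv.Perm (Fin 5), (σ 0 = 0 ∧ σ 4 = 4) ∨ (σ 0 = 4 ∧ σ 4 = 0) → P σ)
    (h12 : ∀ σ : Equiv.Perm (Fin 5), (σ 1 = 1 ∧ σ 2 = 2) ∨ (σ 1 = 2 ∧ σ 2 = 1) → P σ)
    (σ : Equiv.Perm (Fin 5)) : P σ := by
  have hsw : ∀ i j : Fin 5, i ≠ j → P (Equiv.swap i j) := by
    have h3 : ∀ i : Fin 5, P (Equiv.swap i 3) := by
      intro i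
      fin_cases i
      · exact h12 _ (Or.inl ⟨by decide, by decide⟩)
      · exact h04 _ (Or.inl ⟨by decide, by decide⟩)
      · exact h04 _ (Or.inl ⟨by decide, by decide⟩)
      · exact h04 _ (Or.inl ⟨by decide, by decide⟩)
      · exact h12 _ (Or.inl ⟨by decide, by decide⟩)
    intro i j hij
    by_cases hi : i = 3
    · rw [hi, Equiv.swap_comm]
      exact h3 j
    by_cases hj : j = 3
    · rw [hj]
      exact h3 i
    have e : Equiv.swap i j = Equiv.swap i 3 * Equiv.swap j 3 * Equiv.swap i 3 := by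
      clear h3
      revert i j
      decide
    rw [e]
    exact hm _ _ (hm _ _ (h3 i) (h3 j)) (h3 i)
  refine Equiv.Perm.swap_induction_on σ (h04 1 (Or.inl ⟨rfl, rfl⟩)) fun f x y hxy hf => hm _ _ (hsw x y hxy) hf

end gen

/-! ### (1) `V+ = N_04 N_12` -/

section one

variable [Finite G] {L T B : Subgroup G} {z : Fin 5 → G}

theorem N_comm' (a b : Fin 5) : N L z a b = N L z b a := by
  have e : Zc z a b = Zc z b a := by
    rw [Zc, Zc]
    congr 1
    ext g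
    constructor
    · rintro ⟨c, h1, h2, h3⟩
      exact ⟨c, h2, h1, h3⟩
    · rintro ⟨c, h1, h2, h3⟩
      exact ⟨c, h2, h1, h3⟩
  rw [N, Y_comm, e, N]

variable (h : Fr5 L T z) (hL : Lev L z)
include h hL

theorem Fr5.W_le_N {a b c : Fin 5} (hab : a ≠ b) (hac : a ≠ c) (hbc : b ≠ c) :
    W L z a ≤ N L z a b ⊔ N L z a c := by
  obtain ⟨τ, t0, t3, t4⟩ := perm_three (a := 0) (b := 3) (c := 4) (a' := a) (b' := b) (c' := c) (by decide)
    (by decide) (by decide) hab hac hbc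
  obtain ⟨g, hg⟩ := h.ind τ
  have h2 := cj_mono g (h.W_le' hL)
  have e : cj g (N L z 0 3 ⊔ N L z 0 4) = cj g (N L z 0 3) ⊔ cj g (N L z 0 4) := Subgroup.map_sup _ _ _
  rwa [e, hg.W_eq, hg.N_eq, hg.N_eq, t0, t3, t4] at h2

theorem Fr5.NN_le_W : (⨆ a, W L z a) ≤ W L z 1 ⊔ W L z 2 := by
  refine iSup_le fun a => ?_
  by_cases h1 : a = 1
  · rw [h1]
    exact le_sup_left
  by_cases h2 : a = 2
  · rw [h2]
    exact le_sup_right
  exact h.W_le_W' hL h1 h2 (by decide)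

theorem Fr5.NN_le_three : (⨆ a, W L z a) ≤ N L z 1 2 ⊔ N L z 1 3 ⊔ N L z 2 3 := by
  refine (h.NN_le_W hL).trans (sup_le ?_ ?_)
  · exact (h.W_le_N hL (a := 1) (b := 2) (c := 3) (by decide) (by decide) (by decide)).trans le_sup_left
  · refine (h.W_le_N hL (a := 2) (b := 1) (c := 3) (by decide) (by decide) (by decide)).trans (sup_le ?_ le_sup_right)
    rw [N_comm']
    exact le_sup_left.trans le_sup_left

theorem Fr5.NN_ab : (⨆ a, W L z a) ≤ centralizer ((⨆ a, W L z a : Subgroup G) : Set G) := by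
  have hW : ∀ a, W L z a ≤ centralizer (W L z a : Set G) := fun a => (eab_iff.1 (h.Wa_ab a)).1
  have h12 : N L z 1 2 ≤ centralizer (N L z 1 2 ⊔ N L z 1 3 ⊔ N L z 2 3 : Subgroup G) := by
    apply comm_symm
    refine sup_le (sup_le ?_ ?_) ?_
    · exact (N_le_W_left 1 2).trans ((hW 1).trans (centralizer_le (N_le_W_left 1 2)))
    · exact (N_le_W_left 1 3).trans ((hW 1).trans (centralizer_le (N_le_W_left 1 2)))
    · exact (N_le_W_left 2 3).trans ((hW 2).trans (centralizer_le (N_le_W_right 1 2)))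
  have h13 : N L z 1 3 ≤ centralizer (N L z 1 2 ⊔ N L z 1 3 ⊔ N L z 2 3 : Subgroup G) := by
    apply comm_symm
    refine sup_le (sup_le ?_ ?_) ?_
    · exact (N_le_W_left 1 2).trans ((hW 1).trans (centralizer_le (N_le_W_left 1 3)))
    · exact (N_le_W_left 1 3).trans ((hW 1).trans (centralizer_le (N_le_W_left 1 3)))
    · exact (N_le_W_right 2 3).trans ((hW 3).trans (centralizer_le (N_le_W_right 1 3)))
  have h23 : N L z 2 3 ≤ centralizer (N L z 1 2 ⊔ N L z 1 3 ⊔ N L z 2 3 : Subgroup G) := by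
    apply comm_symm
    refine sup_le (sup_le ?_ ?_) ?_
    · exact (N_le_W_right 1 2).trans ((hW 2).trans (centralizer_le (N_le_W_left 2 3)))
    · exact (N_le_W_right 1 3).trans ((hW 3).trans (centralizer_le (N_le_W_right 2 3)))
    · exact (N_le_W_left 2 3).trans ((hW 2).trans (centralizer_le (N_le_W_left 2 3)))
  have h1 := h.NN_le_three hL
  exact (h1.trans (sup_le (sup_le h12 h13) h23)).trans (centralizer_le h1)

/-- (1) -/
theorem Fr5.NN_le (h3 : Three L z) : (⨆ a, W L z a) ≤ N L z 0 4 ⊔ N L z 1 2 := by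
  obtain ⟨r, σ, hr, s0, s4, s1, s2, s3, hc⟩ := h3
  have key : ∀ n ∈ (⨆ a, W L z a), r * n * r⁻¹ = ⁅n, r⁆⁻¹ * n := by
    intro n hn
    simp only [commutatorElement_def]
    group
  have h12 : N L z 1 2 ≤ ⨆ a, W L z a := (N_le_W_left 1 2).trans (le_iSup (W L z) 1)
  have h23' : N L z 2 3 ≤ ⨆ a, W L z a := (N_le_W_left 2 3).trans (le_iSup (W L z) 2)
  have h23 : N L z 2 3 ≤ N L z 0 4 ⊔ N L z 1 2 := by
    have e := hr.N_eq 1 2
    rw [s1, s2] at e
    rw [← e]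
    rintro _ ⟨n, hn, rfl⟩
    change r * n * r⁻¹ ∈ _
    rw [key n (h12 hn)]
    exact mul_mem (inv_mem (mem_sup_left (hc n (h12 hn)))) (mem_sup_right hn)
  have h13 : N L z 1 3 ≤ N L z 0 4 ⊔ N L z 1 2 := by
    have e := hr.N_eq 2 3
    rw [s2, s3] at e
    rw [N_comm', ← e]
    rintro _ ⟨n, hn, rfl⟩
    change r * n * r⁻¹ ∈ _
    rw [key n (h23' hn)]
    exact mul_mem (inv_mem (mem_sup_left (hc n (h23' hn)))) (h23 hn)
  exact (h.NN_le_three hL).trans (sup_le (sup_le le_sup_right h13) h23)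

end one

/-! ### The groups `D`, `Q_04`, `Q_12` -/

section two

variable [Finite G] {L T B : Subgroup G} {z : Fin 5 → G} (f : FailHyp L T B z)
include f

/-- `s ∈ L` inducing `(0 1)(4 2)` -/
theorem FailHyp.sw : ∃ g σ, Ind L z g σ ∧ σ 0 = 1 ∧ σ 1 = 0 ∧ σ 4 = 2 ∧ σ 2 = 4 ∧ σ 3 = 3 := by
  obtain ⟨g, hg⟩ := f.fr.ind (Equiv.swap 0 1 * Equiv.swap 4 2)
  exact ⟨g, _, hg, by decide, by decide, by decide, by decide, by decide⟩

omit f in
theorem DD_le_left : DD z ≤ CC z 0 4 := inf_le_left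

omit f in
theorem DD_le_right : DD z ≤ CC z 1 2 := inf_le_right

omit f in
theorem mul_mem_V (a b : Fin 5) : z a * z b ∈ V z := mul_mem (z_mem_V a) (z_mem_V b)

omit f in
theorem X12_le_CC (hp : z 0 = z 1 * z 2 * z 3 * z 4) (hs : ∀ a, z a * z a = 1)
    (hc : ∀ a b, z a * z b = z b * z a) : X z 1 2 ≤ DD z := by
  intro x hx
  rw [mem_X_iff] at hx
  have h0 := hx 0 (by decide) (by decide)
  have h3 := hx 3 (by decide) (by decide)
  have h4 := hx 4 (by decide) (by decide)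
  have h04 : z 0 * z 4 * x = x * (z 0 * z 4) := by
    rw [mul_assoc, h4, ← mul_assoc, h0, mul_assoc]
  have e : z 1 * z 2 = z 0 * z 4 * z 3 := by
    rw [hp]
    calc z 1 * z 2 = z 1 * z 2 * (z 3 * (z 4 * z 4) * z 3) := by rw [hs 4, mul_one, hs 3, mul_one]
      _ = z 1 * z 2 * z 3 * z 4 * z 4 * z 3 := by group
  refine mem_inf.2 ⟨mem_centralizer_iff.2 ?_, mem_centralizer_iff.2 ?_⟩
  · rintro _ rfl
    exact h04
  · rintro _ rfl
    rw [e, mul_assoc, h3, ← mul_assoc, h04, mul_assoc]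

theorem FailHyp.X12_le : X z 1 2 ≤ DD z := X12_le_CC f.fr.prod f.fr.sq f.fr.comm

theorem FailHyp.DD_cj {g : G} {σ : Equiv.Perm (Fin 5)} (hg : Ind L z g σ) (h0 : σ 0 = 1) (h1 : σ 1 = 0)
    (h4 : σ 4 = 2) (h2 : σ 2 = 4) : cj g (DD z) = DD z := by
  rw [DD, cj_inf, hg.CC_eq, hg.CC_eq, h0, h1, h4, h2, inf_comm]

/-- `z_0 z_4 ∈ O_2(D)` -/
theorem FailHyp.z04_mem : z 0 * z 4 ∈ o2 (DD z) := by
  have h1 : zpowers (z 0 * z 4) ≤ o2 (DD z) := by
    refine ChoiceSit.le_o2 ?_ ?_ ?_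
    · intro x
      refine ⟨1, Subtype.ext ?_⟩
      obtain ⟨k, hk⟩ := mem_zpowers_iff.1 x.2
      have h2 : (z 0 * z 4) * (z 0 * z 4) = 1 := by
        calc (z 0 * z 4) * (z 0 * z 4) = z 0 * (z 4 * z 0) * z 4 := by group
          _ = z 0 * (z 0 * z 4) * z 4 := by rw [f.fr.comm 4 0]
          _ = (z 0 * z 0) * (z 4 * z 4) := by group
          _ = 1 := by rw [f.fr.sq, f.fr.sq, mul_one]
      change (x : G) ^ 2 ^ 1 = 1
      rw [← hk, pow_one, ← zpow_natCast, ← zpow_mul, mul_comm, zpow_mul, zpow_natCast, pow_two, h2, one_zpow]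
    · rw [zpowers_le]
      refine mem_inf.2 ⟨mem_centralizer_iff.2 ?_, mem_centralizer_iff.2 ?_⟩
      · rintro _ rfl
        rfl
      · rintro _ rfl
        have hc := f.fr.comm
        calc z 1 * z 2 * (z 0 * z 4) = z 1 * (z 2 * z 0) * z 4 := by group
          _ = (z 1 * z 0) * (z 2 * z 4) := by rw [hc 2 0]; group
          _ = z 0 * (z 1 * z 4) * z 2 := by rw [hc 1 0, hc 2 4]; group
          _ = z 0 * z 4 * (z 1 * z 2) := by rw [hc 1 4]; group
    · refine le_trans ?_ (centralizer_le_normalizer _)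
      rw [Subgroup.le_centralizer_iff, zpowers_le, mem_centralizer_iff]
      intro x hx
      exact (mem_centralizer_iff.1 (DD_le_left hx) _ rfl).symm
  exact h1 (mem_zpowers _)

theorem FailHyp.Q_le_D : o2 (CC z 0 4) ≤ DD z :=
  le_inf (ChoiceSit.o2_le _) ((ChoiceSit.o2_le_syl f.sylB).trans f.BC)

theorem FailHyp.Q_le_O : o2 (CC z 0 4) ≤ o2 (DD z) :=
  ChoiceSit.le_o2 (ChoiceSit.isPGroup_o2 _) f.Q_le_D (DD_le_left.trans (ChoiceSit.le_normalizer_o2 _))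

omit f in
theorem mem_CC_self (a b : Fin 5) : z a * z b ∈ CC z a b := by
  refine mem_centralizer_iff.2 ?_
  rintro _ rfl
  rfl

theorem FailHyp.mem_CC (a b c d : Fin 5) : z a * z b ∈ CC z c d := by
  refine mem_centralizer_iff.2 ?_
  rintro _ rfl
  have hc := f.fr.comm
  calc z c * z d * (z a * z b) = z c * (z d * z a) * z b := by group
    _ = (z c * z a) * (z d * z b) := by rw [hc d a]; group
    _ = z a * (z c * z b) * z d := by rw [hc c a, hc d b]; group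
    _ = z a * z b * (z c * z d) := by rw [hc c b]; group

theorem FailHyp.NB_le_Q : NB z 0 4 1 2 ≤ o2 (CC z 0 4) := by
  refine ChoiceSit.le_o2 f.p2 ?_ (nc_norm _ _)
  refine nc_le ?_ Subgroup.le_normalizer
  rw [zpowers_le]
  exact f.mem_CC _ _ _ _

theorem FailHyp.Q_cent : o2 (CC z 0 4) ≤ centralizer (NB z 0 4 1 2 : Set G) := by
  rw [Subgroup.le_centralizer_iff]
  refine nc_le ?_ ?_
  · rw [zpowers_le, mem_centralizer_iff]
    intro x hx
    exact (mem_centralizer_iff.1 (DD_le_right (f.Q_le_D hx)) _ rfl).symm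
  · have h1 := ChoiceSit.le_normalizer_o2 (CC z 0 4)
    intro x hx
    rw [mem_normalizer_iff_cj, cj_centralizer, cj_eq_of_mem_normalizer (h1 hx)]

/-- `C_O(NB) ≤ Q_04` -/
theorem FailHyp.le_Q {A : Subgroup G} (hA : A ≤ o2 (DD z)) (hc : A ≤ centralizer (NB z 0 4 1 2 : Set G)) :
    A ≤ o2 (CC z 0 4) := by
  set C : Subgroup G := CC z 0 4 ⊓ centralizer (NB z 0 4 1 2 : Set G) with hC
  have hCD : C ≤ DD z := by
    refine le_inf inf_le_left (inf_le_right.trans ?_)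
    refine centralizer_le ?_
    rintro _ rfl
    exact le_nc _ _ (mem_zpowers _)
  have hCn : CC z 0 4 ≤ normalizer (C : Set G) := by
    intro x hx
    have h2 : x ∈ normalizer (NB z 0 4 1 2 : Set G) := nc_norm _ _ hx
    rw [mem_normalizer_iff_cj, hC, cj_inf, cj_centralizer, cj_eq_of_mem_normalizer h2,
      cj_eq_of_mem_normalizer (Subgroup.le_normalizer hx)]
  have h1 : o2 (DD z) ⊓ C ≤ o2 C := by
    refine ChoiceSit.le_o2 ((ChoiceSit.isPGroup_o2 _).to_le inf_le_left) inf_le_right ?_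
    intro c hc
    rw [mem_normalizer_iff_cj, cj_inf, cj_eq_of_mem_normalizer (ChoiceSit.le_normalizer_o2 _ (hCD hc)),
      cj_eq_of_mem_normalizer (Subgroup.le_normalizer hc)]
  have h2 : o2 C ≤ o2 (CC z 0 4) := by
    refine ChoiceSit.le_o2 (ChoiceSit.isPGroup_o2 _) ((ChoiceSit.o2_le _).trans inf_le_left) ?_
    intro y hy
    rw [mem_normalizer_iff_cj, ← o2_cj, cj_eq_of_mem_normalizer (hCn hy)]
  refine le_trans (le_inf hA (le_inf (hA.trans ((ChoiceSit.o2_le _).trans DD_le_left)) hc)) (h1.trans h2)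

/-- `N_04 ≤ ⟨z_0 z_4⟩ NB` -/
theorem FailHyp.N_le : N L z 0 4 ≤ zpowers (z 0 * z 4) ⊔ NB z 0 4 1 2 := by
  have hY : Y L z 0 4 ≤ CC z 0 4 := by
    intro y hy
    have h1 := mem_centralizer_iff.1 (Y_le_cent 0 4 hy)
    have h0 := h1 (z 0) (Set.mem_insert _ _)
    have h4 := h1 (z 4) (Set.mem_insert_of_mem _ rfl)
    refine mem_centralizer_iff.2 ?_
    rintro _ rfl
    rw [mul_assoc, h4, ← mul_assoc, h0, mul_assoc]
  refine f.fr.N04_le.trans (nc_le ?_ ?_)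
  · rw [zpowers_le]
    have e : z 3 = z 0 * z 4 * (z 1 * z 2) := by
      have hp := f.fr.prod
      have hc := f.fr.comm
      have hs := f.fr.sq
      rw [hp]
      calc z 3 = (z 1 * z 1) * ((z 2 * z 2) * z 3 * (z 4 * z 4)) := by rw [hs, hs, hs]; simp
        _ = z 1 * (z 1 * z 2) * (z 2 * z 3) * z 4 * z 4 := by group
        _ = z 1 * (z 2 * z 1) * (z 2 * z 3) * z 4 * z 4 := by rw [hc 1 2]
        _ = z 1 * z 2 * (z 1 * z 2) * z 3 * (z 4 * z 4) := by group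
        _ = z 1 * z 2 * (z 1 * z 2 * z 3) := by rw [hs 4]; group
        _ = z 1 * z 2 * (z 1 * (z 3 * z 2)) := by rw [hc 3 2]; group
        _ = z 1 * z 2 * (z 1 * z 3 * z 2) := by group
        _ = z 1 * z 2 * (z 3 * z 1 * z 2) := by rw [hc 1 3]
        _ = z 1 * z 2 * z 3 * (z 4 * z 4) * (z 1 * z 2) := by rw [hs 4]; group
        _ = z 1 * z 2 * z 3 * z 4 * z 4 * (z 1 * z 2) := by group
    rw [e]
    exact mul_mem (mem_sup_left (mem_zpowers _)) (mem_sup_right (le_nc _ _ (mem_zpowers _)))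
  · intro y hy
    have hy' := hY hy
    refine norm_sup ?_ (nc_norm _ _ hy')
    refine centralizer_le_normalizer _ ?_
    rw [mem_centralizer_iff]
    intro x hx
    obtain ⟨k, hk⟩ := mem_zpowers_iff.1 hx
    rw [← hk]
    have h2 : Commute (z 0 * z 4) y := mem_centralizer_iff.1 hy' _ rfl
    exact (h2.zpow_left k).eq

theorem FailHyp.N04_le_O : N L z 0 4 ≤ o2 (DD z) := by
  refine f.N_le.trans (sup_le ?_ (f.NB_le_Q.trans f.Q_le_O))
  rw [zpowers_le]
  exact f.z04_mem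

theorem FailHyp.N12_le_O : N L z 1 2 ≤ o2 (DD z) := by
  obtain ⟨g, σ, hg, h0, h1, h4, h2, h3⟩ := f.sw
  have e := cj_mono g f.N04_le_O
  rwa [← o2_cj, f.DD_cj hg h0 h1 h4 h2, hg.N_eq, h0, h4] at e

/-- `[A, N_04] = 1` for `A ≤ Q_04` -/
theorem FailHyp.cent_N {A : Subgroup G} (hA : A ≤ o2 (CC z 0 4)) : A ≤ centralizer (N L z 0 4 : Set G) := by
  apply comm_symm
  refine f.N_le.trans (sup_le ?_ ?_)
  · rw [zpowers_le, mem_centralizer_iff]
    intro x hx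
    exact (mem_centralizer_iff.1 (DD_le_left (f.Q_le_D (hA hx))) _ rfl).symm
  · exact comm_symm (hA.trans f.Q_cent)

theorem FailHyp.cent_N' {A : Subgroup G} (hA : A ≤ o2 (CC z 1 2)) : A ≤ centralizer (N L z 1 2 : Set G) := by
  obtain ⟨g, σ, hg, h0, h1, h4, h2, h3⟩ := f.sw
  have e : cj g (CC z 1 2) = CC z 0 4 := by rw [hg.CC_eq, h1, h2]
  have h5 := f.cent_N (A := cj g A) (by
    have := cj_mono g hA
    rwa [← o2_cj, e] at this)
  have e2 : cj g (N L z 1 2) = N L z 0 4 := by rw [hg.N_eq, h1, h2]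
  rw [← e2, ← cj_centralizer] at h5
  have h6 := cj_mono g⁻¹ h5
  rwa [cj_inv_cj, cj_inv_cj] at h6

theorem FailHyp.X12_o2 {A : Subgroup G} (hA : A ≤ o2 (DD z)) (hV : A ≤ centralizer (Set.range z)) :
    A ≤ o2 (X z 1 2) := by
  have h1 : o2 (DD z) ⊓ X z 1 2 ≤ o2 (X z 1 2) := by
    refine ChoiceSit.le_o2 ((ChoiceSit.isPGroup_o2 _).to_le inf_le_left) inf_le_right ?_
    intro c hc
    rw [mem_normalizer_iff_cj, cj_inf, cj_eq_of_mem_normalizer (ChoiceSit.le_normalizer_o2 _ (f.X12_le hc)),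
      cj_eq_of_mem_normalizer (Subgroup.le_normalizer hc)]
  exact (le_inf hA (hV.trans (f.fr.C_le_X 1 2))).trans h1

/-- (NO) on `N_04` for `A ∈ AA(O)` -/
theorem FailHyp.no04 {A : Subgroup G} (hA : A ∈ AA (o2 (DD z))) :
    (centralizer (N L z 0 4 : Set G)).relIndex A ≤ (centralizer (A : Set G)).relIndex (N L z 0 4) :=
  f.fr.no A hA.1 (f.X12_o2 hA.2.1 (f.jV A hA))

theorem FailHyp.AA_cj {g : G} (hg : cj g (DD z) = DD z) {A : Subgroup G} (hA : A ∈ AA (o2 (DD z))) :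
    cj g A ∈ AA (o2 (DD z)) := by
  have h1 := cj_mem_AA g hA
  rwa [← o2_cj, hg] at h1

theorem FailHyp.no12 {A : Subgroup G} (hA : A ∈ AA (o2 (DD z))) :
    (centralizer (N L z 1 2 : Set G)).relIndex A ≤ (centralizer (A : Set G)).relIndex (N L z 1 2) := by
  obtain ⟨g, σ, hg, h0, h1, h4, h2, h3⟩ := f.sw
  have h5 := f.no04 (f.AA_cj (f.DD_cj hg h0 h1 h4 h2) hA)
  have e2 : cj g (N L z 1 2) = N L z 0 4 := by rw [hg.N_eq, h1, h2]
  rw [← e2, ← cj_centralizer, ← cj_centralizer, relIndex_cj, relIndex_cj] at h5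
  exact h5

theorem FailHyp.fail12 {A : Subgroup G} (hA : A ∈ AA (o2 (DD z))) (hc : A ≤ centralizer (N L z 1 2 : Set G)) :
    A ≤ centralizer (NB z 1 2 0 4 : Set G) := by
  obtain ⟨g, σ, hg, h0, h1, h4, h2, h3⟩ := f.sw
  have e2 : cj g (N L z 1 2) = N L z 0 4 := by rw [hg.N_eq, h1, h2]
  have h5 := cj_mono g hc
  rw [cj_centralizer, e2] at h5
  have h6 := f.fail _ (f.AA_cj (f.DD_cj hg h0 h1 h4 h2) hA) h5
  have e3 : cj g (NB z 1 2 0 4) = NB z 0 4 1 2 := by rw [hg.NB_eq, h0, h1, h2, h4]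
  rw [← e3, ← cj_centralizer] at h6
  have h7 := cj_mono g⁻¹ h6
  rwa [cj_inv_cj, cj_inv_cj] at h7

theorem FailHyp.le_Q12 {A : Subgroup G} (hA : A ≤ o2 (DD z)) (hc : A ≤ centralizer (NB z 1 2 0 4 : Set G)) :
    A ≤ o2 (CC z 1 2) := by
  obtain ⟨g, σ, hg, h0, h1, h4, h2, h3⟩ := f.sw
  have e1 : cj g (CC z 1 2) = CC z 0 4 := by rw [hg.CC_eq, h1, h2]
  have e3 : cj g (NB z 1 2 0 4) = NB z 0 4 1 2 := by rw [hg.NB_eq, h0, h1, h2, h4]
  have h5 := cj_mono g hA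
  rw [← o2_cj, f.DD_cj hg h0 h1 h4 h2] at h5
  have h6 := cj_mono g hc
  rw [cj_centralizer, e3] at h6
  have h7 := cj_mono g⁻¹ (f.le_Q h5 h6)
  rw [cj_inv_cj, ← e1, o2_cj, cj_inv_cj] at h7
  exact h7

theorem FailHyp.Q12_le_O : o2 (CC z 1 2) ≤ o2 (DD z) := by
  obtain ⟨g, σ, hg, h0, h1, h4, h2, h3⟩ := f.sw
  have e1 : cj g (CC z 0 4) = CC z 1 2 := by rw [hg.CC_eq, h0, h4]
  have h5 := cj_mono g f.Q_le_O
  rwa [← o2_cj, ← o2_cj, f.DD_cj hg h0 h1 h4 h2, e1] at h5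

/-- `Σ` -/
def Sig (L : Subgroup G) (z : Fin 5 → G) : Set (Subgroup G) :=
  {A | A ∈ AA (o2 (DD z)) ∧ A ≤ centralizer ((⨆ a, W L z a : Subgroup G) : Set G)}

theorem FailHyp.le_Qs {A : Subgroup G} (hA : A ∈ Sig L z) : A ≤ o2 (CC z 0 4) ∧ A ≤ o2 (CC z 1 2) := by
  obtain ⟨h1, h2⟩ := hA
  refine ⟨f.le_Q h1.2.1 (f.fail A h1 (h2.trans (centralizer_le ?_))),
    f.le_Q12 h1.2.1 (f.fail12 h1 (h2.trans (centralizer_le ?_)))⟩
  · exact (N_le_W_left 0 4).trans (le_iSup (W L z) 0)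
  · exact (N_le_W_left 1 2).trans (le_iSup (W L z) 1)

variable (hL : Lev L z) (h3 : Three L z)
include hL h3

theorem FailHyp.mem_Sig {A : Subgroup G} (hA : A ∈ AA (o2 (DD z))) (h04 : A ≤ o2 (CC z 0 4))
    (h12 : A ≤ o2 (CC z 1 2)) : A ∈ Sig L z := by
  refine ⟨hA, ?_⟩
  apply comm_symm
  exact (f.fr.NN_le hL h3).trans (sup_le (comm_symm (f.cent_N h04)) (comm_symm (f.cent_N' h12)))

/-- (2) -/
theorem FailHyp.exists_mem : ∃ A ∈ Sig L z, (⨆ a, W L z a) ≤ A := by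
  obtain ⟨A, hA⟩ := AA_nonempty (o2 (DD z))
  have hab := f.fr.NN_ab hL
  have hN04 : N L z 0 4 ≤ ⨆ a, W L z a := (N_le_W_left 0 4).trans (le_iSup (W L z) 0)
  have hN12 : N L z 1 2 ≤ ⨆ a, W L z a := (N_le_W_left 1 2).trans (le_iSup (W L z) 1)
  have e04 : IsElementaryAbelian 2 (N L z 0 4 : Subgroup G) := f.fr.eab04
  have e12 : IsElementaryAbelian 2 (N L z 1 2 : Subgroup G) := eab_mono (f.fr.Wa_ab 1) (N_le_W_left 1 2)
  obtain ⟨-, -, hA1⟩ := swp e04 f.N04_le_O hA (f.no04 hA)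
  obtain ⟨-, -, hA2⟩ := swp e12 f.N12_le_O hA1 (f.no12 hA1)
  refine ⟨_, ⟨hA2, ?_⟩, ?_⟩
  · have h1 : (⨆ a, W L z a) ≤
        ((A ⊓ centralizer (N L z 0 4 : Set G)) ⊔ N L z 0 4) ⊓ centralizer (N L z 1 2 : Set G) ⊔ N L z 1 2 := by
      refine (f.fr.NN_le hL h3).trans (sup_le (le_sup_of_le_left (le_inf le_sup_right ?_)) le_sup_right)
      exact hN04.trans (hab.trans (centralizer_le hN12))
    exact ((eab_iff.1 hA2.1).1).trans (centralizer_le h1)
  · refine (f.fr.NN_le hL h3).trans (sup_le (le_sup_of_le_left (le_inf le_sup_right ?_)) le_sup_right)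
    exact hN04.trans (hab.trans (centralizer_le hN12))

/-- (4) **CASE I + FAIL**: `⟨L, D⟩` normalises a nontrivial 2-group. -/
theorem FailHyp.local_one : ∃ R : Subgroup G, R ≠ ⊥ ∧ IsPGroup 2 R ∧ L ≤ normalizer (R : Set G) ∧
    DD z ≤ normalizer (R : Set G) := by
  have hmem : ∀ {A : Subgroup G}, A ∈ Sig L z → A ≤ sSup (Sig L z) := fun hA => le_sSup hA
  -- elements permuting `Σ` normalise its join
  have hcj : ∀ g : G, (∀ A ∈ Sig L z, cj g A ∈ Sig L z) → g ∈ normalizer ((sSup (Sig L z) : Subgroup G) : Set G) := by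
    intro g hg
    refine mem_norm_of_le ?_
    rw [sSup_eq_iSup', cj, Subgroup.map_iSup]
    refine iSup_le fun A => ?_
    exact le_iSup (fun A : Sig L z => (A : Subgroup G)) ⟨_, hg A A.2⟩
  have hmx : ∀ (g : G) (A : Subgroup G), A ∈ Sig L z → cj g A ≤ o2 (DD z) → cj g A ∈ AA (o2 (DD z)) := by
    intro g A hA hle
    rw [mem_AA_iff]
    exact ⟨isElementaryAbelian_cj g hA.1.1, hle, by rw [card_cj]; exact (mem_AA_iff.1 hA.1).2.2⟩
  have hNN : ∀ (g : G) (σ : Equiv.Perm (Fin 5)), Ind L z g σ → ∀ A ∈ Sig L z,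
      cj g A ≤ centralizer ((⨆ a, W L z a : Subgroup G) : Set G) := by
    intro g σ hg A hA
    have h1 := cj_mono g hA.2
    rwa [cj_centralizer, hg.NN_eq] at h1
  have h04 : ∀ g σ, Ind L z g σ → (σ 0 = 0 ∧ σ 4 = 4) ∨ (σ 0 = 4 ∧ σ 4 = 0) →
      g ∈ normalizer ((sSup (Sig L z) : Subgroup G) : Set G) := by
    intro g σ hg hσ
    refine hcj g fun A hA => ?_
    have e : cj g (CC z 0 4) = CC z 0 4 := by
      rw [hg.CC_eq]
      rcases hσ with ⟨h1, h2⟩ | ⟨h1, h2⟩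
      · rw [h1, h2]
      · rw [h1, h2, CC_comm f.fr.comm]
    have h1 := cj_mono g (f.le_Qs hA).1
    rw [← o2_cj, e] at h1
    exact ⟨hmx g A hA (h1.trans f.Q_le_O), hNN g σ hg A hA⟩
  have h12 : ∀ g σ, Ind L z g σ → (σ 1 = 1 ∧ σ 2 = 2) ∨ (σ 1 = 2 ∧ σ 2 = 1) →
      g ∈ normalizer ((sSup (Sig L z) : Subgroup G) : Set G) := by
    intro g σ hg hσ
    refine hcj g fun A hA => ?_
    have e : cj g (CC z 1 2) = CC z 1 2 := by
      rw [hg.CC_eq]
      rcases hσ with ⟨h1, h2⟩ | ⟨h1, h2⟩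
      · rw [h1, h2]
      · rw [h1, h2, CC_comm f.fr.comm]
    have h1 := cj_mono g (f.le_Qs hA).2
    rw [← o2_cj, e] at h1
    exact ⟨hmx g A hA (h1.trans f.Q12_le_O), hNN g σ hg A hA⟩
  obtain ⟨A₀, hA₀, hNA⟩ := f.exists_mem hL h3
  refine ⟨sSup (Sig L z), ?_, ?_, ?_, ?_⟩
  · intro e
    have h1 : z 0 ∈ sSup (Sig L z) := hmem hA₀ (hNA ((le_iSup (W L z) 0) (V_le_W 0 (z_mem_V 0))))
    rw [e] at h1
    exact f.fr.z_ne 0 (mem_bot.1 h1)
  · exact (ChoiceSit.isPGroup_o2 (DD z)).to_le (sSup_le fun A hA => hA.1.2.1)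
  · intro g hg
    obtain ⟨σ, hσ⟩ := f.fr.ind_of hg
    refine perm_gen (P := fun σ => ∀ g, Ind L z g σ → g ∈ normalizer ((sSup (Sig L z) : Subgroup G) : Set G))
      ?_ (fun σ h1 g h2 => h04 g σ h2 h1) (fun σ h1 g h2 => h12 g σ h2 h1) σ g hσ
    intro σ τ h1 h2 g hg
    obtain ⟨g₁, hg₁⟩ := f.fr.ind σ
    have h4 := hg₁.inv.mul hg
    rw [inv_mul_cancel_left] at h4
    have h5 := mul_mem (h1 g₁ hg₁) (h2 _ h4)
    rwa [mul_inv_cancel_left] at h5
  · intro g hg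
    refine hcj g fun A hA => ?_
    obtain ⟨h1, h2⟩ := f.le_Qs hA
    have e := cj_eq_of_mem_normalizer (Subgroup.le_normalizer hg : g ∈ normalizer (DD z : Set G))
    refine f.mem_Sig hL h3 (f.AA_cj e hA.1) ?_ ?_
    · have h4 := cj_mono g h1
      rwa [cj_eq_of_mem_normalizer (ChoiceSit.le_normalizer_o2 _ (DD_le_left hg))] at h4
    · have h4 := cj_mono g h2
      rwa [cj_eq_of_mem_normalizer (ChoiceSit.le_normalizer_o2 _ (DD_le_right hg))] at h4

end two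

end Cfsg.Agent.Omega.NO3S.MFive

end

section


/-!
# LightL, `n = 5`, CASE I of M5 (helper736 #25382, #25547 (P1)): the element `r`

* `Fr5.exists_three` : `Lev L z` gives `Three L z`: some `r ∈ L` inducing `(1 2 3)` on the letters satisfies
  `[W_0 … W_4, r] ≤ N_04`.
-/

set_option autoImplicit false
set_option linter.unusedSectionVars false
set_option linter.unusedVariables false

namespace Cfsg.Agent.Omega.NO3S.MFive

open Subgroup Cfsg Cfsg.Agent.ZN Cfsg.Agent.ZN.ChoiceBase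
open Cfsg.Agent.ZN.ChoiceSit
open Cfsg.Agent.Omega.NO3S.EThree
open Cfsg.Agent.Omega.NO3S.EThree.ExactA (eab_mono eab_sup eab_iff)
open scoped commutatorElement

universe u

section pure

variable {G : Type u} [Group G]

theorem three_mem_sup {A B : Subgroup G} (h : A ≤ normalizer (B : Set G)) {x : G} (hx : x ∈ A ⊔ B) :
    ∃ a ∈ A, a⁻¹ * x ∈ B := by
  rw [Subgroup.sup_eq_closure] at hx
  induction hx using closure_induction with
  | mem x hx =>
    rcases hx with hx | hx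
    · exact ⟨x, hx, by rw [inv_mul_cancel]; exact one_mem _⟩
    · exact ⟨1, one_mem _, by rwa [inv_one, one_mul]⟩
  | one => exact ⟨1, one_mem _, by simp⟩
  | mul x y _ _ h1 h2 =>
    obtain ⟨a, ha, hx⟩ := h1
    obtain ⟨b, hb, hy⟩ := h2
    refine ⟨a * b, mul_mem ha hb, ?_⟩
    have e : (a * b)⁻¹ * (x * y) = b⁻¹ * (a⁻¹ * x) * b⁻¹⁻¹ * (b⁻¹ * y) := by group
    rw [e]
    exact mul_mem ((mem_normalizer_iff.1 (h (inv_mem hb)) _).1 hx) hy
  | inv x _ h1 =>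
    obtain ⟨a, ha, hx⟩ := h1
    refine ⟨a⁻¹, inv_mem ha, ?_⟩
    have e : a⁻¹⁻¹ * x⁻¹ = a * (a⁻¹ * x)⁻¹ * a⁻¹ := by group
    rw [e]
    exact (mem_normalizer_iff.1 (h ha) _).1 (inv_mem hx)

/-- powers modulo `B` -/
theorem three_pow_mem {A B : Subgroup G} (h : A ≤ normalizer (B : Set G)) {a x : G} (ha : a ∈ A) (hx : a⁻¹ * x ∈ B)
    (n : ℕ) : (a ^ n)⁻¹ * x ^ n ∈ B := by
  induction n with
  | zero => simp
  | succ n ih =>
    have e : (a ^ (n + 1))⁻¹ * x ^ (n + 1) = a⁻¹ * ((a ^ n)⁻¹ * x ^ n) * a⁻¹⁻¹ * (a⁻¹ * x) := by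
      rw [pow_succ, pow_succ]
      group
    rw [e]
    exact mul_mem ((mem_normalizer_iff.1 (h (inv_mem ha)) _).1 ih) hx

/-- if `R = T (K ∩ R)` with a 2-group `T`, some `x ^ (2 ^ n)` lies in `K` -/
theorem three_exists_pow {T N : Subgroup G} (h : T ≤ normalizer (N : Set G)) (hT : IsPGroup 2 T) {x : G}
    (hx : x ∈ T ⊔ N) : ∃ n : ℕ, x ^ 2 ^ n ∈ N := by
  obtain ⟨a, ha, hax⟩ := three_mem_sup h hx
  obtain ⟨n, hn⟩ := hT ⟨a, ha⟩
  refine ⟨n, ?_⟩
  have h1 := three_pow_mem h ha hax (2 ^ n)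
  have h2 : a ^ 2 ^ n = 1 := by simpa using congrArg Subtype.val hn
  rwa [h2, inv_one, one_mul] at h1

/-- `[E, K] ≤ N` for the normal closure `K` of `F` -/
theorem three_comm_nc {H E N F : Subgroup G} (hE : H ≤ normalizer (E : Set G)) (hN : H ≤ normalizer (N : Set G))
    (hFH : F ≤ H) (hF : ∀ e ∈ E, ∀ f ∈ F, ⁅e, f⁆ ∈ N) : ∀ e ∈ E, ∀ x ∈ nc H F, ⁅e, x⁆ ∈ N := by
  have key : ∀ x ∈ nc H F, x ∈ H ∧ ∀ e ∈ E, ⁅e, x⁆ ∈ N := by
    intro x hx
    rw [nc, Subgroup.iSup_eq_closure] at hx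
    induction hx using closure_induction with
    | mem x hx =>
      obtain ⟨y, hy⟩ := Set.mem_iUnion.1 hx
      obtain ⟨f, hf, e⟩ := hy
      have e' : x = (y : G) * f * (y : G)⁻¹ := by rw [← e]; rfl
      refine ⟨by rw [e']; exact mul_mem (mul_mem y.2 (hFH hf)) (inv_mem y.2), fun n hn => ?_⟩
      have hn' : (y : G)⁻¹ * n * y ∈ E := by
        have := (mem_normalizer_iff.1 (hE (inv_mem y.2)) n).1 hn
        rwa [inv_inv] at this
      have h1 := hF _ hn' f hf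
      have h2 : (y : G) * ⁅(y : G)⁻¹ * n * y, f⁆ * (y : G)⁻¹ ∈ N := (mem_normalizer_iff.1 (hN y.2) _).1 h1
      have h3 : ⁅n, x⁆ = (y : G) * ⁅(y : G)⁻¹ * n * y, f⁆ * (y : G)⁻¹ := by
        rw [e']
        simp only [commutatorElement_def]
        group
      rwa [h3]
    | one => exact ⟨one_mem _, fun e _ => by simp⟩
    | mul x y _ _ h1 h2 =>
      refine ⟨mul_mem h1.1 h2.1, fun e he => ?_⟩
      have e1 : ⁅e, x * y⁆ = ⁅e, x⁆ * (x * ⁅e, y⁆ * x⁻¹) := by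
        simp only [commutatorElement_def]
        group
      rw [e1]
      exact mul_mem (h1.2 e he) ((mem_normalizer_iff.1 (hN h1.1) _).1 (h2.2 e he))
    | inv x _ h1 =>
      refine ⟨inv_mem h1.1, fun e he => ?_⟩
      have e1 : ⁅e, x⁻¹⁆ = x⁻¹ * ⁅e, x⁆⁻¹ * x⁻¹⁻¹ := by
        simp only [commutatorElement_def]
        group
      rw [e1]
      exact (mem_normalizer_iff.1 (hN (inv_mem h1.1)) _).1 (inv_mem (h1.2 e he))
  exact fun e he x hx => (key x hx).2 e he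

theorem Ind.pow {L : Subgroup G} {z : Fin 5 → G} {g : G} {σ : Equiv.Perm (Fin 5)} (h : Ind L z g σ) (n : ℕ) :
    Ind L z (g ^ n) (σ ^ n) := by
  induction n with
  | zero => simpa using Ind.one
  | succ n ih =>
    rw [pow_succ, pow_succ]
    exact ih.mul h

end pure

/-- the three-cycle -/
theorem perm_three_pow {σ : Equiv.Perm (Fin 5)} (h0 : σ 0 = 0) (h4 : σ 4 = 4) (h1 : σ 1 = 2) (h2 : σ 2 = 3)
    (h3 : σ 3 = 1) (n : ℕ) : σ ^ 4 ^ n = σ := by
  have hc : σ ^ 3 = 1 := by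
    ext a
    have e : (σ ^ 3) a = σ (σ (σ a)) := by
      simp [pow_succ]
    rw [e]
    fin_cases a <;> simp [h0, h4, h1, h2, h3]
  induction n with
  | zero => simp
  | succ n ih =>
    rw [pow_succ, pow_mul, ih]
    have e : σ ^ 4 = σ ^ 3 * σ := by rw [← pow_succ]
    rw [e, hc, one_mul]

variable {G : Type u} [Group G] [Finite G] {L T : Subgroup G} {z : Fin 5 → G}

theorem three_Zc_comm (a b : Fin 5) : Zc z a b = Zc z b a := by
  unfold Zc
  congr 1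
  ext g
  constructor
  · rintro ⟨c, h1, h2, h3⟩
    exact ⟨c, h2, h1, h3⟩
  · rintro ⟨c, h1, h2, h3⟩
    exact ⟨c, h2, h1, h3⟩

theorem three_N_comm (a b : Fin 5) : N L z a b = N L z b a := by
  rw [N, N, Y_comm, three_Zc_comm]

section main

variable (h : Fr5 L T z)
include h

/-- `K` normal in `Y_04` with `F ≤ K ∩ O_2(X_12)` moving `N_04`: `K ∩ R` moves `z_3` -/
theorem Fr5.inf_moves {K R : Subgroup G} (hKY : K ≤ Y L z 0 4) (hYK : Y L z 0 4 ≤ normalizer (K : Set G))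
    {F : Subgroup G} (hFK : F ≤ K) (hFX : F ≤ X z 1 2) (hFm : ¬ F ≤ centralizer (N L z 0 4 : Set G))
    (hTR : T ≤ R) (hRL : R ≤ L ⊓ centralizer {z 0, z 4}) (hRX : ¬ R ≤ X z 1 2)
    (hmin : ∀ R' : Subgroup G, T ≤ R' → R' ≤ R → ¬ R' ≤ X z 1 2 → R ≤ R') : ¬ K ⊓ R ≤ X z 1 2 := by
  intro hKR
  set Λ : Subgroup G := L ⊓ centralizer {z 0, z 4} with hΛ
  have hΛY : Λ ≤ Y L z 0 4 := cl_le_Y 0 4
  have hRY : R ≤ Y L z 0 4 := hRL.trans hΛY
  -- Frattini
  have hsK : Syl (T ⊓ K) K := SQ1.FFOne.syl_inf h.syl hKY fun y hy k hk =>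
    (mem_normalizer_iff.1 (hYK hy) k).1 hk
  have hsKL : Syl (T ⊓ K) (K ⊓ R) :=
    ⟨le_inf inf_le_right (inf_le_left.trans hTR), hsK.2.1, fun Q h1 h2 h3 => hsK.2.2 Q (h1.trans inf_le_left) h2 h3⟩
  have hRKR : ∀ g ∈ R, cj g (K ⊓ R) = K ⊓ R := by
    intro g hg
    rw [cj_inf, cj_eq_of_mem_normalizer (hYK (hRY hg)), cj_eq_of_mem_normalizer (Subgroup.le_normalizer hg)]
  have hfrat : R ≤ (K ⊓ R) ⊔ (R ⊓ normalizer ((T ⊓ K : Subgroup G) : Set G)) := by
    intro g hg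
    have h1 : Syl (cj g (T ⊓ K)) (K ⊓ R) := by
      refine ⟨?_, ?_, fun Q h1 h2 h3 => ?_⟩
      · have := cj_mono g hsKL.1
        rwa [hRKR g hg] at this
      · exact hsKL.2.1.map _
      · have h4 := hsKL.2.2 (cj g⁻¹ Q) (by
          have := cj_mono g⁻¹ h1
          rwa [hRKR g⁻¹ (inv_mem hg)] at this) (h2.map _) (by
          have := cj_mono g⁻¹ h3
          rwa [cj_inv_cj] at this)
        rw [← h4, cj_cj_inv]
    obtain ⟨x, hx, e⟩ := syl_conj h1 hsKL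
    rw [cj_cj] at e
    have h2 : x * g ∈ R ⊓ normalizer ((T ⊓ K : Subgroup G) : Set G) :=
      mem_inf.2 ⟨mul_mem (mem_inf.1 hx).2 hg, mem_normalizer_iff_cj.2 e⟩
    have h3 := mul_mem (mem_sup_left (inv_mem hx) : x⁻¹ ∈ (K ⊓ R) ⊔ (R ⊓ normalizer ((T ⊓ K : Subgroup G) : Set G)))
      (mem_sup_right h2)
    rwa [inv_mul_cancel_left] at h3
  -- `R` normalises `T ∩ K`
  have hRN : R ≤ normalizer ((T ⊓ K : Subgroup G) : Set G) := by
    have h1 : T ≤ R ⊓ normalizer ((T ⊓ K : Subgroup G) : Set G) := by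
      refine le_inf hTR fun t ht => ?_
      rw [mem_normalizer_iff_cj, cj_inf, cj_eq_of_mem_normalizer (Subgroup.le_normalizer ht),
        cj_eq_of_mem_normalizer (hYK (h.TY ht))]
    by_cases h2 : R ⊓ normalizer ((T ⊓ K : Subgroup G) : Set G) ≤ X z 1 2
    · exact absurd (hfrat.trans (sup_le hKR h2)) hRX
    · exact (hmin _ h1 inf_le_left h2).trans inf_le_right
  -- `Y_04 = ⟨X_12, R⟩`
  have hΛR : Λ ≤ X z 1 2 ⊔ R := by
    rw [SetLike.not_le_iff_exists] at hRX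
    obtain ⟨ρ, hρR, hρX⟩ := hRX
    obtain ⟨τ, hτ, t0, t4⟩ := h.ind_cl (hRL hρR)
    have t3 : τ 3 ≠ 3 := by
      intro e
      exact hρX (mem_X12 h (hτ.comm_of t0) (hτ.comm_of e) (hτ.comm_of t4))
    have t30 : τ 3 ≠ 0 := fun e => absurd (τ.injective (e.trans t0.symm)) (by decide)
    have t34 : τ 3 ≠ 4 := fun e => absurd (τ.injective (e.trans t4.symm)) (by decide)
    intro g hg
    obtain ⟨σ, hσ, s0, s4⟩ := h.ind_cl hg
    by_cases s3 : σ 3 = 3
    · exact mem_sup_left (mem_X12 h (hσ.comm_of s0) (hσ.comm_of s3) (hσ.comm_of s4))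
    have s30 : σ 3 ≠ 0 := fun e => absurd (σ.injective (e.trans s0.symm)) (by decide)
    have s34 : σ 3 ≠ 4 := fun e => absurd (σ.injective (e.trans s4.symm)) (by decide)
    -- `x ∈ X_12` maps `τ 3` to `σ 3`
    obtain ⟨x, μ, hx, m0, m4, m3, mm⟩ : ∃ x μ, Ind L z x μ ∧ μ 0 = 0 ∧ μ 4 = 4 ∧ μ 3 = 3 ∧ μ (τ 3) = σ 3 := by
      obtain ⟨μ, m0, m4, m3, mm⟩ := perm_four (a := 0) (b := 4) (c := 3) (d := τ 3) (a' := 0) (b' := 4) (c' := 3)
        (d' := σ 3) (by decide) (by decide) (by decide) t30.symm t34.symm (fun e => t3 e.symm) (by decide)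
        (by decide) (by decide) s30.symm s34.symm (fun e => s3 e.symm)
      obtain ⟨x, hx⟩ := h.ind μ
      exact ⟨x, μ, hx, m0, m4, m3, mm⟩
    have hxX : x ∈ X z 1 2 := mem_X12 h (hx.comm_of m0) (hx.comm_of m3) (hx.comm_of m4)
    have hI := (hx.mul hτ).inv.mul hσ
    have h1 : (x * ρ)⁻¹ * g ∈ X z 1 2 := by
      refine mem_X12 h (hI.comm_of ?_) (hI.comm_of ?_) (hI.comm_of ?_)
      · rw [Equiv.Perm.mul_apply, Equiv.Perm.inv_eq_iff_eq, Equiv.Perm.mul_apply, s0, t0, m0]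
      · rw [Equiv.Perm.mul_apply, Equiv.Perm.inv_eq_iff_eq, Equiv.Perm.mul_apply, mm]
      · rw [Equiv.Perm.mul_apply, Equiv.Perm.inv_eq_iff_eq, Equiv.Perm.mul_apply, s4, t4, m4]
    have h2 : x * ρ ∈ X z 1 2 ⊔ R := mul_mem (mem_sup_left hxX) (mem_sup_right hρR)
    have h3 := mul_mem h2 (mem_sup_left h1 : (x * ρ)⁻¹ * g ∈ X z 1 2 ⊔ R)
    rwa [mul_inv_cancel_left] at h3
  have hYD : Y L z 0 4 ≤ X z 1 2 ⊔ R := h.Y_le_of le_sup_left hΛR
  have hDY : X z 1 2 ⊔ R ≤ Y L z 0 4 := sup_le h.X_le_Y04 hRY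
  have hWT : N L z 0 4 ≤ T := by
    refine (ChoiceSit.le_o2 (h.W_two.to_le h.N04_le_W) ?_ (Y_norm_N 0 4)).trans (ChoiceSit.o2_le_syl h.syl)
    exact h.N04_le_O.trans h.O_le_Y04
  have hz3 : z 3 ∈ N L z 0 4 ⊓ centralizer (X z 1 2 : Set G) := by
    refine mem_inf.2 ⟨z_mem_N (by decide) (by decide), mem_centralizer_iff.2 fun x hx => ?_⟩
    exact (mem_X_iff.1 hx 3 (by decide) (by decide)).symm
  have hmv : ∃ y ∈ X z 1 2 ⊔ R, ¬ F ≤ centralizer (cj y (N L z 0 4 ⊓ centralizer (X z 1 2 : Set G)) : Set G) := by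
    by_contra hcon
    push Not at hcon
    apply hFm
    rw [Subgroup.le_centralizer_iff]
    refine h.N04_le.trans (iSup_le fun y => ?_)
    have h1 := hcon y (hYD y.2)
    rw [Subgroup.le_centralizer_iff] at h1
    exact (cj_mono (y : G) (zpowers_le.2 hz3)).trans h1
  obtain ⟨y, hy, hFy⟩ := hmv
  refine EDel.QP.moves_of (B := T) (D := X z 1 2) (L := R) (W := N L z 0 4) (K := K)
    (Z := N L z 0 4 ⊓ centralizer (X z 1 2 : Set G)) h.sylX ?_ hWT ?_ ?_ ?_ inf_le_left ?_ ?_ ?_ ?_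
    (le_inf hFK hFX) hy hFy hRN
  · rw [Subgroup.le_centralizer_iff]
    exact inf_le_right
  · intro x hx y hy
    exact (mem_centralizer_iff.1 ((eab_iff.1 h.eab04).1 hy) x hx)
  · intro x hx
    have := (eab_iff.1 h.eab04).2 x hx
    rwa [pow_two] at this
  · exact hDY.trans (Y_norm_N 0 4)
  · exact le_inf inf_le_left ((inf_le_inf_right _ h.N04_le_W).trans h.cw)
  · exact hKY.trans hYD
  · exact hDY.trans hYK
  · intro x hx
    obtain ⟨h1, h2⟩ := mem_inf.1 hx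
    exact h.Y04_cent (hKY h1) (mem_centralizer_iff.1 h2 _ hz3)

theorem Fr5.T_le : T ≤ L ⊓ centralizer {z 0, z 4} := by
  intro t ht
  exact mem_cl_iff.2 ⟨h.TL ht, mem_X_iff.1 (h.TX ht) 0 (by decide) (by decide),
    mem_X_iff.1 (h.TX ht) 4 (by decide) (by decide)⟩

/-- some power `x ^ (2 ^ n)` of every `x ∈ R` lies in `K` -/
theorem Fr5.exists_pow {K R : Subgroup G} (hKY : K ≤ Y L z 0 4) (hYK : Y L z 0 4 ≤ normalizer (K : Set G))
    {F : Subgroup G} (hFK : F ≤ K) (hFX : F ≤ X z 1 2) (hFm : ¬ F ≤ centralizer (N L z 0 4 : Set G))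
    (hTR : T ≤ R) (hRL : R ≤ L ⊓ centralizer {z 0, z 4}) (hRX : ¬ R ≤ X z 1 2)
    (hmin : ∀ R' : Subgroup G, T ≤ R' → R' ≤ R → ¬ R' ≤ X z 1 2 → R ≤ R') {x : G} (hx : x ∈ R) :
    ∃ n : ℕ, x ^ 2 ^ n ∈ K := by
  have h1 := h.inf_moves hKY hYK hFK hFX hFm hTR hRL hRX hmin
  have h2 : R ≤ T ⊔ (K ⊓ R) := hmin _ le_sup_left (sup_le hTR inf_le_right) fun h2 => h1 (le_sup_right.trans h2)
  have hTn : T ≤ normalizer ((K ⊓ R : Subgroup G) : Set G) := by
    intro t ht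
    rw [mem_normalizer_iff_cj, cj_inf, cj_eq_of_mem_normalizer (hYK (h.TY ht)),
      cj_eq_of_mem_normalizer (Subgroup.le_normalizer (hTR ht))]
  obtain ⟨n, hn⟩ := three_exists_pow hTn h.syl.2.1 (h2 hx)
  exact ⟨n, (mem_inf.1 hn).1⟩

/-- `T` contains an element over `(1 2)` -/
theorem Fr5.exists_t : ∃ t ∈ T, ∃ σ, Ind L z t σ ∧ σ 0 = 0 ∧ σ 3 = 3 ∧ σ 4 = 4 ∧ σ 1 = 2 ∧ σ 2 = 1 := by
  obtain ⟨g, hg⟩ := h.ind (Equiv.swap 1 2)
  obtain ⟨k, m, hm, he⟩ := Nat.exists_eq_two_pow_mul_odd (orderOf_pos g).ne'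
  have hpw : (Equiv.swap (1 : Fin 5) 2) ^ m = Equiv.swap 1 2 := by
    obtain ⟨j, rfl⟩ := hm
    rw [pow_succ, pow_mul, pow_two, Equiv.swap_mul_self, one_pow, one_mul]
  have hgm : Ind L z (g ^ m) (Equiv.swap 1 2) := by
    have := hg.pow m
    rwa [hpw] at this
  have hmX : g ^ m ∈ X z 1 2 :=
    mem_X12 h (hgm.comm_of (by decide)) (hgm.comm_of (by decide)) (hgm.comm_of (by decide))
  have h2 : IsPGroup 2 (zpowers (g ^ m)) := by
    rintro ⟨y, hy⟩
    obtain ⟨i, rfl⟩ := mem_zpowers_iff.1 hy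
    refine ⟨k, Subtype.ext ?_⟩
    change ((g ^ m) ^ i) ^ 2 ^ k = 1
    rw [← zpow_natCast ((g ^ m) ^ i), zpow_comm, zpow_natCast, ← pow_mul, mul_comm m, ← he, pow_orderOf_eq_one,
      one_zpow]
  have hsA : Syl T (X z 1 2 ⊓ L) :=
    ⟨le_inf h.TX h.TL, h.syl.2.1, fun Q h1 h2 h3 => h.sylX.2.2 Q (h1.trans inf_le_left) h2 h3⟩
  obtain ⟨Q, hQ, hmQ⟩ := exists_syl h2 (zpowers_le.2 (mem_inf.2 ⟨hmX, hgm.mem⟩))
  obtain ⟨x, hx, e⟩ := syl_conj hQ hsA
  have hxL : x ∈ L := (mem_inf.1 hx).2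
  have htT : x * g ^ m * x⁻¹ ∈ T := by
    rw [← e]
    exact ⟨g ^ m, hmQ (mem_zpowers _), rfl⟩
  obtain ⟨τ, hτ⟩ := h.ind_of (h.TL htT)
  have t0 : τ 0 = 0 := h.fix hτ (mem_X_iff.1 (h.TX htT) 0 (by decide) (by decide))
  have t3 : τ 3 = 3 := h.fix hτ (mem_X_iff.1 (h.TX htT) 3 (by decide) (by decide))
  have t4 : τ 4 = 4 := h.fix hτ (mem_X_iff.1 (h.TX htT) 4 (by decide) (by decide))
  have cases5 : ∀ a : Fin 5, a = 0 ∨ a = 1 ∨ a = 2 ∨ a = 3 ∨ a = 4 := by decide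
  have hval : ∀ a : Fin 5, a ≠ 0 → a ≠ 3 → a ≠ 4 → τ a = 1 ∨ τ a = 2 := by
    intro a ha0 ha3 ha4
    rcases cases5 (τ a) with e | e | e | e | e
    · exact absurd (τ.injective (e.trans t0.symm)) ha0
    · exact Or.inl e
    · exact Or.inr e
    · exact absurd (τ.injective (e.trans t3.symm)) ha3
    · exact absurd (τ.injective (e.trans t4.symm)) ha4
  have v1 := hval 1 (by decide) (by decide) (by decide)
  have v2 := hval 2 (by decide) (by decide) (by decide)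
  have n12 : τ 1 ≠ τ 2 := fun e => absurd (τ.injective e) (by decide)
  rcases v1 with e1 | e1
  · exfalso
    have e2 : τ 2 = 2 := by
      rcases v2 with e2 | e2
      · exact absurd (e1.trans e2.symm) n12
      · exact e2
    -- `t` fixes all letters
    have hall : ∀ a, τ a = a := by
      intro a
      rcases cases5 a with e | e | e | e | e <;> rw [e] <;> assumption
    have hfix : ∀ a, z a * (x * g ^ m * x⁻¹) = x * g ^ m * x⁻¹ * z a := fun a => hτ.comm_of (hall a)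
    obtain ⟨μ, hμ⟩ := h.ind_of hxL
    have h5 : z 1 * g ^ m = g ^ m * z 1 := by
      have h6 := hfix (μ 1)
      rw [← hμ.eq 1] at h6
      calc z 1 * g ^ m = x⁻¹ * (x * z 1 * x⁻¹ * (x * g ^ m * x⁻¹)) * x := by group
        _ = x⁻¹ * (x * g ^ m * x⁻¹ * (x * z 1 * x⁻¹)) * x := by rw [h6]
        _ = g ^ m * z 1 := by group
    have h7 := h.fix hgm h5
    exact absurd h7 (by decide)
  · have e2 : τ 2 = 1 := by
      rcases v2 with e2 | e2
      · exact e2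
      · exact absurd (e1.trans e2.symm) n12
    exact ⟨_, htT, τ, hτ, t0, t3, t4, e1, e2⟩

/-- an element of `R` over the three-cycle -/
theorem Fr5.exists_cycle {R : Subgroup G} (hTR : T ≤ R) (hRL : R ≤ L ⊓ centralizer {z 0, z 4})
    (hRX : ¬ R ≤ X z 1 2) : ∃ r ∈ R, ∃ σ, Ind L z r σ ∧ σ 0 = 0 ∧ σ 4 = 4 ∧ σ 1 = 2 ∧ σ 2 = 3 ∧ σ 3 = 1 := by
  obtain ⟨t, ht, τ, hτ, t0, t3, t4, t1, t2⟩ := h.exists_t
  have htR := hTR ht
  rw [SetLike.not_le_iff_exists] at hRX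
  obtain ⟨ρ, hρR, hρX⟩ := hRX
  obtain ⟨σ, hσ, s0, s4⟩ := h.ind_cl (hRL hρR)
  have s3 : σ 3 ≠ 3 := fun e => hρX (mem_X12 h (hσ.comm_of s0) (hσ.comm_of e) (hσ.comm_of s4))
  have hne : ∀ a b : Fin 5, a ≠ b → σ a ≠ σ b := fun a b hab e => hab (σ.injective e)
  have cases5 : ∀ a : Fin 5, a = 0 ∨ a = 1 ∨ a = 2 ∨ a = 3 ∨ a = 4 := by decide
  have hval : ∀ a : Fin 5, a ≠ 0 → a ≠ 4 → σ a = 1 ∨ σ a = 2 ∨ σ a = 3 := by
    intro a ha0 ha4
    rcases cases5 (σ a) with e | e | e | e | e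
    · exact absurd (σ.injective (e.trans s0.symm)) ha0
    · exact Or.inl e
    · exact Or.inr (Or.inl e)
    · exact Or.inr (Or.inr e)
    · exact absurd (σ.injective (e.trans s4.symm)) ha4
  have v1 := hval 1 (by decide) (by decide)
  have v2 := hval 2 (by decide) (by decide)
  have v3 := hval 3 (by decide) (by decide)
  have n12 := hne 1 2 (by decide)
  have n13 := hne 1 3 (by decide)
  have n23 := hne 2 3 (by decide)
  rcases v3 with e3 | e3 | e3
  · -- `σ 3 = 1`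
    rcases v1 with e1 | e1 | e1
    · exact absurd (e1.trans e3.symm) n13
    · have e2 : σ 2 = 3 := by
        rcases v2 with e2 | e2 | e2
        · exact absurd (e2.trans e3.symm) n23
        · exact absurd (e1.trans e2.symm) n12
        · exact e2
      exact ⟨ρ, hρR, σ, hσ, s0, s4, e1, e2, e3⟩
    · have e2 : σ 2 = 2 := by
        rcases v2 with e2 | e2 | e2
        · exact absurd (e2.trans e3.symm) n23
        · exact e2
        · exact absurd (e1.trans e2.symm) n12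
      refine ⟨ρ * t, mul_mem hρR htR, σ * τ, hσ.mul hτ, ?_, ?_, ?_, ?_, ?_⟩ <;>
        rw [Equiv.Perm.mul_apply] <;> simp only [t0, t1, t2, t3, t4, s0, s4, e1, e2, e3]
  · -- `σ 3 = 2`
    rcases v1 with e1 | e1 | e1
    · have e2 : σ 2 = 3 := by
        rcases v2 with e2 | e2 | e2
        · exact absurd (e1.trans e2.symm) n12
        · exact absurd (e2.trans e3.symm) n23
        · exact e2
      refine ⟨t * ρ, mul_mem htR hρR, τ * σ, hτ.mul hσ, ?_, ?_, ?_, ?_, ?_⟩ <;>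
        rw [Equiv.Perm.mul_apply] <;> simp only [t0, t1, t2, t3, t4, s0, s4, e1, e2, e3]
    · exact absurd (e1.trans e3.symm) n13
    · have e2 : σ 2 = 1 := by
        rcases v2 with e2 | e2 | e2
        · exact e2
        · exact absurd (e2.trans e3.symm) n23
        · exact absurd (e1.trans e2.symm) n12
      refine ⟨ρ * ρ, mul_mem hρR hρR, σ * σ, hσ.mul hσ, ?_, ?_, ?_, ?_, ?_⟩ <;>
        rw [Equiv.Perm.mul_apply] <;> simp only [s0, s4, e1, e2, e3]
  · exact absurd e3 s3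

/-- `⨆ W_a = W_0 W_4` -/
theorem Fr5.iSup_W_le (hL : Lev L z) : ⨆ a, W L z a ≤ W L z 0 ⊔ W L z 4 := by
  refine iSup_le fun a => ?_
  by_cases h0 : a = 0
  · rw [h0]
    exact le_sup_left
  by_cases h4 : a = 4
  · rw [h4]
    exact le_sup_right
  exact h.W_le_W' hL h0 h4 (by decide)

theorem Fr5.Wa_le_Y04 (a : Fin 5) : W L z a ≤ Y L z 0 4 :=
  ((h.Wa_le a).trans (ChoiceSit.o2_le _)).trans ((h.C_le_X 1 2).trans h.X_le_Y04)

/-- **(P1)**, with the conclusion of `Fr5.lever` as hypothesis -/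
theorem Fr5.exists_three_of (hLev : ∃ F : Subgroup G, F ≤ o2 (X z 1 2) ∧
      ¬ F ≤ centralizer (N L z 0 4 : Set G) ∧ ∀ e ∈ W L z 0, ∀ f ∈ F, ⁅e, f⁆ ∈ N L z 0 4)
    (hW : ⨆ a, W L z a ≤ W L z 0 ⊔ W L z 4) :
    ∃ r σ, Ind L z r σ ∧ σ 0 = 0 ∧ σ 4 = 4 ∧ σ 1 = 2 ∧ σ 2 = 3 ∧ σ 3 = 1 ∧
      ∀ v ∈ (⨆ a, W L z a), ⁅v, r⁆ ∈ N L z 0 4 := by
  obtain ⟨F, hFO, hFm, hF⟩ := hLev
  have hFX : F ≤ X z 1 2 := hFO.trans (ChoiceSit.o2_le _)
  have hFY : F ≤ Y L z 0 4 := hFX.trans h.X_le_Y04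
  have hYW0 : Y L z 0 4 ≤ normalizer (W L z 0 : Set G) := (Y_le_M_left 0 4).trans (M_norm_W 0)
  have hYN : Y L z 0 4 ≤ normalizer (N L z 0 4 : Set G) := Y_norm_N 0 4
  have c1 := three_comm_nc hYW0 hYN hFY hF
  -- `s` over `(0 4)`
  obtain ⟨s, hs⟩ := h.ind (Equiv.swap 0 4)
  have s0 : (Equiv.swap (0 : Fin 5) 4) 0 = 4 := by decide
  have s4 : (Equiv.swap (0 : Fin 5) 4) 4 = 0 := by decide
  have s1 : (Equiv.swap (0 : Fin 5) 4) 1 = 1 := by decide
  have s2 : (Equiv.swap (0 : Fin 5) 4) 2 = 2 := by decide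
  have eY : cj s (Y L z 0 4) = Y L z 0 4 := by rw [hs.Y_eq, s0, s4, Y_comm]
  have eN : cj s (N L z 0 4) = N L z 0 4 := by rw [hs.N_eq, s0, s4, three_N_comm]
  have eX : cj s (X z 1 2) = X z 1 2 := by rw [hs.X_eq, s1, s2]
  have eW : cj s (W L z 0) = W L z 4 := by rw [hs.W_eq, s0]
  have hFX' : cj s F ≤ X z 1 2 := eX ▸ cj_mono s hFX
  have hFY' : cj s F ≤ Y L z 0 4 := hFX'.trans h.X_le_Y04
  have hFm' : ¬ cj s F ≤ centralizer (N L z 0 4 : Set G) := by
    intro hc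
    rw [← eN, ← cj_centralizer] at hc
    have h1 := cj_mono s⁻¹ hc
    rw [cj_inv_cj, cj_inv_cj] at h1
    exact hFm h1
  have hYW4 : Y L z 0 4 ≤ normalizer (W L z 4 : Set G) := (Y_le_M_right 0 4).trans (M_norm_W 4)
  have hF' : ∀ e ∈ W L z 4, ∀ f ∈ cj s F, ⁅e, f⁆ ∈ N L z 0 4 := by
    rintro e he _ ⟨f, hf, rfl⟩
    rw [← eW] at he
    obtain ⟨e, he, rfl⟩ := he
    rw [← eN]
    exact ⟨_, hF e he f hf, map_commutatorElement _ _ _⟩
  have c2 := three_comm_nc hYW4 hYN hFY' hF'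
  -- the minimal `R`
  obtain ⟨R, ⟨hTR, hRL, hRX⟩, hmin⟩ := Set.Finite.exists_minimal
    (s := {R : Subgroup G | T ≤ R ∧ R ≤ L ⊓ centralizer {z 0, z 4} ∧ ¬ R ≤ X z 1 2}) (Set.toFinite _)
    ⟨L ⊓ centralizer {z 0, z 4}, h.T_le, le_rfl, by
      obtain ⟨τ, t0, t4, t3⟩ := perm_three (a := 0) (b := 4) (c := 3) (a' := 0) (b' := 4) (c' := 1) (by decide)
        (by decide) (by decide) (by decide) (by decide) (by decide)
      obtain ⟨y, hy⟩ := h.ind τ
      intro hc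
      have h1 := hc (hy.mem_cl t0 t4)
      have h2 := h.fix hy (mem_X_iff.1 h1 3 (by decide) (by decide))
      rw [t3] at h2
      exact absurd h2 (by decide)⟩
  have hmin' : ∀ R' : Subgroup G, T ≤ R' → R' ≤ R → ¬ R' ≤ X z 1 2 → R ≤ R' :=
    fun R' h1 h2 h3 => hmin ⟨h1, h2.trans hRL, h3⟩ h2
  obtain ⟨x, hxR, σ, hσ, e0, e4, e1, e2, e3⟩ := h.exists_cycle hTR hRL hRX
  obtain ⟨n1, hn1⟩ := h.exists_pow (nc_le hFY Subgroup.le_normalizer) (nc_norm _ _) (le_nc _ _) hFX hFm hTR hRL hRX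
    hmin' hxR
  obtain ⟨n2, hn2⟩ := h.exists_pow (nc_le hFY' Subgroup.le_normalizer) (nc_norm _ _) (le_nc _ _) hFX' hFm' hTR hRL
    hRX hmin' hxR
  have hdvd : ∀ n m : ℕ, n ≤ m → ∀ K : Subgroup G, x ^ 2 ^ n ∈ K → x ^ 4 ^ m ∈ K := by
    intro n m hnm K hK
    have h4 : (4 : ℕ) ^ m = 2 ^ n * 2 ^ (2 * m - n) := by
      rw [← pow_add, show (4 : ℕ) = 2 ^ 2 from rfl, ← pow_mul]
      congr 1
      omega
    rw [h4, pow_mul]
    exact pow_mem hK _
  have k1 := hdvd n1 (n1 + n2) (Nat.le_add_right _ _) _ hn1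
  have k2 := hdvd n2 (n1 + n2) (Nat.le_add_left _ _) _ hn2
  refine ⟨x ^ 4 ^ (n1 + n2), σ, ?_, e0, e4, e1, e2, e3, ?_⟩
  · have := hσ.pow (4 ^ (n1 + n2))
    rwa [perm_three_pow e0 e4 e1 e2 e3] at this
  · intro v hv
    have hv' := hW hv
    have hn : W L z 0 ≤ normalizer (W L z 4 : Set G) := (h.Wa_le_Y04 0).trans hYW4
    obtain ⟨a, ha, hb⟩ := three_mem_sup hn hv'
    have e : v = a * (a⁻¹ * v) := by group
    rw [e]
    have e5 : ∀ a b r : G, ⁅a * b, r⁆ = a * ⁅b, r⁆ * a⁻¹ * ⁅a, r⁆ := by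
      intro a b r
      simp only [commutatorElement_def]
      group
    rw [e5]
    refine mul_mem ((mem_normalizer_iff.1 (hYN (h.Wa_le_Y04 0 ha)) _).1 (c2 _ hb _ k2)) (c1 _ ha _ k1)

/-- **(P1)** -/
theorem Fr5.exists_three (hL : Lev L z) : Three L z :=
  h.exists_three_of hL (h.iSup_W_le hL)

/-- (P1) from `J_03 ≠ J_04` -/
theorem Fr5.exists_three_J (hJ : jj (o2 (Y L z 0 3)) ≠ jj (o2 (Y L z 0 4))) : Three L z :=
  h.exists_three (h.lev_of_J hJ)

end main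

end Cfsg.Agent.Omega.NO3S.MFive

end

section


/-!
# LightL (E), `n = 5`: FAIL, `EE ≠ ∅` (helper736 #25382 over M5 and helper155's `exists_three_of`)

* `Fr5.three_of_lev` : `Lev L z → Three L z`;
* `FailHyp.local_lev`, `FailHyp.local_off` : `⟨L, D⟩` normalises a nontrivial 2-group if `Lev L z` holds, resp. if some
  elementary abelian `A ≤ O_2(X_12)` offends on `W_0`.
-/

set_option autoImplicit false
set_option linter.unusedSectionVars false
set_option linter.unusedVariables false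

namespace Cfsg.Agent.Omega.NO3S.MFive

open Subgroup Cfsg Cfsg.Agent.ZN Cfsg.Agent.ZN.ChoiceBase
open Cfsg.Agent.ZN.ChoiceSit
open Cfsg.Agent.Omega.NO3S.EThree

universe u

variable {G : Type u} [Group G] [Finite G] {L T B : Subgroup G} {z : Fin 5 → G}

theorem Fr5.three_of_lev (h : Fr5 L T z) (hL : Lev L z) : Three L z := h.exists_three hL

/-- **FAIL, `Lev`.** -/
theorem FailHyp.local_lev (f : FailHyp L T B z) (hL : Lev L z) : ∃ R : Subgroup G, R ≠ ⊥ ∧ IsPGroup 2 R ∧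
    L ≤ normalizer (R : Set G) ∧ DD z ≤ normalizer (R : Set G) :=
  f.local_one hL (f.fr.three_of_lev hL)

/-- **FAIL, `EE ≠ ∅`.** -/
theorem FailHyp.local_off (f : FailHyp L T B z)
    (hE : ∃ A ≤ o2 (X z 1 2), IsElementaryAbelian 2 A ∧ Offd (W L z 0) A) : ∃ R : Subgroup G, R ≠ ⊥ ∧
    IsPGroup 2 R ∧ L ≤ normalizer (R : Set G) ∧ DD z ≤ normalizer (R : Set G) := by
  obtain ⟨A, hA, hAe, hoff⟩ := hE
  exact f.local_lev (f.fr.lev_of_offd hA hAe hoff)

end Cfsg.Agent.Omega.NO3S.MFive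

end

section


/-!
# `Fr5` when `X z 1 2 ≤ L` (helper224)

`Fr5` (helper693) holds also in the world `X_12 ≤ L` (it contains the V4 world): then `M L z 0 ≤ L`, `W L z 0 = V z`,
so `wab`, `cw` are trivial. With `Pre.fr5` (helper829) this gives `Fr5` in every case.
-/

set_option autoImplicit false
set_option linter.unusedSectionVars false

namespace Cfsg.Agent.Omega.NO3S.MFive.Le

open Subgroup Cfsg Cfsg.Agent.ZN Cfsg.Agent.ZN.ChoiceBase
open Cfsg.Agent.ZN.ChoiceSit (Syl)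
open Cfsg.Agent.Omega.EK3.Rank (NoOn)

universe u

variable {G : Type u} [Group G] {L T : Subgroup G} {z : Fin 5 → G}

theorem mem_X {i j : Fin 5} {x : G} : x ∈ X z i j ↔ ∀ k, k ≠ i → k ≠ j → x * z k = z k * x := by
  rw [X, mem_centralizer_iff]
  constructor
  · intro h k h1 h2
    exact (h (z k) ⟨k, h1, h2, rfl⟩).symm
  · rintro h _ ⟨k, h1, h2, rfl⟩
    exact (h k h1 h2).symm

/-- all `X_kl` lie in `L` -/
theorem X_le (full : ∀ σ : Equiv.Perm (Fin 5), ∃ g ∈ L, ∀ a, g * z a * g⁻¹ = z (σ a)) (hX : X z 1 2 ≤ L)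
    {k l : Fin 5} (hkl : k ≠ l) : X z k l ≤ L := by
  intro x hx
  obtain ⟨σ, h1, h2⟩ := perm_two (a := 1) (b := 2) (a' := k) (b' := l) (by decide) hkl
  obtain ⟨g, hg, h3⟩ := full σ
  have h4 : g⁻¹ * x * g ∈ X z 1 2 := by
    refine mem_X.2 fun i hi1 hi2 => ?_
    have e1 : σ i ≠ k := fun e => hi1 (σ.injective (e.trans h1.symm))
    have e2 : σ i ≠ l := fun e => hi2 (σ.injective (e.trans h2.symm))
    have h5 := mem_X.1 hx _ e1 e2
    rw [← h3] at h5
    calc g⁻¹ * x * g * z i = g⁻¹ * (x * (g * z i * g⁻¹)) * g := by group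
      _ = z i * (g⁻¹ * x * g) := by rw [h5]; group
  have h5 := mul_mem (mul_mem hg (hX h4)) (inv_mem hg)
  have e : g * (g⁻¹ * x * g) * g⁻¹ = x := by group
  rwa [e] at h5

theorem M_le_L (full : ∀ σ : Equiv.Perm (Fin 5), ∃ g ∈ L, ∀ a, g * z a * g⁻¹ = z (σ a)) (hX : X z 1 2 ≤ L)
    (a : Fin 5) : M L z a ≤ L :=
  sup_le inf_le_left (iSup_le fun _ => iSup_le fun _ => iSup_le fun h => X_le full hX h.1)

theorem L_norm (act : ∀ g ∈ L, ∃ σ : Equiv.Perm (Fin 5), ∀ a, g * z a * g⁻¹ = z (σ a)) :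
    L ≤ normalizer (V z : Set G) := by
  have key : ∀ g ∈ L, ∀ v ∈ V z, g * v * g⁻¹ ∈ V z := by
    intro g hg v hv
    obtain ⟨σ, hσ⟩ := act g hg
    rw [V] at hv
    induction hv using closure_induction with
    | mem x hx =>
      obtain ⟨i, rfl⟩ := hx
      rw [hσ]
      exact subset_closure ⟨_, rfl⟩
    | one => rw [mul_one, mul_inv_cancel]; exact one_mem _
    | mul x y _ _ ihx ihy =>
      have e : g * (x * y) * g⁻¹ = (g * x * g⁻¹) * (g * y * g⁻¹) := by group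
      rw [e]
      exact mul_mem ihx ihy
    | inv x _ ih =>
      have e : g * x⁻¹ * g⁻¹ = (g * x * g⁻¹)⁻¹ := by group
      rw [e]
      exact inv_mem ih
  intro g hg
  rw [mem_normalizer_iff]
  intro v
  refine ⟨key g hg v, fun hv => ?_⟩
  have h1 := key g⁻¹ (inv_mem hg) _ hv
  have e : g⁻¹ * (g * v * g⁻¹) * g⁻¹⁻¹ = v := by group
  rwa [e] at h1

theorem W_le (act : ∀ g ∈ L, ∃ σ : Equiv.Perm (Fin 5), ∀ a, g * z a * g⁻¹ = z (σ a))
    (full : ∀ σ : Equiv.Perm (Fin 5), ∃ g ∈ L, ∀ a, g * z a * g⁻¹ = z (σ a)) (hX : X z 1 2 ≤ L) (a : Fin 5) :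
    W L z a ≤ V z :=
  nc_le le_rfl ((M_le_L full hX a).trans (L_norm act))

theorem V_comm (comm : ∀ a b, z a * z b = z b * z a) : ∀ x ∈ V z, ∀ y ∈ V z, x * y = y * x := by
  intro x hx y hy
  have h1 : V z ≤ centralizer (V z : Set G) := by
    rw [V, centralizer_closure]
    refine (closure_le _).2 ?_
    rintro _ ⟨i, rfl⟩
    refine mem_centralizer_iff.2 ?_
    rintro _ ⟨j, rfl⟩
    exact comm j i
  exact (mem_centralizer_iff.1 (h1 hx) y hy).symm

theorem V_sq (sq : ∀ a, z a * z a = 1) (comm : ∀ a b, z a * z b = z b * z a) : ∀ x ∈ V z, x * x = 1 := by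
  intro x hx
  have hc := V_comm comm
  rw [V] at hx
  induction hx using closure_induction with
  | mem x hx => obtain ⟨i, rfl⟩ := hx; exact sq i
  | one => group
  | mul x y hx hy ihx ihy =>
    have h1 := hc y hy x hx
    calc x * y * (x * y) = x * (y * x) * y := by group
      _ = (x * x) * (y * y) := by rw [h1]; group
      _ = 1 := by rw [ihx, ihy, one_mul]
  | inv x _ ih =>
    rw [← mul_inv_rev, ih, inv_one]

/-- `C_V(t) ≤ ⟨z_0, z_3, z_4⟩` for `t` over `(12)` -/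
theorem cent_t (sq : ∀ a, z a * z a = 1) (comm : ∀ a b, z a * z b = z b * z a)
    (prod : z 0 = z 1 * z 2 * z 3 * z 4) (inj : Function.Injective z) {t : G} (htX : t ∈ X z 1 2)
    (ht : t * z 1 * t⁻¹ = z 2) {v : G} (hv : v ∈ V z) (htv : t * v = v * t) : v ∈ Zc z 1 2 := by
  have hZV : ∀ w ∈ Zc z 1 2, w ∈ V z := by
    intro w hw
    refine (closure_mono ?_ : Zc z 1 2 ≤ V z) hw
    rintro _ ⟨c, -, -, rfl⟩
    exact ⟨c, rfl⟩
  have hc := V_comm comm
  have hz : ∀ a, z a ∈ V z := fun a => subset_closure ⟨a, rfl⟩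
  have hZ : ∀ {c : Fin 5}, c ≠ 1 → c ≠ 2 → z c ∈ Zc z 1 2 := fun h1 h2 => subset_closure ⟨_, h1, h2, rfl⟩
  have h12 : z 1 * z 2 ∈ Zc z 1 2 := by
    have e : z 1 * z 2 = z 0 * z 4 * z 3 := by
      rw [prod]
      calc z 1 * z 2 = z 1 * z 2 * 1 * 1 := by group
        _ = z 1 * z 2 * (z 3 * z 3) * (z 4 * z 4) := by rw [sq, sq]
        _ = z 1 * z 2 * z 3 * (z 3 * z 4) * z 4 := by group
        _ = z 1 * z 2 * z 3 * (z 4 * z 3) * z 4 := by rw [comm 3 4]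
        _ = z 1 * z 2 * z 3 * z 4 * (z 3 * z 4) := by group
        _ = z 1 * z 2 * z 3 * z 4 * (z 4 * z 3) := by rw [comm 3 4]
        _ = z 1 * z 2 * z 3 * z 4 * z 4 * z 3 := by group
    rw [e]
    exact mul_mem (mul_mem (hZ (by decide) (by decide)) (hZ (by decide) (by decide))) (hZ (by decide) (by decide))
  have key : ∀ v ∈ V z, v ∈ Zc z 1 2 ∨ z 1 * v ∈ Zc z 1 2 := by
    intro v hv
    rw [V] at hv
    induction hv using closure_induction with
    | mem x hx =>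
      obtain ⟨i, rfl⟩ := hx
      by_cases h1 : i = 1
      · right; rw [h1, sq]; exact one_mem _
      by_cases h2 : i = 2
      · right; rw [h2]; exact h12
      · left; exact hZ h1 h2
    | one => left; exact one_mem _
    | mul x y hx hy ihx ihy =>
      have hx' : x ∈ V z := hx
      rcases ihx with k1 | k1 <;> rcases ihy with k2 | k2
      · left; exact mul_mem k1 k2
      · right
        have e : z 1 * (x * y) = x * (z 1 * y) := by
          rw [← mul_assoc, hc _ (hz 1) _ hx', mul_assoc]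
        rw [e]; exact mul_mem k1 k2
      · right; rw [← mul_assoc]; exact mul_mem k1 k2
      · left
        have e : x * y = z 1 * x * (z 1 * y) := by
          calc x * y = x * 1 * y := by group
            _ = x * (z 1 * z 1) * y := by rw [sq]
            _ = (x * z 1) * (z 1 * y) := by group
            _ = z 1 * x * (z 1 * y) := by rw [hc _ (hz 1) _ hx']
        rw [e]; exact mul_mem k1 k2
    | inv x hx ih =>
      have hx' : x ∈ V z := hx
      have e : x⁻¹ = x := inv_eq_of_mul_eq_one_left (V_sq sq comm x hx')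
      rwa [e]
  rcases key v hv with h1 | h1
  · exact h1
  · exfalso
    have hw : t * (z 1 * v) = z 1 * v * t := by
      have h2 : ∀ w ∈ Zc z 1 2, t * w = w * t := by
        intro w hw
        have h3 : Zc z 1 2 ≤ centralizer {t} := by
          refine (closure_le _).2 ?_
          rintro _ ⟨c, hc1, hc2, rfl⟩
          exact mem_centralizer_singleton_iff.2 ((mem_X.1 htX c hc1 hc2).symm)
        exact (mem_centralizer_singleton_iff.1 (h3 hw)).symm
      exact h2 _ h1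
    have h3 : t * z 1 * t⁻¹ = z 1 := by
      have e : z 1 = z 1 * v * v⁻¹ := by group
      calc t * z 1 * t⁻¹ = (t * (z 1 * v)) * (t * v)⁻¹ := by group
        _ = (z 1 * v * t) * (v * t)⁻¹ := by rw [hw, htv]
        _ = z 1 := by group
    rw [ht] at h3
    exact absurd (inj h3) (by decide)

/-- **`Fr5` in the world `X z 1 2 ≤ L`**: no `wab`, no `cw`. -/
theorem fr5 (sq : ∀ a, z a * z a = 1) (comm : ∀ a b, z a * z b = z b * z a) (prod : z 0 = z 1 * z 2 * z 3 * z 4)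
    (inj : Function.Injective z) (act : ∀ g ∈ L, ∃ σ : Equiv.Perm (Fin 5), ∀ a, g * z a * g⁻¹ = z (σ a))
    (full : ∀ σ : Equiv.Perm (Fin 5), ∃ g ∈ L, ∀ a, g * z a * g⁻¹ = z (σ a))
    (cv : centralizer (Set.range z) ≤ L) (TL : T ≤ L) (TX : T ≤ X z 1 2) (syl : Syl T (Y L z 0 4))
    (mv : ∃ t ∈ T, t * z 1 * t⁻¹ = z 2) (no : NoOn (o2 (X z 1 2)) (N L z 0 4)) (hX : X z 1 2 ≤ L) :
    Fr5 L T z where
  sq := sq
  comm := comm
  prod := prod
  inj := inj
  act := act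
  full := full
  cv := cv
  TL := TL
  TX := TX
  syl := syl
  wab := by
    have h0 := W_le act full hX 0
    exact ⟨⟨⟨fun x y => Subtype.ext (V_comm comm x (h0 x.2) y (h0 y.2))⟩⟩, fun x hx => by
      rw [pow_two]; exact V_sq sq comm x (h0 hx)⟩
  cw := by
    intro v hv
    obtain ⟨h1, h2⟩ := hv
    obtain ⟨t, ht, h3⟩ := mv
    have h4 := cent_t sq comm prod inj (TX ht) h3 (W_le act full hX 0 h1) (mem_centralizer_iff.1 h2 t ht)
    rw [mem_centralizer_iff]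
    intro x hx
    have h5 : Zc z 1 2 ≤ centralizer {x} := by
      refine (closure_le _).2 ?_
      rintro _ ⟨c, hc1, hc2, rfl⟩
      exact mem_centralizer_singleton_iff.2 ((mem_X.1 hx c hc1 hc2).symm)
    exact (mem_centralizer_singleton_iff.1 (h5 h4)).symm
  no := no

end Cfsg.Agent.Omega.NO3S.MFive.Le

end

section


/-!
# LightL (E), `n = 5`, CASE II + `J(O_2(D)) ≤ C(V)` + FAIL (helper237 #25850, no rank comparison)

`D = C(z_0 z_4, z_1 z_2)`, `O = O_2(D)`. If no elementary abelian subgroup of `O_2(X_12)` offends `W_0` (`¬ Lev L z`),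
then `J(O)` centralises `W_3 ≤ O`, so `AA(Q_12)` centralises `W_0 ≥ N_04`; FAIL: `J(Q_12) = J(Q_04)`.

* `FailHyp.cent_W3` : `A ∈ AA(O)` centralises `W_3`;
* `FailHyp.AA_sub` : `AA(Q_12) ⊆ AA(O)`;
* `FailHyp.local_two` : `⟨L, D⟩` normalises `J(Q_12) = J(Q_04) ≠ 1`;
* **`FailHyp.local_all`** : with `FailOne` (CASE I, helper736 #25382): FAIL is dead.
-/

set_option autoImplicit false
set_option linter.unusedSectionVars false
set_option linter.unusedVariables false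

namespace Cfsg.Agent.Omega.NO3S.MFive

open Subgroup Cfsg Cfsg.Agent.ZN Cfsg.Agent.ZN.ChoiceBase
open Cfsg.Agent.ZN.ChoiceSit
open Cfsg.Agent.Omega.NO3S.EThree
open Cfsg.Agent.Omega.NO3S.EThree.ExactA (eab_mono eab_sup eab_iff swp)
open Cfsg.Agent.Omega.EK3.Rank (NoOn le_of_mem)
open Cfsg.Agent.Omega.EK3.Lever (relIndex_cj)
open Cfsg.Agent.Omega.ESym.CoreS (mem_norm_of_le jj_ne_bot)
open Cfsg.Agent.Omega.NoFF.Basic (comm_symm)
open scoped commutatorElement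

universe u

variable {G : Type u} [Group G] [Finite G] {L T B : Subgroup G} {z : Fin 5 → G}

section two

variable (f : FailHyp L T B z) (hL : ¬ Lev L z) (w3 : W L z 3 ≤ o2 (DD z))
include f

/-- `AA(Q_04) ⊆ AA(O)`, by FAIL -/
theorem FailHyp.AA_sub04 {A : Subgroup G} (hA : A ∈ AA (o2 (CC z 0 4))) : A ∈ AA (o2 (DD z)) := by
  obtain ⟨A₀, hA₀⟩ := AA_nonempty (o2 (DD z))
  have e04 : IsElementaryAbelian 2 (N L z 0 4 : Subgroup G) := f.fr.eab04
  obtain ⟨-, -, hA1⟩ := swp e04 f.N04_le_O hA₀ (f.no04 hA₀)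
  have hc : (A₀ ⊓ centralizer (N L z 0 4 : Set G)) ⊔ N L z 0 4 ≤ centralizer (N L z 0 4 : Set G) :=
    sup_le inf_le_right (eab_iff.1 e04).1
  have hQ := f.le_Q hA1.2.1 (f.fail _ hA1 hc)
  rw [mem_AA_iff] at hA ⊢
  refine ⟨hA.1, hA.2.1.trans f.Q_le_O, ?_⟩
  rw [mm_eq hA1]
  exact (card_le_mm hA1.1 hQ).trans hA.2.2

theorem FailHyp.cj_Q12 {g : G} {σ : Equiv.Perm (Fin 5)} (hg : Ind L z g σ) (h0 : σ 0 = 1) (h1 : σ 1 = 0)
    (h4 : σ 4 = 2) (h2 : σ 2 = 4) : cj g (o2 (CC z 1 2)) = o2 (CC z 0 4) := by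
  rw [← o2_cj, hg.CC_eq, h1, h2]

theorem FailHyp.AA_sub12 {A : Subgroup G} (hA : A ∈ AA (o2 (CC z 1 2))) : A ∈ AA (o2 (DD z)) := by
  obtain ⟨g, σ, hg, h0, h1, h4, h2, h3⟩ := f.sw
  have h5 := cj_mem_AA g hA
  rw [f.cj_Q12 hg h0 h1 h4 h2] at h5
  have h6 := f.AA_sub04 h5
  have e : cj g⁻¹ (DD z) = DD z := by
    have := congrArg (cj g⁻¹) (f.DD_cj hg h0 h1 h4 h2)
    rw [cj_inv_cj] at this
    exact this.symm
  have h7 := f.AA_cj e h6
  rwa [cj_inv_cj] at h7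

include hL w3

/-- `A ∈ AA(O)` centralises `W_3` -/
theorem FailHyp.cent_W3 {A : Subgroup G} (hA : A ∈ AA (o2 (DD z))) : A ≤ centralizer (W L z 3 : Set G) := by
  by_contra hm
  -- `g ∈ L` over `(0 3)`
  obtain ⟨g, hg⟩ := f.fr.ind (Equiv.swap 0 3)
  have eW : cj g (W L z 3) = W L z 0 := by
    rw [hg.W_eq]
    congr 1
  have eX : cj g (X z 1 2) = X z 1 2 := by
    rw [hg.X_eq]
    congr 1
  have hAX := f.X12_o2 hA.2.1 (f.jV A hA)
  have hle := le_of_mem (f.fr.Wa_ab 3) w3 hA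
  refine hL (f.fr.lev_of_offd (A := cj g A) ?_ (isElementaryAbelian_cj g hA.1) ⟨?_, ?_, ?_⟩)
  · have := cj_mono g hAX
    rwa [← o2_cj, eX] at this
  · have h1 : cj g A ≤ X z 1 2 := by
      have := cj_mono g (hAX.trans (ChoiceSit.o2_le _))
      rwa [eX] at this
    exact h1.trans (f.fr.X_le_M.trans (M_norm_W 0))
  · intro hc
    apply hm
    rw [← eW, ← cj_centralizer] at hc
    have h1 := cj_mono g⁻¹ hc
    rwa [cj_inv_cj, cj_inv_cj] at h1
  · rw [← eW, ← cj_centralizer, ← cj_centralizer, relIndex_cj, relIndex_cj]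
    exact hle

/-- `A ∈ AA(Q_12)` lies in `Q_04` -/
theorem FailHyp.le_Q04_of {A : Subgroup G} (hA : A ∈ AA (o2 (CC z 1 2))) : A ≤ o2 (CC z 0 4) := by
  obtain ⟨g, hg⟩ := f.fr.ind (Equiv.swap 0 3)
  have eQ : cj g (o2 (CC z 1 2)) = o2 (CC z 1 2) := by
    rw [← o2_cj, hg.CC_eq]
    congr 1
  have eW : cj g (W L z 3) = W L z 0 := by
    rw [hg.W_eq]
    congr 1
  have eQ' : cj g⁻¹ (o2 (CC z 1 2)) = o2 (CC z 1 2) := by
    have := congrArg (cj g⁻¹) eQ
    rw [cj_inv_cj] at this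
    exact this.symm
  have h1 := cj_mem_AA g⁻¹ hA
  rw [eQ'] at h1
  have h2 := cj_mono g (f.cent_W3 hL w3 (f.AA_sub12 h1))
  rw [cj_cj_inv, cj_centralizer, eW] at h2
  exact f.le_Q (f.AA_sub12 hA).2.1 (f.fail A (f.AA_sub12 hA) (h2.trans (centralizer_le (N_le_W_left 0 4))))

/-- `J(Q_12) = J(Q_04)` -/
theorem FailHyp.jj_eq12 : jj (o2 (CC z 1 2)) = jj (o2 (CC z 0 4)) := by
  have h1 : jj (o2 (CC z 1 2)) ≤ jj (o2 (CC z 0 4)) := by
    rw [ChoiceBase.jj_eq]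
    refine sSup_le fun A hA => le_jj ?_
    rw [mem_AA_iff]
    refine ⟨hA.1, f.le_Q04_of hL w3 hA, ?_⟩
    rw [← mm_eq (f.AA_sub12 hA)]
    exact mm_mono f.Q_le_O
  obtain ⟨g, σ, hg, h0, h1', h4, h2, h3⟩ := f.sw
  refine Subgroup.eq_of_le_of_card_ge h1 ?_
  rw [← f.cj_Q12 hg h0 h1' h4 h2, jj_cj, card_cj]

/-- **CASE II + FAIL**: `⟨L, D⟩` normalises a nontrivial 2-group. -/
theorem FailHyp.local_two : ∃ R : Subgroup G, R ≠ ⊥ ∧ IsPGroup 2 R ∧ L ≤ normalizer (R : Set G) ∧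
    DD z ≤ normalizer (R : Set G) := by
  have hn04 : CC z 0 4 ≤ normalizer (jj (o2 (CC z 0 4)) : Set G) :=
    (ChoiceSit.le_normalizer_o2 _).trans (ESym.CoreS.jj_norm _)
  have hn12 : CC z 1 2 ≤ normalizer (jj (o2 (CC z 0 4)) : Set G) := by
    rw [← f.jj_eq12 hL w3]
    exact (ChoiceSit.le_normalizer_o2 _).trans (ESym.CoreS.jj_norm _)
  have hnorm : ∀ (g : G), cj g (CC z 0 4) = CC z 0 4 → g ∈ normalizer (jj (o2 (CC z 0 4)) : Set G) := by
    intro g hg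
    rw [mem_normalizer_iff_cj, ← jj_cj, ← o2_cj, hg]
  have hnorm' : ∀ (g : G), cj g (CC z 1 2) = CC z 1 2 → g ∈ normalizer (jj (o2 (CC z 0 4)) : Set G) := by
    intro g hg
    rw [← f.jj_eq12 hL w3, mem_normalizer_iff_cj, ← jj_cj, ← o2_cj, hg]
  have h04 : ∀ g σ, Ind L z g σ → (σ 0 = 0 ∧ σ 4 = 4) ∨ (σ 0 = 4 ∧ σ 4 = 0) →
      g ∈ normalizer (jj (o2 (CC z 0 4)) : Set G) := by
    intro g σ hg hσ
    refine hnorm g ?_
    rw [hg.CC_eq]
    rcases hσ with ⟨h1, h2⟩ | ⟨h1, h2⟩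
    · rw [h1, h2]
    · rw [h1, h2, CC_comm f.fr.comm]
  have h12 : ∀ g σ, Ind L z g σ → (σ 1 = 1 ∧ σ 2 = 2) ∨ (σ 1 = 2 ∧ σ 2 = 1) →
      g ∈ normalizer (jj (o2 (CC z 0 4)) : Set G) := by
    intro g σ hg hσ
    refine hnorm' g ?_
    rw [hg.CC_eq]
    rcases hσ with ⟨h1, h2⟩ | ⟨h1, h2⟩
    · rw [h1, h2]
    · rw [h1, h2, CC_comm f.fr.comm]
  refine ⟨jj (o2 (CC z 0 4)), ?_, (ChoiceSit.isPGroup_o2 _).to_le (ChoiceBase.jj_le _), ?_, ?_⟩
  · refine jj_ne_bot (ChoiceSit.isPGroup_o2 _) ?_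
    intro e
    have h1 : N L z 0 4 ≤ o2 (CC z 0 4) := by
      have h2 := f.N_le
      refine h2.trans (sup_le ?_ f.NB_le_Q)
      rw [zpowers_le]
      have h3 : zpowers (z 0 * z 4) ≤ o2 (CC z 0 4) := by
        refine ChoiceSit.le_o2 ((ChoiceSit.isPGroup_o2 (DD z)).to_le (by
          rw [zpowers_le]
          exact f.z04_mem)) ?_ ?_
        · rw [zpowers_le]
          exact mem_CC_self 0 4
        · refine le_trans ?_ (centralizer_le_normalizer _)
          rw [Subgroup.le_centralizer_iff, zpowers_le, mem_centralizer_iff]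
          intro x hx
          exact (mem_centralizer_iff.1 hx _ rfl).symm
      exact h3 (mem_zpowers _)
    rw [e] at h1
    exact f.fr.z_ne 3 (mem_bot.1 (h1 (z_mem_N (by decide) (by decide))))
  · intro g hg
    obtain ⟨σ, hσ⟩ := f.fr.ind_of hg
    refine perm_gen (P := fun σ => ∀ g, Ind L z g σ → g ∈ normalizer (jj (o2 (CC z 0 4)) : Set G))
      ?_ (fun σ h1 g h2 => h04 g σ h2 h1) (fun σ h1 g h2 => h12 g σ h2 h1) σ g hσ
    intro σ τ h1 h2 g hg
    obtain ⟨g₁, hg₁⟩ := f.fr.ind σ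
    have h4 := hg₁.inv.mul hg
    rw [inv_mul_cancel_left] at h4
    have h5 := mul_mem (h1 g₁ hg₁) (h2 _ h4)
    rwa [mul_inv_cancel_left] at h5
  · exact DD_le_left.trans hn04

end two

/-- **FAIL + `J(O) ≤ C(V)`**: `⟨L, D⟩` normalises a nontrivial 2-group. -/
theorem FailHyp.local_all (f : FailHyp L T B z) (w3 : W L z 3 ≤ o2 (DD z)) : ∃ R : Subgroup G, R ≠ ⊥ ∧
    IsPGroup 2 R ∧ L ≤ normalizer (R : Set G) ∧ DD z ≤ normalizer (R : Set G) := by
  by_cases hL : Lev L z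
  · exact f.local_lev hL
  · exact f.local_two hL w3

end Cfsg.Agent.Omega.NO3S.MFive

end

section


/-!
# THEOREM M5: the frame `Fr5` in another order of the letters

* `Rx.fr5_reindex` : `Fr5 L T z → ∃ g ∈ L` inducing `σ`, `Fr5 L (cj g T) (z ∘ σ)`.
-/

set_option autoImplicit false
set_option linter.unusedSectionVars false

namespace Cfsg.Agent.Omega.NO3S.MFive.Rx

open Subgroup Cfsg Cfsg.Agent.ZN Cfsg.Agent.ZN.ChoiceBase
open Cfsg.Agent.ZN.ChoiceSit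
open Cfsg.Agent.Omega.EK3.Rank (NoOn)
open Cfsg.Agent.Omega.EK3.Lever (relIndex_cj)
open Cfsg.Agent.Omega.NO3S.EThree.ExactA (eab_mono eab_sup eab_iff)

universe u

variable {G : Type u} [Group G] {L : Subgroup G} {z : Fin 5 → G}

section comp

variable (σ : Equiv.Perm (Fin 5))

theorem range_comp : Set.range (fun a => z (σ a)) = Set.range z := by
  ext x
  constructor
  · rintro ⟨a, rfl⟩
    exact ⟨σ a, rfl⟩
  · rintro ⟨a, rfl⟩
    exact ⟨σ⁻¹ a, by simp⟩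

theorem V_comp : V (fun a => z (σ a)) = V z := by
  rw [V, V, range_comp]

theorem X_comp (i j : Fin 5) : X (fun a => z (σ a)) i j = X z (σ i) (σ j) := by
  rw [X, X]
  congr 1
  ext x
  constructor
  · rintro ⟨k, h1, h2, rfl⟩
    exact ⟨σ k, fun e => h1 (σ.injective e), fun e => h2 (σ.injective e), rfl⟩
  · rintro ⟨k, h1, h2, rfl⟩
    refine ⟨σ⁻¹ k, ?_, ?_, by simp⟩
    · rintro rfl
      exact h1 (by simp)
    · rintro rfl
      exact h2 (by simp)

theorem Zc_comp (i j : Fin 5) : Zc (fun a => z (σ a)) i j = Zc z (σ i) (σ j) := by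
  rw [Zc, Zc]
  congr 1
  ext x
  constructor
  · rintro ⟨k, h1, h2, rfl⟩
    exact ⟨σ k, fun e => h1 (σ.injective e), fun e => h2 (σ.injective e), rfl⟩
  · rintro ⟨k, h1, h2, rfl⟩
    refine ⟨σ⁻¹ k, ?_, ?_, by simp⟩
    · rintro rfl
      exact h1 (by simp)
    · rintro rfl
      exact h2 (by simp)

theorem Y_comp (a b : Fin 5) : Y L (fun a => z (σ a)) a b = Y L z (σ a) (σ b) := by
  rw [Y, Y]
  refine congrArg (fun R => (L ⊓ centralizer {z (σ a), z (σ b)}) ⊔ R) ?_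
  apply le_antisymm
  · refine iSup_le fun k => iSup_le fun l => iSup_le fun hkl => ?_
    rw [X_comp]
    refine le_iSup_of_le (σ k) (le_iSup_of_le (σ l) (le_iSup_of_le ?_ le_rfl))
    simpa using hkl
  · refine iSup_le fun k => iSup_le fun l => iSup_le fun hkl => ?_
    refine le_iSup_of_le (σ⁻¹ k) (le_iSup_of_le (σ⁻¹ l) (le_iSup_of_le ?_ ?_))
    · refine ⟨fun e => hkl.1 (by simpa using e), ⟨?_, ?_⟩, ?_, ?_⟩
      · rintro rfl
        exact hkl.2.1.1 (by simp)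
      · rintro rfl
        exact hkl.2.1.2 (by simp)
      · rintro rfl
        exact hkl.2.2.1 (by simp)
      · rintro rfl
        exact hkl.2.2.2 (by simp)
    · rw [X_comp]
      simp

theorem M_comp (a : Fin 5) : M L (fun a => z (σ a)) a = M L z (σ a) := by
  rw [M, M]
  refine congrArg (fun R => (L ⊓ centralizer {z (σ a)}) ⊔ R) ?_
  apply le_antisymm
  · refine iSup_le fun k => iSup_le fun l => iSup_le fun hkl => ?_
    rw [X_comp]
    refine le_iSup_of_le (σ k) (le_iSup_of_le (σ l) (le_iSup_of_le ?_ le_rfl))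
    simpa using hkl
  · refine iSup_le fun k => iSup_le fun l => iSup_le fun hkl => ?_
    refine le_iSup_of_le (σ⁻¹ k) (le_iSup_of_le (σ⁻¹ l) (le_iSup_of_le ?_ ?_))
    · refine ⟨fun e => hkl.1 (by simpa using e), ?_, ?_⟩
      · rintro rfl
        exact hkl.2.1 (by simp)
      · rintro rfl
        exact hkl.2.2 (by simp)
    · rw [X_comp]
      simp

theorem N_comp (a b : Fin 5) : N L (fun a => z (σ a)) a b = N L z (σ a) (σ b) := by
  rw [N, N, Y_comp, Zc_comp]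

theorem W_comp (a : Fin 5) : W L (fun a => z (σ a)) a = W L z (σ a) := by
  rw [W, W, M_comp, V_comp]

end comp

theorem ind_comp {g : G} {σ τ : Equiv.Perm (Fin 5)} (h : Ind L z g τ) :
    Ind L (fun a => z (σ a)) g (σ⁻¹ * τ * σ) where
  mem := h.mem
  eq := fun a => by simp [h.eq]

/-- the product of the five involutions in any order -/
theorem prod_perm {z : Fin 5 → G} (prod : z 0 = z 1 * z 2 * z 3 * z 4) {g : G} {σ : Equiv.Perm (Fin 5)} (hg : ∀ a, g * z a * g⁻¹ = z (σ a)) :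
    z (σ 0) = z (σ 1) * z (σ 2) * z (σ 3) * z (σ 4) := by
  rw [← hg 0, ← hg 1, ← hg 2, ← hg 3, ← hg 4, prod]
  group

theorem syl_cjR [Finite G] {T X : Subgroup G} (g : G) (h : Syl T X) : Syl (cj g T) (cj g X) := by
  refine ⟨cj_mono g h.1, isPGroup_cj g h.2.1, fun Q hQ hp hT => ?_⟩
  have h1 := h.2.2 (cj g⁻¹ Q) ?_ (isPGroup_cj _ hp) ?_
  · rw [← h1, cj_cj_inv]
  · have := cj_mono g⁻¹ hQ
    rwa [cj_inv_cj] at this
  · have := cj_mono g⁻¹ hT
    rwa [cj_inv_cj] at this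

/-- **the frame in another order of the letters** -/
theorem fr5_reindex [Finite G] {T : Subgroup G} (h : Fr5 L T z) {g : G} {σ : Equiv.Perm (Fin 5)}
    (hg : Ind L z g σ) : Fr5 L (cj g T) (fun a => z (σ a)) where
  sq := fun a => h.sq _
  comm := fun a b => h.comm _ _
  prod := prod_perm h.prod hg.eq
  inj := fun a b hab => σ.injective (h.inj hab)
  act := fun x hx => by
    obtain ⟨τ, hτ⟩ := h.act x hx
    exact ⟨σ⁻¹ * τ * σ, (ind_comp (σ := σ) ⟨hx, hτ⟩ : Ind L _ x _).eq⟩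
  full := fun τ => by
    obtain ⟨x, hx, h1⟩ := h.full (σ * τ * σ⁻¹)
    refine ⟨x, hx, fun a => ?_⟩
    rw [h1]
    simp
  cv := by
    rw [range_comp]
    exact h.cv
  TL := by
    rintro _ ⟨x, hx, rfl⟩
    exact mul_mem (mul_mem hg.mem (h.TL hx)) (inv_mem hg.mem)
  TX := by
    rw [X_comp, ← hg.X_eq]
    exact cj_mono g h.TX
  syl := by
    rw [Y_comp, ← hg.Y_eq]
    exact syl_cjR g h.syl
  wab := by
    rw [W_comp, ← hg.W_eq]
    exact isElementaryAbelian_cj g h.wab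
  cw := by
    rw [W_comp, ← hg.W_eq, X_comp, ← hg.X_eq, ← cj_centralizer, ← cj_inf, ← cj_centralizer]
    exact cj_mono g h.cw
  no := by
    intro A hA hAO
    rw [N_comp, ← hg.N_eq]
    rw [X_comp, ← hg.X_eq, o2_cj] at hAO
    have h1 := h.no (cj g⁻¹ A) (isElementaryAbelian_cj g⁻¹ hA) (by
      have h2 := cj_mono g⁻¹ hAO
      rwa [cj_inv_cj] at h2)
    have h2 : cj g (cj g⁻¹ A) = A := cj_cj_inv g A
    rw [← relIndex_cj g, ← relIndex_cj g (centralizer ((cj g⁻¹ A : Subgroup G) : Set G)) _, cj_centralizer,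
      cj_centralizer, h2] at h1
    exact h1

theorem fr5_exists_reindex [Finite G] {T : Subgroup G} (h : Fr5 L T z) (σ : Equiv.Perm (Fin 5)) :
    ∃ g, Ind L z g σ ∧ Fr5 L (cj g T) (fun a => z (σ a)) := by
  obtain ⟨g, hg⟩ := h.ind σ
  exact ⟨g, hg, fr5_reindex h hg⟩

end Cfsg.Agent.Omega.NO3S.MFive.Rx

end

section


/-!
# THEOREM M5, the dichotomy by offenders (helper604 #25469 (1) (ii))

* `HF L z` : an elementary abelian-type lever `F ≤ O_2(X_12)` moving `N_04` with `[W_0, F] ≤ N_04`;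
* `Fr5.hf_or` : `HF`, or no elementary abelian `A ≤ O_2(X_12)` offends `W_0`;
* `Fr5.W_le_of`, `Fr5.W_le_W_of` : (5) from `HF`.
-/

set_option autoImplicit false
set_option linter.unusedSectionVars false
set_option linter.unusedVariables false

namespace Cfsg.Agent.Omega.NO3S.MFive

open Subgroup Cfsg Cfsg.Agent.ZN Cfsg.Agent.ZN.ChoiceBase
open Cfsg.Agent.ZN.ChoiceSit
open Cfsg.Agent.Omega.NO3S.EThree
open Cfsg.Agent.Omega.EK3.Rank (NoOn)
open Cfsg.Agent.Omega.EK3.Lever (Dt relIndex_cj offd_cj)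
open Cfsg.Agent.Omega.ESym.CoreS (mem_norm_of_le jj_norm jj_ne_bot)
open scoped commutatorElement

universe u

variable {G : Type u} [Group G]

/-- the lever: `F ≤ O_2(X_12)` moves `N_04` and `[W_0, F] ≤ N_04` -/
def HF (L : Subgroup G) (z : Fin 5 → G) : Prop :=
  ∃ F : Subgroup G, F ≤ o2 (X z 1 2) ∧ ¬ F ≤ centralizer (N L z 0 4 : Set G) ∧
    ∀ e ∈ W L z 0, ∀ f ∈ F, ⁅e, f⁆ ∈ N L z 0 4

variable [Finite G] {L T : Subgroup G} {z : Fin 5 → G}

section main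

variable (h : Fr5 L T z)
include h

/-- an elementary abelian offender of `O_2(X_12)` on `W_0` gives the lever -/
theorem Fr5.hf_of_offd {A : Subgroup G} (hAO : A ≤ o2 (X z 1 2)) (hA : IsElementaryAbelian 2 A)
    (hoff : Offd (W L z 0) A) : HF L z := by
  obtain ⟨g, σ, hg, hX, hO, h43, h34, y43, y34, hW⟩ := h.swap'
  obtain ⟨i, F, hFO, hFe, hFm, hF⟩ := h.dt.lever hAO hA hoff
  cases i
  · exact ⟨F, hFO, hFm, hF⟩
  · refine ⟨cj g F, ?_, ?_, ?_⟩
    · have := cj_mono g hFO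
      rwa [hO] at this
    · intro hc
      apply hFm
      change F ≤ centralizer (N L z 0 3 : Set G)
      rw [← h34, ← cj_centralizer] at hc
      have h1 := cj_mono g⁻¹ hc
      rwa [cj_inv_cj, cj_inv_cj] at h1
    · rintro e he _ ⟨f, hf, rfl⟩
      rw [← hW] at he
      obtain ⟨e, he, rfl⟩ := he
      have h1 : ⁅e, f⁆ ∈ N L z 0 3 := hF e he f hf
      rw [← h34]
      refine ⟨_, h1, ?_⟩
      exact map_commutatorElement _ _ _

/-- **the dichotomy** -/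
theorem Fr5.hf_or : HF L z ∨
    ∀ A : Subgroup G, A ≤ o2 (X z 1 2) → IsElementaryAbelian 2 A → ¬ Offd (W L z 0) A := by
  by_cases hE : ∃ A : Subgroup G, A ≤ o2 (X z 1 2) ∧ IsElementaryAbelian 2 A ∧ Offd (W L z 0) A
  · obtain ⟨A, h1, h2, h3⟩ := hE
    exact Or.inl (h.hf_of_offd h1 h2 h3)
  · push Not at hE
    exact Or.inr hE

/-- (5) `M_0` normalises `N_03 N_04`: `W_0 ≤ N_03 N_04`. -/
theorem Fr5.W_le_of (hE : HF L z) : W L z 0 ≤ N L z 0 3 ⊔ N L z 0 4 := by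
  obtain ⟨F, hFO, hFm, hF⟩ := hE
  have hYE : Y L z 0 4 ≤ normalizer (W L z 0 : Set G) := (Y_le_M_left 0 4).trans (M_norm_W 0)
  -- the normal closure of `F` in `Y_04`
  let K : Subgroup G := nc (Y L z 0 4) F
  have hFY : F ≤ Y L z 0 4 := hFO.trans h.O_le_Y04
  have hKY : K ≤ Y L z 0 4 := nc_le hFY Subgroup.le_normalizer
  have hYK : Y L z 0 4 ≤ normalizer (K : Set G) := nc_norm _ _
  have hKN : K ≤ normalizer ((N L z 0 3 ⊔ N L z 0 4 : Subgroup G) : Set G) := by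
    refine iSup_le fun y => ?_
    intro x hx
    refine mem_norm_of_le ?_
    rw [cj, Subgroup.map_sup]
    have hxY : x ∈ Y L z 0 4 := hKY (cj_le_nc y.2 hx)
    refine sup_le ?_ ?_
    · rintro _ ⟨n, hn, rfl⟩
      change x * n * x⁻¹ ∈ _
      obtain ⟨f, hf, e⟩ := hx
      have e' : x = (y : G) * f * (y : G)⁻¹ := by rw [← e]; rfl
      have hnE : n ∈ W L z 0 := h.N03_le_W hn
      have hn' : (y : G)⁻¹ * n * y ∈ W L z 0 := by
        have := (mem_normalizer_iff.1 (hYE (inv_mem y.2)) n).1 hnE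
        rwa [inv_inv] at this
      have h1 := hF _ hn' f hf
      have h2 : (y : G) * ⁅(y : G)⁻¹ * n * y, f⁆ * (y : G)⁻¹ ∈ N L z 0 4 :=
        (mem_normalizer_iff.1 (Y_norm_N 0 4 y.2) _).1 h1
      have h3 : ⁅n, x⁆ = (y : G) * ⁅(y : G)⁻¹ * n * y, f⁆ * (y : G)⁻¹ := by
        rw [e']
        simp only [commutatorElement_def]
        group
      have h4 : x * n * x⁻¹ = ⁅n, x⁆⁻¹ * n := by
        simp only [commutatorElement_def]
        group
      rw [h4]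
      exact mul_mem (inv_mem (mem_sup_right (by rw [h3]; exact h2))) (mem_sup_left hn)
    · have h1 := cj_eq_of_mem_normalizer (Y_norm_N 0 4 hxY)
      exact (le_of_eq h1).trans le_sup_right
  have hXN : X z 1 2 ≤ normalizer ((N L z 0 3 ⊔ N L z 0 4 : Subgroup G) : Set G) := fun x hx =>
    norm_sup (Y_norm_N 0 3 (h.X_le_Y03 hx)) (Y_norm_N 0 4 (h.X_le_Y04 hx))
  have h04 : Y L z 0 4 ≤ normalizer ((N L z 0 3 ⊔ N L z 0 4 : Subgroup G) : Set G) :=
    (h.gen hKY hYK (le_nc _ _) (hFO.trans (ChoiceSit.o2_le _)) hFm).trans (sup_le hKN hXN)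
  have h03 : Y L z 0 3 ≤ normalizer ((N L z 0 3 ⊔ N L z 0 4 : Subgroup G) : Set G) := by
    obtain ⟨g, σ, hg, hX, hO, h43, h34, y43, y34, hW⟩ := h.swap'
    have h1 := cj_mono g h04
    have e : cj g (N L z 0 3 ⊔ N L z 0 4) = N L z 0 3 ⊔ N L z 0 4 := by
      have : cj g (N L z 0 3 ⊔ N L z 0 4) = cj g (N L z 0 3) ⊔ cj g (N L z 0 4) := Subgroup.map_sup _ _ _
      rw [this, h34, h43, sup_comm]
    rwa [y43, cj_normalizer, e] at h1
  refine nc_le ((closure_le _).2 ?_) (h.M_le.trans (sup_le h03 h04))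
  have hz : ∀ c, c ≠ 0 → z c ∈ N L z 0 3 ⊔ N L z 0 4 := by
    intro c h0
    by_cases h4 : c = 4
    · rw [h4]
      exact mem_sup_left (z_mem_N (by decide) (by decide))
    · exact mem_sup_right (z_mem_N h0 h4)
  rintro _ ⟨c, rfl⟩
  by_cases h0 : c = 0
  · rw [h0, h.prod]
    exact mul_mem (mul_mem (mul_mem (hz 1 (by decide)) (hz 2 (by decide))) (hz 3 (by decide))) (hz 4 (by decide))
  · exact hz c h0

/-- `W_a ≤ W_b W_c` -/
theorem Fr5.W_le_W_of (hE : HF L z) {a b c : Fin 5} (hab : a ≠ b) (hac : a ≠ c)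
    (hbc : b ≠ c) : W L z a ≤ W L z b ⊔ W L z c := by
  have h1 : W L z 0 ≤ W L z 3 ⊔ W L z 4 :=
    (h.W_le_of hE).trans (sup_le_sup (N_le_W_right 0 3) (N_le_W_right 0 4))
  obtain ⟨τ, t0, t3, t4⟩ := perm_three (a := 0) (b := 3) (c := 4) (a' := a) (b' := b) (c' := c) (by decide)
    (by decide) (by decide) hab hac hbc
  obtain ⟨g, hg⟩ := h.ind τ
  have h2 := cj_mono g h1
  have e : cj g (W L z 3 ⊔ W L z 4) = cj g (W L z 3) ⊔ cj g (W L z 4) := Subgroup.map_sup _ _ _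
  rwa [e, hg.W_eq, hg.W_eq, hg.W_eq, t0, t3, t4] at h2

end main

end Cfsg.Agent.Omega.NO3S.MFive

end

end

-- merged: Cfsg.Agent.Mrg.Omega.NO3S.LightB.Dt
section

section


/-!
# LightL (E), `n = 5`: the instance of `TwoB.DtB` (helper286; helper411 #25060 (B)) over `FiveL S P p` (helper904)

`C = C_G(nn p)`, `T = Std.T S p`, `M = DD V (nn p)`, `Z = ⟨aa p⟩`, `Y = ⟨p 0, p 1⟩`.

* `Unn S P p` : UNI: the `T`-minimal `R ≤ C_G(n)` which move `a` normalise `V`;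
* `dtB` : from `FiveL`, `N_G(T) ≤ N_G(V)`, UNI, `J(O₂(D)) ≤ C(V)`.
-/

set_option autoImplicit false
set_option linter.unusedSectionVars false

namespace Cfsg.Agent.Omega.NO3S.LightB

open Subgroup Cfsg Cfsg.Agent.ZN Cfsg.Agent.Omega.MinPar Cfsg.Agent.Omega.Frame Cfsg.Agent.Omega.FrameNOFF
open Cfsg.Agent.ZN.ChoiceSit (Syl)
open Cfsg.Agent.Omega.NO3S Cfsg.Agent.Omega.NTwo Cfsg.Agent.Omega.NO3S.Sym.Exit Cfsg.Agent.Omega.NO3S.Sym.Light
open Cfsg.Agent.MinSimple.MinParabolic (IsMinPar)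
open Cfsg.Agent.MinSimple.VModule

universe u

variable {G : Type u} [Group G]

/-- **UNI** over `T = C_S(n)`: the `T`-minimal `R ≤ C_G(n)` which move `a` normalise `V`. -/
def Unn (S P : Subgroup G) (p : Fin 5 → G) : Prop :=
  ∀ R : Subgroup G, IsMinPar (Std.T S p) R → R ≤ centralizer ({nn p} : Set G) →
    ¬ R ≤ centralizer ({aa p} : Set G) → R ≤ normalizer (zl S P : Set G)

theorem cent_zpowers (x : G) : centralizer (zpowers x : Set G) = centralizer ({x} : Set G) := by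
  rw [zpowers_eq_closure, centralizer_closure]

theorem cent_pair (x y : G) : centralizer (closure {x, y} : Set G) = centralizer {x, y} := centralizer_closure _

theorem mem_cent_pair {x y g : G} : g ∈ centralizer ({x, y} : Set G) ↔ g * x * g⁻¹ = x ∧ g * y * g⁻¹ = y := by
  rw [mem_centralizer_iff]
  constructor
  · intro h
    exact ⟨comm_iff.2 (h x (Or.inl rfl)).symm, comm_iff.2 (h y (Or.inr rfl)).symm⟩
  · rintro ⟨h1, h2⟩ z (rfl | rfl)
    · exact (comm_iff.1 h1).symm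
    · exact (comm_iff.1 h2).symm

/-- an element of odd order which permutes two elements fixes them -/
theorem fix_of_odd {g x y : G} (ho : Odd (orderOf g))
    (h : (g * x * g⁻¹ = x ∧ g * y * g⁻¹ = y) ∨ (g * x * g⁻¹ = y ∧ g * y * g⁻¹ = x)) :
    g * x * g⁻¹ = x ∧ g * y * g⁻¹ = y := by
  rcases h with h | ⟨h1, h2⟩
  · exact h
  · obtain ⟨m, hm⟩ := ho
    have e : g = (g * g) ^ (m + 1) := by
      have h3 : g ^ (2 * m + 1) = 1 := by rw [← hm]; exact pow_orderOf_eq_one g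
      calc g = g ^ (2 * m + 1) * g := by rw [h3, one_mul]
        _ = (g * g) ^ (m + 1) := by rw [← pow_two, ← pow_mul, ← pow_succ]; congr 1
    have h4 : g * g ∈ centralizer ({x, y} : Set G) := by
      rw [mem_cent_pair]
      constructor
      · rw [← cc, h1, h2]
      · rw [← cc, h2, h1]
    have h5 : g ∈ centralizer ({x, y} : Set G) := by
      rw [e]
      exact pow_mem h4 _
    exact mem_cent_pair.1 h5

variable [Finite G] {S : Sylow 2 G} {P : Subgroup G} {p : Fin 5 → G}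

section light

variable (h : FiveL S P p)
include h

theorem norm_perm {g : G} (hg : g ∈ normalizer (zl (S : Subgroup G) P : Set G)) :
    ∃ σ : Equiv.Perm (Fin 5), ∀ i, g * p i * g⁻¹ = p (σ i) := by
  obtain ⟨σ, hσ⟩ := MFive.Inst.act_norm h hg
  refine ⟨MFive.Inst.rho * σ * MFive.Inst.rho⁻¹, fun i => ?_⟩
  have h1 := hσ (MFive.Inst.rho⁻¹ i)
  have e : ∀ j, MFive.Inst.zv p j = p (MFive.Inst.rho j) := fun _ => rfl
  rw [e, e] at h1
  simpa using h1

/-- `N(V) ∩ C(n)` permutes `p 0, p 1` -/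
theorem norm_pair {g : G} (hg : g ∈ normalizer (zl (S : Subgroup G) P : Set G)) (hn : g * nn p * g⁻¹ = nn p) :
    (g * p 0 * g⁻¹ = p 0 ∧ g * p 1 * g⁻¹ = p 1) ∨ (g * p 0 * g⁻¹ = p 1 ∧ g * p 1 * g⁻¹ = p 0) := by
  obtain ⟨σ, hσ⟩ := norm_perm h hg
  rw [nn, cm, hσ, hσ] at hn
  rw [hσ, hσ]
  rcases h.std.pair_inj (fun e => absurd (σ.injective e) (by decide)) (by decide) hn with ⟨e1, e2⟩ | ⟨e1, e2⟩
  · exact Or.inl ⟨by rw [e1], by rw [e2]⟩
  · exact Or.inr ⟨by rw [e1], by rw [e2]⟩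

theorem norm_Y {g : G} (hg : (g * p 0 * g⁻¹ = p 0 ∧ g * p 1 * g⁻¹ = p 1) ∨ (g * p 0 * g⁻¹ = p 1 ∧ g * p 1 * g⁻¹ = p 0)) :
    g ∈ normalizer (closure {p 0, p 1} : Set G) := by
  rw [ChoiceBase.mem_normalizer_iff_cj, MFive.cj_closure, Set.image_pair]
  rcases hg with ⟨h1, h2⟩ | ⟨h1, h2⟩
  · rw [h1, h2]
  · rw [h1, h2, Set.pair_comm]

/-- the elements of `⟨p 0, p 1⟩` -/
theorem mem_Y {x : G} (hx : x ∈ closure {p 0, p 1}) : x = 1 ∨ x = p 0 ∨ x = p 1 ∨ x = nn p := by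
  have h1 : closure {p 0, p 1} ≤ kl (p 0) (p 1) (h.std.sq 0) (h.std.sq 1) (h.std.comm 0 1) := by
    rw [closure_le]
    rintro y (rfl | rfl)
    · exact mem_kl.2 (Or.inr (Or.inl rfl))
    · exact mem_kl.2 (Or.inr (Or.inr (Or.inl rfl)))
  exact mem_kl.1 (h1 hx)

/-- **The instance of `TwoB.DtB`.** -/
theorem dtB (nT : normalizer (Std.T (S : Subgroup G) p : Set G) ≤ normalizer (zl (S : Subgroup G) P : Set G))
    (uni : Unn (S : Subgroup G) P p)
    (J : jj (o2 (centralizer ({nn p} : Set G) ⊓ centralizer ({aa p} : Set G))) ≤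
      centralizer (zl (S : Subgroup G) P : Set G))
    (K : IsKGroup (centralizer ({nn p} : Set G))) :
    TwoB.DtB (centralizer ({nn p} : Set G)) (Std.T (S : Subgroup G) p) (DD (zl (S : Subgroup G) P) (nn p))
      (zl (S : Subgroup G) P) (zpowers (aa p)) (closure {p 0, p 1}) where
  CM := norm_DD
  eM := DD_el h
  MV := le_rfl
  TC := T_le_C
  two := T_two
  syl := h.not_dvd
  ZM := zpowers_le.2 (a_mem_DD h)
  YM := by
    rw [closure_le]
    rintro y (rfl | rfl)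
    · exact p_mem_DD h 0
    · exact p_mem_DD h 1
  TZ := by
    rw [cent_zpowers]
    exact T_le_Ca h.toFive
  NZ := by
    rw [cent_zpowers]
    exact (norm_le_D h).trans inf_le_right
  NY := fun g hg => norm_Y h (norm_pair h (nT hg.2) (mem_cent.1 hg.1))
  cY := by
    rintro x ⟨hx, hxT⟩
    have hcn : ∀ c ∈ centralizer ({nn p} : Set G), c * nn p = nn p * c := fun c hc => comm_iff.1 (mem_cent.1 hc)
    obtain ⟨t, ht, ht1⟩ := MFive.Inst.exists_t h
    have htT := MFive.Inst.TT_le h ht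
    have htp := (T_pair h.toFive htT).resolve_left fun e => absurd (h.std.inj (ht1.symm.trans e.1)) (by decide)
    have hxt : t * x * t⁻¹ = x := comm_iff.2 (mem_centralizer_iff.1 hxT t htT)
    rcases mem_Y h hx with rfl | rfl | rfl | rfl
    · exact one_mem _
    · exact absurd (h.std.inj (htp.1.symm.trans hxt)) (by decide)
    · exact absurd (h.std.inj (htp.2.symm.trans hxt)) (by decide)
    · exact mem_centralizer_iff.2 hcn
  uni := by
    intro R hR hRC hRZ g hg ho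
    rw [cent_zpowers] at hRZ
    rw [cent_pair, mem_cent_pair]
    exact fix_of_odd ho (norm_pair h (uni R hR hRC hRZ hg) (mem_cent.1 (hRC hg)))
  MO := by
    rw [cent_zpowers]
    exact DD_le_o2D h
  J := by
    rw [cent_zpowers]
    exact J
  K := K

end light

end Cfsg.Agent.Omega.NO3S.LightB

end

section


/-!
# LightL (E), `n = 5`: `MFive.FailHyp` over `FiveL S P p` (helper904)

`L = N_G(V)`, `z = zv p` (`z 0 = p 4`, `z 1 = p 0`, `z 2 = p 1`, `z 3 = p 2`, `z 4 = p 3`), `T = Std.T S p`,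
`C = C_G(nn p)`, `D = C ⊓ C_G(aa p)`, `O = O₂(D)`.

* `H_norm` : `C_G(p 0, p 1) T` normalises `N_12` (UNI and generation over `T`);
* `fail12` : `A ∈ AA(O)` centralising `N_12` centralises `⟨a^C⟩`;
* **`failHyp`** : `FailHyp L (TT S p) (cj g T) (zv p)` for some `g ∈ L` (pairs `{0, 4}`, `{1, 2}` of `FailHyp`).
-/

set_option autoImplicit false
set_option linter.unusedSectionVars false

namespace Cfsg.Agent.Omega.NO3S.LightB

open Subgroup Cfsg Cfsg.Agent.ZN Cfsg.Agent.Omega.MinPar Cfsg.Agent.Omega.Frame Cfsg.Agent.Omega.FrameNOFF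
open Cfsg.Agent.ZN.ChoiceSit (Syl)
open Cfsg.Agent.ZN.ChoiceBase (AA cj cj_mono cj_cj_inv cj_inv_cj cj_mem_AA mem_normalizer_iff_cj cj_centralizer cj_inf
  jj_cj isPGroup_cj cj_eq_of_mem_normalizer)
open Cfsg.Agent.Omega.NO3S Cfsg.Agent.Omega.NTwo Cfsg.Agent.Omega.NO3S.Sym.Exit Cfsg.Agent.Omega.NO3S.Sym.Light
open Cfsg.Agent.Omega.NO3S.MFive.Inst (zv TT)
open Cfsg.Agent.MinSimple.MinParabolic (IsMinPar le_of_forall)
open Cfsg.Agent.MinSimple.VModule

universe u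

variable {G : Type u} [Group G]

theorem Zc_comm (z : Fin 5 → G) (a b : Fin 5) : MFive.Zc z a b = MFive.Zc z b a := by
  unfold MFive.Zc
  congr 1
  ext g
  constructor
  · rintro ⟨c, h1, h2, h3⟩
    exact ⟨c, h2, h1, h3⟩
  · rintro ⟨c, h1, h2, h3⟩
    exact ⟨c, h2, h1, h3⟩

theorem N_comm (L : Subgroup G) (z : Fin 5 → G) (a b : Fin 5) : MFive.N L z a b = MFive.N L z b a := by
  unfold MFive.N
  rw [MFive.Y_comm, Zc_comm]

theorem cj_cent (g x : G) : cj g (centralizer ({x} : Set G)) = centralizer ({g * x * g⁻¹} : Set G) := by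
  rw [← cent_zpowers, cj_centralizer, ← cent_zpowers]
  congr 2
  change (zpowers x).map (MulAut.conj g).toMonoidHom = _
  rw [MonoidHom.map_zpowers]
  rfl

theorem cj_zpowers (g x : G) : cj g (zpowers x) = zpowers (g * x * g⁻¹) := by
  change (zpowers x).map (MulAut.conj g).toMonoidHom = _
  rw [MonoidHom.map_zpowers]
  rfl

theorem cj_CC {L : Subgroup G} {z : Fin 5 → G} {g : G} {σ : Equiv.Perm (Fin 5)} (hI : MFive.Ind L z g σ) (a b : Fin 5) :
    cj g (MFive.CC z a b) = MFive.CC z (σ a) (σ b) := by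
  unfold MFive.CC
  rw [cj_cent, cm, hI.eq, hI.eq]

theorem cj_NB {L : Subgroup G} {z : Fin 5 → G} {g : G} {σ : Equiv.Perm (Fin 5)} (hI : MFive.Ind L z g σ)
    (a b c d : Fin 5) : cj g (MFive.NB z a b c d) = MFive.NB z (σ a) (σ b) (σ c) (σ d) := by
  unfold MFive.NB
  rw [MFive.cj_nc, cj_CC hI, cj_zpowers, cm, hI.eq, hI.eq]

variable [Finite G] {S : Sylow 2 G} {P : Subgroup G} {p : Fin 5 → G}

section light

variable (h : FiveL S P p)
include h

/-- some `t ∈ T` interchanges `p 0` and `p 1` -/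
theorem exists_t : ∃ t ∈ Std.T (S : Subgroup G) p, t * p 0 * t⁻¹ = p 1 ∧ t * p 1 * t⁻¹ = p 0 := by
  obtain ⟨t, ht, ht1⟩ := MFive.Inst.exists_t h
  have htT := MFive.Inst.TT_le h ht
  exact ⟨t, htT, (T_pair h.toFive htT).resolve_left fun e => absurd (h.std.inj (ht1.symm.trans e.1)) (by decide)⟩

/-- `N(V) ∩ C(n)` normalises `N_12` -/
theorem normN_A {g : G} (hg : g ∈ normalizer (zl (S : Subgroup G) P : Set G)) (hn : g * nn p * g⁻¹ = nn p) :
    g ∈ normalizer (MFive.N (normalizer (zl (S : Subgroup G) P : Set G)) (zv p) 1 2 : Set G) := by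
  obtain ⟨σ, hσ⟩ := MFive.Inst.act_norm h hg
  have hI : MFive.Ind (normalizer (zl (S : Subgroup G) P : Set G)) (zv p) g σ := ⟨hg, hσ⟩
  have hinj := (MFive.Inst.zfv h).inj
  rw [mem_normalizer_iff_cj, hI.N_eq]
  have k1 := hσ 1
  have k2 := hσ 2
  rw [MFive.Inst.zv1] at k1
  rw [MFive.Inst.zv2] at k2
  rcases norm_pair h hg hn with ⟨e1, e2⟩ | ⟨e1, e2⟩
  · have s1 : σ 1 = 1 := hinj (by rw [← k1, e1, MFive.Inst.zv1])
    have s2 : σ 2 = 2 := hinj (by rw [← k2, e2, MFive.Inst.zv2])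
    rw [s1, s2]
  · have s1 : σ 1 = 2 := hinj (by rw [← k1, e1, MFive.Inst.zv2])
    have s2 : σ 2 = 1 := hinj (by rw [← k2, e2, MFive.Inst.zv1])
    rw [s1, s2, N_comm]

/-- `C(p 0, p 1, a)` normalises `N_12` -/
theorem normN_B {g : G} (h0 : g * p 0 * g⁻¹ = p 0) (h1 : g * p 1 * g⁻¹ = p 1) (ha : g * aa p * g⁻¹ = aa p) :
    g ∈ normalizer (MFive.N (normalizer (zl (S : Subgroup G) P : Set G)) (zv p) 1 2 : Set G) := by
  have h4 : g * p 4 * g⁻¹ = p 4 := by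
    rw [← h.std.na, cm, ha, nn, cm, h0, h1]
  have hX : g ∈ MFive.X (zv p) 3 4 := by
    rw [MFive.mem_X]
    intro k hk3 hk4
    have key : ∀ k : Fin 5, k ≠ 3 → k ≠ 4 → k = 0 ∨ k = 1 ∨ k = 2 := by decide
    rcases key k hk3 hk4 with rfl | rfl | rfl
    · exact comm_iff.1 h4
    · exact comm_iff.1 h0
    · exact comm_iff.1 h1
  exact MFive.Y_norm_N 1 2 (MFive.X_le_Y (by decide) (by decide) (by decide) (by decide) (by decide) hX)

/-- elements of `C(n) ∩ N(⟨p 0, p 1⟩)` permute `p 0, p 1` -/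
theorem pair_of {g : G} (hn : g * nn p * g⁻¹ = nn p) (hg : g ∈ normalizer (closure {p 0, p 1} : Set G)) :
    (g * p 0 * g⁻¹ = p 0 ∧ g * p 1 * g⁻¹ = p 1) ∨ (g * p 0 * g⁻¹ = p 1 ∧ g * p 1 * g⁻¹ = p 0) := by
  have h0 : g * p 0 * g⁻¹ ∈ closure {p 0, p 1} := (mem_normalizer_iff.1 hg _).1 (subset_closure (Or.inl rfl))
  have e1 : g * p 1 * g⁻¹ = g * p 0 * g⁻¹ * nn p := by
    rw [p_one h.toFive, cm, hn]
  rcases mem_Y h h0 with k | k | k | k
  · exfalso
    apply h.std.ne 0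
    calc p 0 = g⁻¹ * (g * p 0 * g⁻¹) * g := by group
      _ = 1 := by rw [k]; group
  · left
    exact ⟨k, by rw [e1, k, ← p_one h.toFive]⟩
  · right
    refine ⟨k, ?_⟩
    rw [e1, k, nn, h.std.comm 0 1, ← mul_assoc, h.std.sq, one_mul]
  · exfalso
    have k2 := conj_inj (k.trans hn.symm)
    exact h.std.mul_ne (i := 0) (j := 1) (by decide) 0 k2.symm

theorem H_le_C : centralizer ({nn p} : Set G) ⊓ centralizer (closure {p 0, p 1} : Set G) ⊔ Std.T (S : Subgroup G) p ≤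
    centralizer ({nn p} : Set G) := sup_le inf_le_left T_le_C

theorem H_le_norm : centralizer ({nn p} : Set G) ⊓ centralizer (closure {p 0, p 1} : Set G) ⊔ Std.T (S : Subgroup G) p ≤
    normalizer (closure {p 0, p 1} : Set G) :=
  sup_le (inf_le_right.trans (centralizer_le_normalizer _)) fun _ ht => norm_Y h (T_pair h.toFive ht)

/-- **`C_G(p 0, p 1) T` normalises `N_12`.** -/
theorem H_norm (nT : normalizer (Std.T (S : Subgroup G) p : Set G) ≤ normalizer (zl (S : Subgroup G) P : Set G))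
    (uni : Unn (S : Subgroup G) P p) :
    centralizer ({nn p} : Set G) ⊓ centralizer (closure {p 0, p 1} : Set G) ⊔ Std.T (S : Subgroup G) p ≤
      normalizer (MFive.N (normalizer (zl (S : Subgroup G) P : Set G)) (zv p) 1 2 : Set G) := by
  refine le_of_forall (S := Std.T (S : Subgroup G) p) le_sup_right ?_ ?_
  · rintro g ⟨hgH, hgT⟩
    exact normN_A h (nT hgT) (mem_cent.1 (H_le_C h hgH))
  · intro R hR hRH g hg
    by_cases ha : R ≤ centralizer ({aa p} : Set G)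
    · have hga := mem_cent.1 (ha hg)
      rcases pair_of h (mem_cent.1 (H_le_C h (hRH hg))) (H_le_norm h (hRH hg)) with e | e
      · exact normN_B h e.1 e.2 hga
      · obtain ⟨t, ht, ht0, ht1⟩ := exists_t h
        have hta := h.std.T_a ht
        have htn := (Std.mem_T.1 ht).2
        have h3 : t⁻¹ * g ∈ normalizer (MFive.N (normalizer (zl (S : Subgroup G) P : Set G)) (zv p) 1 2 : Set G) := by
          refine normN_B h ?_ ?_ ?_
          · calc t⁻¹ * g * p 0 * (t⁻¹ * g)⁻¹ = t⁻¹ * (g * p 0 * g⁻¹) * t := by group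
              _ = t⁻¹ * (t * p 0 * t⁻¹) * t := by rw [e.1, ht0]
              _ = p 0 := by group
          · calc t⁻¹ * g * p 1 * (t⁻¹ * g)⁻¹ = t⁻¹ * (g * p 1 * g⁻¹) * t := by group
              _ = t⁻¹ * (t * p 1 * t⁻¹) * t := by rw [e.2, ht1]
              _ = p 1 := by group
          · calc t⁻¹ * g * aa p * (t⁻¹ * g)⁻¹ = t⁻¹ * (g * aa p * g⁻¹) * t := by group
              _ = t⁻¹ * (t * aa p * t⁻¹) * t := by rw [hga, hta]
              _ = aa p := by group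
        have h4 : t ∈ normalizer (MFive.N (normalizer (zl (S : Subgroup G) P : Set G)) (zv p) 1 2 : Set G) :=
          normN_A h (nT (le_normalizer ht)) htn
        have h5 := mul_mem h4 h3
        rwa [mul_inv_cancel_left] at h5
    · exact normN_A h (uni R hR (hRH.trans (H_le_C h)) ha hg) (mem_cent.1 (H_le_C h (hRH hg)))

variable (nT : normalizer (Std.T (S : Subgroup G) p : Set G) ≤ normalizer (zl (S : Subgroup G) P : Set G))
  (uni : Unn (S : Subgroup G) P p)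
  (J : jj (o2 (centralizer ({nn p} : Set G) ⊓ centralizer ({aa p} : Set G))) ≤
    centralizer (zl (S : Subgroup G) P : Set G))
  (K : IsKGroup (centralizer ({nn p} : Set G))) (hML : ML.Final.MLK.{u, u}) (hE : ML.Ex.Two.Ext.{u, u})
include nT uni J K hML hE

/-- **FAIL**, pairs `{1, 2}`, `{3, 4}` -/
theorem fail12 {A : Subgroup G} (hA : A ∈ AA (o2 (centralizer ({nn p} : Set G) ⊓ centralizer ({aa p} : Set G))))
    (hc : A ≤ centralizer (MFive.N (normalizer (zl (S : Subgroup G) P : Set G)) (zv p) 1 2 : Set G)) :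
    A ≤ centralizer (MFive.NB (zv p) 1 2 3 4 : Set G) := by
  have h1 := (dtB h nT uni J K).fail hML hE (A := A) (by rw [cent_zpowers]; exact hA)
  refine le_trans (le_inf le_rfl ?_) h1
  refine hc.trans (centralizer_le ?_)
  refine TwoB.V_le_of ?_ (H_norm h nT uni)
  rw [zpowers_le]
  exact mul_mem (MFive.z_mem_N (L := normalizer (zl (S : Subgroup G) P : Set G)) (z := zv p) (c := 3) (by decide) (by decide))
    (MFive.z_mem_N (c := 4) (by decide) (by decide))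

/-- **The last case**: `MFive.FailHyp`. -/
theorem failHyp (hz : zc (o2 P) = zl (S : Subgroup G) P)
    (hX : ¬ MFive.X (zv p) 1 2 ≤ normalizer (zl (S : Subgroup G) P : Set G)) :
    ∃ g ∈ normalizer (zl (S : Subgroup G) P : Set G), MFive.FailHyp (normalizer (zl (S : Subgroup G) P : Set G))
      (TT (S : Subgroup G) p) (cj g (Std.T (S : Subgroup G) p)) (zv p) ∧
      MFive.DD (zv p) = cj g (centralizer ({nn p} : Set G) ⊓ centralizer ({aa p} : Set G)) := by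
  obtain ⟨σ, s1, s2, s3, s4⟩ : ∃ σ : Equiv.Perm (Fin 5), σ 1 = 0 ∧ σ 2 = 4 ∧ σ 3 = 1 ∧ σ 4 = 2 :=
    MFive.perm_four (by decide) (by decide) (by decide) (by decide) (by decide) (by decide) (by decide) (by decide)
      (by decide) (by decide) (by decide) (by decide)
  obtain ⟨g, hg, hgz⟩ := MFive.Inst.full_L h σ
  have hI : MFive.Ind (normalizer (zl (S : Subgroup G) P : Set G)) (zv p) g σ := ⟨hg, hgz⟩
  have e1 : cj g (centralizer ({nn p} : Set G)) = MFive.CC (zv p) 0 4 := by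
    have := cj_CC hI 1 2
    rw [s1, s2] at this
    exact this
  have e2 : cj g (centralizer ({aa p} : Set G)) = MFive.CC (zv p) 1 2 := by
    have := cj_CC hI 3 4
    rw [s3, s4] at this
    exact this
  have eD : MFive.DD (zv p) = cj g (centralizer ({nn p} : Set G) ⊓ centralizer ({aa p} : Set G)) := by
    rw [cj_inf, e1, e2]
    rfl
  have eN : MFive.N (normalizer (zl (S : Subgroup G) P : Set G)) (zv p) 0 4 =
      cj g (MFive.N (normalizer (zl (S : Subgroup G) P : Set G)) (zv p) 1 2) := by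
    rw [hI.N_eq, s1, s2]
  have eB : MFive.NB (zv p) 0 4 1 2 = cj g (MFive.NB (zv p) 1 2 3 4) := by
    rw [cj_NB hI, s1, s2, s3, s4]
  have hAA : ∀ A ∈ AA (o2 (MFive.DD (zv p))),
      cj g⁻¹ A ∈ AA (o2 (centralizer ({nn p} : Set G) ⊓ centralizer ({aa p} : Set G))) := by
    intro A hA
    have h1 := cj_mem_AA g⁻¹ hA
    rwa [← ChoiceSit.o2_cj, eD, cj_inv_cj] at h1
  have hcen : ∀ A X : Subgroup G, cj g⁻¹ A ≤ centralizer (X : Set G) → A ≤ centralizer ((cj g X : Subgroup G) : Set G) := by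
    intro A X h1
    have h2 := cj_mono g h1
    rwa [cj_cj_inv, cj_centralizer] at h2
  refine ⟨g, hg, ?_, eD⟩
  exact
    { fr := (MFive.Inst.pre h hML hz hX).fr5 hX
      sylB := by
        rw [← e1]
        refine ⟨cj_mono g T_le_C, isPGroup_cj g T_two, fun Q hQ hQ2 hTQ => ?_⟩
        have h1 := (syl h).2.2 (cj g⁻¹ Q) (by
          have := cj_mono g⁻¹ hQ
          rwa [cj_inv_cj] at this) (isPGroup_cj _ hQ2) (by
          have := cj_mono g⁻¹ hTQ
          rwa [cj_inv_cj] at this)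
        rw [← h1, cj_cj_inv]
      BC := by
        rw [← e2]
        exact cj_mono g (T_le_Ca h.toFive)
      p2 := by
        rw [eB]
        refine isPGroup_cj g ?_
        refine (ChoiceSit.isPGroup_o2 (centralizer ({nn p} : Set G))).to_le (le_trans ?_ h.DD_le_o2)
        exact TwoB.V_le_of (zpowers_le.2 (a_mem_DD h)) norm_DD
      jV := by
        intro A hA
        have h1 := (ChoiceBase.le_jj (hAA A hA)).trans J
        have h2 := hcen A _ h1
        rw [cj_eq_of_mem_normalizer hg, h.gen, centralizer_closure] at h2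
        rwa [MFive.Inst.range_zv]
      fail := by
        intro A hA hc
        rw [eB]
        refine hcen A _ (fail12 h nT uni J K hML hE (hAA A hA) ?_)
        have h1 := cj_mono g⁻¹ hc
        rwa [eN, ← cj_centralizer, cj_inv_cj] at h1 }

end light

end Cfsg.Agent.Omega.NO3S.LightB

end

end

-- merged: Cfsg.Agent.Mrg.Omega.NO3S.LightB.XL
section

section


/-!
# LightL (E), `n = 5`: `J(O₂(D))` centralises `V`, `X_12 ≤ N(V)` (helper904; helper604 #25469 (iii), helper411 #25478)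

By UNI `C_G(p 0, p 1) T ≤ N(V)`, so `U = ⟨a^(C_G(p 0, p 1) T)⟩ ≤ V` is centralised by `J(O)`; FAIL: `J(O)` centralises
`N = ⟨a^C⟩`, so `J(O) = J(O ∩ C(N))` is normalised by `C = C_G(n)`, and by `C_G(a)`.

* `H_le_L`, **`xl_false`**.
-/

set_option autoImplicit false
set_option linter.unusedSectionVars false

namespace Cfsg.Agent.Omega.NO3S.LightB

open Subgroup Cfsg Cfsg.Agent.ZN Cfsg.Agent.Omega.MinPar Cfsg.Agent.Omega.Frame Cfsg.Agent.Omega.FrameNOFF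
open Cfsg.Agent.ZN.ChoiceSit (Syl)
open Cfsg.Agent.ZN.ChoiceBase (AA cj cj_mono cj_cj_inv cj_inv_cj cj_mem_AA mem_normalizer_iff_cj cj_centralizer cj_inf
  jj_cj isPGroup_cj cj_eq_of_mem_normalizer)
open Cfsg.Agent.Omega.NO3S Cfsg.Agent.Omega.NTwo Cfsg.Agent.Omega.NO3S.Sym.Exit Cfsg.Agent.Omega.NO3S.Sym.Light
open Cfsg.Agent.Omega.NO3S.MFive.Inst (zv TT)
open Cfsg.Agent.MinSimple.MinParabolic (IsMinPar le_of_forall)
open Cfsg.Agent.MinSimple.VModule
open Cfsg.Agent.Omega.LFive (LF)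

universe u

variable {G : Type u} [Group G] [Finite G] {S : Sylow 2 G} {P : Subgroup G} {p : Fin 5 → G}

section light

variable (h : FiveL S P p)
include h

theorem X34_le (hX : MFive.X (zv p) 1 2 ≤ normalizer (zl (S : Subgroup G) P : Set G)) :
    MFive.X (zv p) 3 4 ≤ normalizer (zl (S : Subgroup G) P : Set G) := by
  obtain ⟨σ, s1, s2⟩ : ∃ σ : Equiv.Perm (Fin 5), σ 1 = 3 ∧ σ 2 = 4 := MFive.perm_two (by decide) (by decide)
  obtain ⟨g, hg, hgz⟩ := MFive.Inst.full_L h σ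
  have hI : MFive.Ind (normalizer (zl (S : Subgroup G) P : Set G)) (zv p) g σ := ⟨hg, hgz⟩
  have e := hI.X_eq 1 2
  rw [s1, s2] at e
  rw [← e, ← cj_eq_of_mem_normalizer (le_normalizer (H := normalizer (zl (S : Subgroup G) P : Set G)) hg)]
  exact cj_mono g hX

theorem le_L_B (hX : MFive.X (zv p) 1 2 ≤ normalizer (zl (S : Subgroup G) P : Set G)) {g : G}
    (h0 : g * p 0 * g⁻¹ = p 0) (h1 : g * p 1 * g⁻¹ = p 1) (ha : g * aa p * g⁻¹ = aa p) :
    g ∈ normalizer (zl (S : Subgroup G) P : Set G) := by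
  have h4 : g * p 4 * g⁻¹ = p 4 := by
    rw [← h.std.na, cm, ha, nn, cm, h0, h1]
  apply X34_le h hX
  rw [MFive.mem_X]
  intro k hk3 hk4
  have key : ∀ k : Fin 5, k ≠ 3 → k ≠ 4 → k = 0 ∨ k = 1 ∨ k = 2 := by decide
  rcases key k hk3 hk4 with rfl | rfl | rfl
  · exact comm_iff.1 h4
  · exact comm_iff.1 h0
  · exact comm_iff.1 h1

/-- **`C_G(p 0, p 1) T` normalises `V`.** -/
theorem H_le_L (nT : normalizer (Std.T (S : Subgroup G) p : Set G) ≤ normalizer (zl (S : Subgroup G) P : Set G))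
    (uni : Unn (S : Subgroup G) P p) (hX : MFive.X (zv p) 1 2 ≤ normalizer (zl (S : Subgroup G) P : Set G)) :
    centralizer ({nn p} : Set G) ⊓ centralizer (closure {p 0, p 1} : Set G) ⊔ Std.T (S : Subgroup G) p ≤
      normalizer (zl (S : Subgroup G) P : Set G) := by
  refine le_of_forall (S := Std.T (S : Subgroup G) p) le_sup_right ?_ ?_
  · rintro g ⟨-, hgT⟩
    exact nT hgT
  · intro R hR hRH g hg
    by_cases ha : R ≤ centralizer ({aa p} : Set G)
    · have hga := mem_cent.1 (ha hg)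
      rcases pair_of h (mem_cent.1 (H_le_C h (hRH hg))) (H_le_norm h (hRH hg)) with e | e
      · exact le_L_B h hX e.1 e.2 hga
      · obtain ⟨t, ht, ht0, ht1⟩ := exists_t h
        have hta := h.std.T_a ht
        have h3 : t⁻¹ * g ∈ normalizer (zl (S : Subgroup G) P : Set G) := by
          refine le_L_B h hX ?_ ?_ ?_
          · calc t⁻¹ * g * p 0 * (t⁻¹ * g)⁻¹ = t⁻¹ * (g * p 0 * g⁻¹) * t := by group
              _ = t⁻¹ * (t * p 0 * t⁻¹) * t := by rw [e.1, ht0]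
              _ = p 0 := by group
          · calc t⁻¹ * g * p 1 * (t⁻¹ * g)⁻¹ = t⁻¹ * (g * p 1 * g⁻¹) * t := by group
              _ = t⁻¹ * (t * p 1 * t⁻¹) * t := by rw [e.2, ht1]
              _ = p 1 := by group
          · calc t⁻¹ * g * aa p * (t⁻¹ * g)⁻¹ = t⁻¹ * (g * aa p * g⁻¹) * t := by group
              _ = t⁻¹ * (t * aa p * t⁻¹) * t := by rw [hga, hta]
              _ = aa p := by group
        have h5 := mul_mem (nT (le_normalizer ht)) h3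
        rwa [mul_inv_cancel_left] at h5
    · exact uni R hR (hRH.trans (H_le_C h)) ha hg

/-- the swap `s`: `C_G(a)` normalises what `C_G(n)` and `s` normalise -/
theorem ca_le {R : Subgroup G} (hC : centralizer ({nn p} : Set G) ≤ normalizer (R : Set G)) {s : G}
    (hs : s ∈ normalizer (R : Set G)) (hs2 : s * aa p * s⁻¹ = nn p) :
    centralizer ({aa p} : Set G) ≤ normalizer (R : Set G) := by
  intro g hg
  have h1 : s * g * s⁻¹ ∈ centralizer ({nn p} : Set G) := by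
    rw [mem_cent, ← hs2]
    calc s * g * s⁻¹ * (s * aa p * s⁻¹) * (s * g * s⁻¹)⁻¹ = s * (g * aa p * g⁻¹) * s⁻¹ := by group
      _ = s * aa p * s⁻¹ := by rw [mem_cent.1 hg]
  have h2 := mul_mem (mul_mem (inv_mem hs) (hC h1)) hs
  have e : s⁻¹ * (s * g * s⁻¹) * s = g := by group
  rwa [e] at h2

theorem swap_norm_D {s : G} (hs1 : s * nn p * s⁻¹ = aa p) (hs2 : s * aa p * s⁻¹ = nn p) :
    s ∈ normalizer ((centralizer ({nn p} : Set G) ⊓ centralizer ({aa p} : Set G) : Subgroup G) : Set G) := by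
  rw [mem_normalizer_iff_cj, cj_inf, cj_cent, cj_cent, hs1, hs2, inf_comm]

end light

/-- **`X_12 ≤ N(V)`, `J(O₂(D)) ≤ C(V)`.** -/
theorem xl_false (h : LF S P p) (hML : ML.Final.MLK.{u, u}) (hE : ML.Ex.Two.Ext.{u, u})
    (J : jj (o2 (centralizer ({nn p} : Set G) ⊓ centralizer ({aa p} : Set G))) ≤
      centralizer (zl (S : Subgroup G) P : Set G))
    (hX : MFive.X (zv p) 1 2 ≤ normalizer (zl (S : Subgroup G) P : Set G)) : False := by
  have hK : IsKGroup (centralizer ({nn p} : Set G)) := by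
    refine h.ctx.kproper _ fun e => ?_
    have h1 : nn p ∈ Subgroup.center G := by
      rw [Subgroup.mem_center_iff]
      intro g
      have h2 : g ∈ centralizer ({nn p} : Set G) := by rw [e]; exact mem_top g
      exact comm_iff.1 (mem_cent.1 h2)
    have h3 : nn p ∈ Subgroup.center G → False := by
      intro _
      obtain ⟨T₀⟩ : Nonempty (Sylow 2 G) := inferInstance
      refine h.light T₀ fun x _ => ?_
      have h2 : x ∈ centralizer ({nn p} : Set G) := by rw [e]; exact mem_top x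
      exact mem_cent.1 h2
    exact h3 h1
  have hD := dtB h.toFiveL h.nT h.uni J hK
  obtain ⟨O, hO⟩ : ∃ O : Subgroup G, O = o2 (centralizer ({nn p} : Set G) ⊓ centralizer ({aa p} : Set G)) := ⟨_, rfl⟩
  have hO' : o2 (centralizer ({nn p} : Set G) ⊓ centralizer (zpowers (aa p) : Set G)) = O := by
    rw [cent_zpowers, hO]
  rw [← hO] at J
  -- `J(O)` centralises `N`
  have h1 : jj O ≤ centralizer (NoFF.Basic.V (zpowers (aa p)) (centralizer ({nn p} : Set G)) : Set G) := by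
    rw [ChoiceBase.jj_eq]
    refine sSup_le fun A hA => ?_
    have h2 := hD.fail hML hE (A := A) (by rw [hO']; exact hA)
    refine le_trans (le_inf le_rfl ?_) h2
    refine ((ChoiceBase.le_jj hA).trans J).trans (centralizer_le ?_)
    exact TwoB.V_le_of (zpowers_le.2 h.toFiveL.a_mem) (H_le_L h.toFiveL h.nT h.uni hX)
  have h2 : jj (O ⊓ centralizer (NoFF.Basic.V (zpowers (aa p)) (centralizer ({nn p} : Set G)) : Set G)) = jj O :=
    ChoiceBase.jj_eq_of_jj_le (le_inf (ChoiceBase.jj_le O) h1) inf_le_left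
  have h3 : centralizer ({nn p} : Set G) ≤ normalizer (jj O : Set G) := by
    intro g hg
    have h4 := hD.C_Q hg
    rw [hO'] at h4
    rw [mem_normalizer_iff_cj, ← h2, ← jj_cj, cj_eq_of_mem_normalizer h4]
  obtain ⟨s, -, hs1, hs2, -⟩ := swap h.toFive
  have h5 : s ∈ normalizer (jj O : Set G) := by
    have h6 : cj s O = O := by
      rw [hO, ← ChoiceSit.o2_cj, cj_eq_of_mem_normalizer (swap_norm_D h.toFiveL hs1 hs2)]
    rw [mem_normalizer_iff_cj, ← jj_cj, h6]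
  have h6 := ca_le h.toFiveL h3 h5 hs2
  have hO2 : IsPGroup 2 O := by rw [hO]; exact ChoiceSit.isPGroup_o2 _
  refine h.false_of_local (R := jj O) (hO2.to_le (ChoiceBase.jj_le O)) ?_ (inf_le_left.trans h3)
    (inf_le_right.trans h3) (inf_le_right.trans h6)
  refine CaseTwo.jj_ne_bot hO2 ?_
  intro e
  have h7 := (DD_le_o2D h.toFiveL) (n_mem_DD h.toFiveL)
  rw [← hO, e, mem_bot] at h7
  exact h.std.n_ne_one h7

end Cfsg.Agent.Omega.NO3S.LightB

end

section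


/-!
# LightL (E), `n = 5`: `J(O₂(D))` centralises `V` (helper904)

Case (C) of helper411 #25060 = FAIL (`TwoB.DtB.fail`, helper286) over helper337's frame `LF`:

* `W0_le_o2D` : `W_0 ≤ O₂(D)`; `cent_W0` : if no `A ≤ O₂(X_12)` offends on `W_0`, `J(O₂(D))` centralises `W_0`;
* `false_of_cent` : if every `A ∈ AA(O₂(C_G(a)))` centralises `⟨a^(C_G(p 0, p 1) T)⟩`, contradiction;
* `ee_false` : the case `EE = ∅` (helper398 #25454, helper604 #25469 (ii));
* **`false_of_J (h : LF S P p) : MLK → Ext → J(O₂(D)) ≤ C(V) → False`** (with helper736's `FailHyp.local_off`).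
-/

set_option autoImplicit false
set_option linter.unusedSectionVars false

namespace Cfsg.Agent.Omega.NO3S.LightB

open Subgroup Cfsg Cfsg.Agent.Omega.MinPar Cfsg.Agent.Omega.Frame Cfsg.Agent.Omega.FrameNOFF
open Cfsg.Agent.ZN (o2 jj zc zl)
open Cfsg.Agent.ZN.ChoiceSit (Syl)
open Cfsg.Agent.ZN.ChoiceBase (AA cj cj_mono cj_cj_inv cj_inv_cj cj_mem_AA mem_normalizer_iff_cj cj_centralizer cj_inf
  jj_cj isPGroup_cj cj_eq_of_mem_normalizer jj_eq le_jj jj_le AA_nonempty)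
open Cfsg.Agent.ZN.ChoiceSit (o2_cj)
open Cfsg.Agent.Omega.NO3S Cfsg.Agent.Omega.NTwo Cfsg.Agent.Omega.NO3S.Sym.Exit Cfsg.Agent.Omega.NO3S.Sym.Light
open Cfsg.Agent.Omega.NO3S.MFive.Inst (zv TT)
open Cfsg.Agent.MinSimple.MinParabolic (IsMinPar le_of_forall)
open Cfsg.Agent.MinSimple.VModule
open Cfsg.Agent.Omega.LFive (LF dd cn ca ll)
open Cfsg.Agent.Omega.EK3.Rank
open Cfsg.Agent.Omega.NO3S.EThree (Offd)

universe u

variable {G : Type u} [Group G] [Finite G] {S : Sylow 2 G} {P : Subgroup G} {p : Fin 5 → G}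

section light

variable (h : FiveL S P p)
include h

/-- `U_z = ⟨V^C_G(p 4)⟩` -/
theorem U_comm : DD (zl (S : Subgroup G) P) (p 4) ≤ centralizer (DD (zl (S : Subgroup G) P) (p 4) : Set G) :=
  NoFF.Basic.comm_mono h.toHyp.W_comm h.toFive.W_le_CC h.toFive.W_le_CC

theorem U_sq : ∀ v ∈ DD (zl (S : Subgroup G) P) (p 4), v ^ 2 = 1 := fun v hv =>
  h.toHyp.geo.W_sq v (h.toFive.W_le_CC hv)

theorem U_two : IsPGroup 2 (DD (zl (S : Subgroup G) P) (p 4)) := fun x =>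
  ⟨1, Subtype.ext (by rw [pow_one]; exact U_sq h x x.2)⟩

theorem dd_le : centralizer ({nn p} : Set G) ⊓ centralizer ({aa p} : Set G) ≤ centralizer ({p 4} : Set G) := by
  rintro g ⟨h1, h2⟩
  rw [mem_cent, ← h.std.na, cm, mem_cent.1 h1, mem_cent.1 h2]

theorem U_le_o2D : DD (zl (S : Subgroup G) P) (p 4) ≤
    o2 (centralizer ({nn p} : Set G) ⊓ centralizer ({aa p} : Set G)) := by
  refine Cfsg.Agent.ZN.ChoiceSit.le_o2 (U_two h) (le_inf ?_ ?_) ((dd_le h).trans cent_le_normalizer_DD)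
  · intro x hx
    rw [mem_centralizer_singleton_iff]
    exact (mem_centralizer_iff.1 (U_comm h hx) _ (le_DD h.n_mem)).symm
  · intro x hx
    rw [mem_centralizer_singleton_iff]
    exact (mem_centralizer_iff.1 (U_comm h hx) _ (le_DD h.a_mem)).symm

theorem W0_le : MFive.W (normalizer (zl (S : Subgroup G) P : Set G)) (zv p) 0 ≤ DD (zl (S : Subgroup G) P) (p 4) := by
  refine MFive.nc_le ?_ ?_
  · rw [MFive.Inst.V_zv h]
    exact le_DD
  · exact (MFive.M_le _ _ 0).trans cent_le_normalizer_DD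

theorem W0_el : IsElementaryAbelian 2 (MFive.W (normalizer (zl (S : Subgroup G) P : Set G)) (zv p) 0) :=
  ⟨⟨⟨fun x y => Subtype.ext (mem_centralizer_iff.1 (U_comm h (W0_le h y.2)) x (W0_le h x.2))⟩⟩,
    fun x hx => U_sq h x (W0_le h hx)⟩

theorem X12_le : MFive.X (zv p) 1 2 ≤ centralizer ({nn p} : Set G) ⊓ centralizer ({aa p} : Set G) := by
  intro x hx
  obtain ⟨h4, h2, h3⟩ := MFive.Inst.mem_X12.1 hx
  refine ⟨mem_cent.2 ?_, mem_cent.2 ?_⟩
  · rw [MFive.Inst.n_eq h, cm, cm, comm_iff.2 h2, comm_iff.2 h3, comm_iff.2 h4]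
  · rw [aa, cm, comm_iff.2 h2, comm_iff.2 h3]

/-- `O₂(D) ∩ C(V) ≤ O₂(X_12)` -/
theorem le_o2X {A : Subgroup G} (hA : A ≤ o2 (centralizer ({nn p} : Set G) ⊓ centralizer ({aa p} : Set G)))
    (hAV : A ≤ centralizer (zl (S : Subgroup G) P : Set G)) : A ≤ o2 (MFive.X (zv p) 1 2) := by
  refine le_trans (le_inf hA ?_) (NO3S.EMany.Low.InpG.o2_le_o2_of_le (X12_le h))
  intro x hx
  have h1 : ∀ i, x * p i = p i * x := fun i => (mem_centralizer_iff.1 (hAV hx) _ (h.p_mem i)).symm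
  exact MFive.Inst.mem_X12.2 ⟨h1 4, h1 2, h1 3⟩

/-- no offender of `O₂(X_12)` on `W_0`: `J(O₂(D))` centralises `W_0` -/
theorem cent_W0 (J : jj (o2 (centralizer ({nn p} : Set G) ⊓ centralizer ({aa p} : Set G))) ≤
      centralizer (zl (S : Subgroup G) P : Set G))
    (hne : ¬ ∃ A ≤ o2 (MFive.X (zv p) 1 2), IsElementaryAbelian 2 A ∧
      Offd (MFive.W (normalizer (zl (S : Subgroup G) P : Set G)) (zv p) 0) A) :
    jj (o2 (centralizer ({nn p} : Set G) ⊓ centralizer ({aa p} : Set G))) ≤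
      centralizer (MFive.W (normalizer (zl (S : Subgroup G) P : Set G)) (zv p) 0 : Set G) := by
  rw [jj_eq]
  refine sSup_le fun A hA => ?_
  by_contra hmv
  have hAX := le_o2X h hA.2.1 ((le_jj hA).trans J)
  refine hne ⟨A, hAX, hA.1, offd_of_mem (W0_el h) ((W0_le h).trans (U_le_o2D h)) hA ?_ le_rfl hmv⟩
  refine hAX.trans ((Cfsg.Agent.ZN.ChoiceSit.o2_le _).trans ?_)
  exact (MFive.X_le_M (L := normalizer (zl (S : Subgroup G) P : Set G)) (z := zv p) (a := 0) (k := 1) (l := 2)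
    (by decide) (by decide) (by decide)).trans (MFive.M_norm_W 0)

end light

/-- If every `A ∈ AA(O₂(C_G(a)))` centralises `⟨a^(C_G(p 0, p 1) T)⟩`: contradiction. (helper286's `LF.false_of_JU`.) -/
theorem false_of_cent (h : LF S P p) (hML : ML.Final.MLK.{u, u}) (hE : ML.Ex.Two.Ext.{u, u})
    (hJ : jj (o2 (dd p)) ≤ centralizer (zl (S : Subgroup G) P : Set G)) (hK : IsKGroup (cn p))
    (hU : (∀ A ∈ AA (o2 (ca p)), A ∈ AA (o2 (dd p))) → ∀ A ∈ AA (o2 (ca p)),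
      A ≤ centralizer (NoFF.Basic.V (zpowers (aa p)) (cn p ⊓ centralizer (closure {p 0, p 1} : Set G) ⊔
        Std.T (S : Subgroup G) p) : Set G)) : False := by
  have D := dtB h.toFiveL h.nT h.uni hJ hK
  have hdd : cn p ⊓ centralizer (zpowers (aa p) : Set G) = dd p := by rw [cent_zpowers]
  set N := NoFF.Basic.V (zpowers (aa p)) (cn p) with hN
  have hNe : IsElementaryAbelian 2 N := NO3S.EThree.ExactA.eab_mono D.eM D.NM
  have hNO : N ≤ o2 (dd p) := by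
    rw [← hdd]
    exact D.NM.trans D.MO
  have noN : NoOn (o2 (dd p)) N := by
    rw [← hdd]
    exact D.noOn hML D.TC le_rfl
  have hQ : o2 (dd p) ⊓ centralizer (N : Set G) = o2 (cn p) := by
    rw [← hdd]
    exact D.Q_eq
  obtain ⟨s, hsS, hs1, hs2, hsT⟩ := swap h.toFive
  have csn : cj s (cn p) = ca p := by
    rw [cn, ca, cj_cent, hs1]
  have csa : cj s (ca p) = cn p := by
    rw [cn, ca, cj_cent, hs2]
  have cdd : cj s (dd p) = dd p := by
    rw [dd, cj_inf, csn, csa, inf_comm]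
  have hAn : ∀ A ∈ AA (o2 (cn p)), A ∈ AA (o2 (dd p)) := by
    intro A hA
    rw [← hQ] at hA
    exact mem_AA_of_inf hNe hNO noN hA
  have hAa : ∀ A ∈ AA (o2 (ca p)), A ∈ AA (o2 (dd p)) := by
    intro A hA
    have h1 : cj s⁻¹ A ∈ AA (o2 (cn p)) := by
      have h2 := cj_mem_AA s⁻¹ hA
      rwa [← o2_cj, ← csn, cj_inv_cj] at h2
    have h2 := cj_mem_AA s (hAn _ h1)
    rwa [cj_cj_inv, ← o2_cj, cdd] at h2
  have hc : ∀ A ∈ AA (o2 (ca p)), A ≤ centralizer (N : Set G) := by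
    intro A hA
    have hAO : A ∈ AA (o2 (cn p ⊓ centralizer (zpowers (aa p) : Set G))) := by
      rw [hdd]
      exact hAa A hA
    exact le_trans (le_inf le_rfl (hU hAa A hA)) (D.fail hML hE hAO)
  -- `J(Q_a) = J(Q_n)`
  have h1 : ∀ A ∈ AA (o2 (ca p)), A ∈ AA (o2 (cn p)) := by
    intro A hA
    rw [← hQ]
    exact mem_inf_of_mem_AA hNe hNO noN (hAa A hA) (hc A hA)
  have h2 : ∀ A ∈ AA (o2 (cn p)), A ∈ AA (o2 (ca p)) := by
    intro A hA
    have h3 : cj s A ∈ AA (o2 (ca p)) := by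
      have h4 := cj_mem_AA s hA
      rwa [← o2_cj, csn] at h4
    have h4 := cj_mem_AA s⁻¹ (h1 _ h3)
    rwa [cj_inv_cj, ← o2_cj, ← csa, cj_inv_cj] at h4
  have e : AA (o2 (cn p)) = AA (o2 (ca p)) := Set.Subset.antisymm h2 h1
  have hn : cn p ≤ normalizer (jj (o2 (cn p)) : Set G) := by
    intro g hg
    rw [mem_normalizer_iff_cj, ← jj_cj, cj_eq_of_mem_normalizer (le_normalizer_o2 _ hg)]
  have ha : ca p ≤ normalizer (jj (o2 (cn p)) : Set G) := by
    rw [jj_eq, e, ← jj_eq]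
    intro g hg
    rw [mem_normalizer_iff_cj, ← jj_cj, cj_eq_of_mem_normalizer (le_normalizer_o2 _ hg)]
  refine h.false_of_local (R := jj (o2 (cn p))) ((Cfsg.Agent.ZN.ChoiceSit.isPGroup_o2 _).to_le (jj_le _)) ?_ (inf_le_left.trans hn)
    (inf_le_right.trans hn) (inf_le_right.trans ha)
  refine Cfsg.Agent.ZN.CaseTwo.jj_ne_bot (Cfsg.Agent.ZN.ChoiceSit.isPGroup_o2 _) ?_
  intro e
  have h7 := h.DD_le_o2 (n_mem_DD h.toFiveL)
  rw [e, mem_bot] at h7
  exact h.std.n_ne_one h7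

/-- **`EE = ∅`**: no offender of `O₂(X_12)` on `W_0`. -/
theorem ee_false (h : LF S P p) (hML : ML.Final.MLK.{u, u}) (hE : ML.Ex.Two.Ext.{u, u})
    (hJ : jj (o2 (dd p)) ≤ centralizer (zl (S : Subgroup G) P : Set G)) (hK : IsKGroup (cn p))
    (hne : ¬ ∃ A ≤ o2 (MFive.X (zv p) 1 2), IsElementaryAbelian 2 A ∧
      Offd (MFive.W (normalizer (zl (S : Subgroup G) P : Set G)) (zv p) 0) A) : False := by
  have jw := cent_W0 h.toFiveL hJ hne
  refine false_of_cent h hML hE hJ hK fun hAa A hA => ?_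
  -- `g` interchanges `p 1` and `p 4` and fixes `p 2`, `p 3`
  obtain ⟨σ, s0, s2, s3, s4⟩ : ∃ σ : Equiv.Perm (Fin 5), σ 0 = 2 ∧ σ 2 = 0 ∧ σ 3 = 3 ∧ σ 4 = 4 :=
    MFive.perm_four (by decide) (by decide) (by decide) (by decide) (by decide) (by decide) (by decide) (by decide)
      (by decide) (by decide) (by decide) (by decide)
  obtain ⟨g, hg, hgz⟩ := MFive.Inst.full_L h.toFiveL σ
  have hI : MFive.Ind (normalizer (zl (S : Subgroup G) P : Set G)) (zv p) g σ := ⟨hg, hgz⟩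
  have gaa : g ∈ ca p := by
    have e3 := hgz 3
    have e4 := hgz 4
    rw [s3, MFive.Inst.zv3] at e3
    rw [s4, MFive.Inst.zv4] at e4
    rw [mem_cent, aa, cm, e3, e4]
  have h1 : cj g⁻¹ A ∈ AA (o2 (ca p)) := by
    have h2 := cj_mem_AA g⁻¹ hA
    rwa [cj_eq_of_mem_normalizer (le_normalizer_o2 _ (inv_mem gaa))] at h2
  have h2 := cj_mono g ((le_jj (hAa _ h1)).trans jw)
  rw [cj_cj_inv, cj_centralizer, hI.W_eq, s0] at h2
  refine h2.trans (centralizer_le ?_)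
  refine le_trans ?_ (MFive.N_le_W_right (L := normalizer (zl (S : Subgroup G) P : Set G)) (z := zv p) 1 2)
  refine TwoB.V_le_of ?_ (H_norm h.toFiveL h.nT h.uni)
  rw [zpowers_le]
  exact mul_mem (MFive.z_mem_N (L := normalizer (zl (S : Subgroup G) P : Set G)) (z := zv p) (c := 3) (by decide) (by decide))
    (MFive.z_mem_N (c := 4) (by decide) (by decide))

theorem kg_n (h : FiveL S P p) : IsKGroup (cn p) := by
  refine h.ctx.kproper _ fun e => ?_
  obtain ⟨T₀⟩ : Nonempty (Sylow 2 G) := inferInstance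
  refine h.light T₀ fun x _ => ?_
  have h2 : x ∈ cn p := by rw [e]; exact mem_top x
  exact mem_cent.1 h2

/-- **Case (C)**: `J(O₂(D))` centralises `V`. -/
theorem false_of_J (h : LF S P p) (hML : ML.Final.MLK.{u, u}) (hE : ML.Ex.Two.Ext.{u, u})
    (hJ : jj (o2 (dd p)) ≤ centralizer (zl (S : Subgroup G) P : Set G)) : False := by
  have hK := kg_n h.toFiveL
  by_cases hX : MFive.X (zv p) 1 2 ≤ normalizer (zl (S : Subgroup G) P : Set G)
  · exact xl_false h hML hE hJ hX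
  · by_cases hne : ∃ A ≤ o2 (MFive.X (zv p) 1 2), IsElementaryAbelian 2 A ∧
        Offd (MFive.W (normalizer (zl (S : Subgroup G) P : Set G)) (zv p) 0) A
    · obtain ⟨g, hg, f, eD⟩ := failHyp h.toFiveL h.nT h.uni hJ hK hML hE h.zq hX
      obtain ⟨R, hR, hR2, hL, hD⟩ := f.local_off hne
      refine h.false_of_local' hR2 hR ?_ hL
      rw [eD] at hD
      have h1 := cj_mono g⁻¹ hD
      rw [cj_inv_cj, Cfsg.Agent.ZN.ChoiceBase.cj_normalizer,
        cj_eq_of_mem_normalizer (hL (inv_mem hg))] at h1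
      exact h1
    · exact ee_false h hML hE hJ hK hne

end Cfsg.Agent.Omega.NO3S.LightB

end

end

-- merged: Cfsg.Agent.Mrg.Omega.LFive.FalseLF
section

/-!
# LightL (E), `n = 5`: there is no `LF S P p`

* `LF.false_of` : 904's `false_of_J` (`J(O₂(D))` centralises `V`), 427's `local_five` and `LF.dd_le` (it does not);
* `falseLF : MLK → Ext → FalseLF`.
-/

set_option autoImplicit false

namespace Cfsg.Agent.Omega.LFive

open Subgroup Cfsg Cfsg.Agent.ZN Cfsg.Agent.ZN.ChoiceBase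

universe u

/-- **LightL (E), `n = 5`** -/
theorem LF.false_of {G : Type u} [Group G] [Finite G] {S : Sylow 2 G} {P : Subgroup G} {p : Fin 5 → G}
    (h : LF S P p) (hML : ML.Final.MLK.{u, u}) (hE : ML.Ex.Two.Ext.{u, u}) : False := by
  by_cases hJ : jj (o2 (dd p)) ≤ centralizer (zl (S : Subgroup G) P : Set G)
  · exact NO3S.LightB.false_of_J h hML hE hJ
  · obtain ⟨R, hR, hR2, hL, hX⟩ := NO3S.MFive.Inst.local_five h.toFiveL hML h.zq
    exact h.false_of_local' hR2 hR (h.dd_le hL hX hJ) hL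

/-- **`FalseLF`** -/
theorem falseLF (hML : ML.Final.MLK.{u, u}) (hE : ML.Ex.Two.Ext.{u, u}) : FalseLF.{u} :=
  fun _ _ _ _ _ _ h => h.false_of hML hE

end Cfsg.Agent.Omega.LFive

end
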